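import Cfsg.Agent.H63.Flavell.Climb

/-!
A non-cyclic abelian group acting coprimely centralizes `O^p(F*(G))` if it does so in every fixed-point
subgroup.
-/

set_option autoImplicit false
set_option linter.unusedSectionVars false
set_option linter.style.haveILetI false

namespace Cfsg.Agent.H63.Flavell

open Subgroup
open H70.Wielandt (opIn opIn_le le_normalizer_opIn isPGroup_opIn le_opIn_of_normalized)
open scoped commutatorElement

universe u

variable {p : ℕ} [Fact p.Prime]

/-- An element of order prime to `p` commutes with whatever moves it only by central `p`-elements. -/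
theorem commute_of_central {X : Type u} [Group X] [Finite X] {g a : X} {T : Subgroup X} (hTp : IsPGroup p T)
    (hgc : (orderOf g).Coprime p) (hz : a * g * a⁻¹ * g⁻¹ ∈ T) (hT : ∀ t ∈ T, Commute g t) : Commute a g := by
  obtain ⟨k, hk⟩ := hTp ⟨_, hz⟩
  have hk' : (a * g * a⁻¹ * g⁻¹) ^ p ^ k = 1 := by simpa using congrArg Subtype.val hk
  have h1 : (a * g * a⁻¹ * g⁻¹) ^ orderOf g = 1 := by
    have e : a * g * a⁻¹ = (a * g * a⁻¹ * g⁻¹) * g := by group
    have h : (a * g * a⁻¹) ^ orderOf g = 1 := by rw [conj_pow, pow_orderOf_eq_one, mul_one, mul_inv_cancel]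
    rw [e, (hT _ hz).symm.mul_pow, pow_orderOf_eq_one, mul_one] at h
    exact h
  have := pow_gcd_eq_one.mpr ⟨h1, hk'⟩
  rw [hgc.pow_right k, pow_one, mul_inv_eq_one, mul_inv_eq_iff_eq_mul] at this
  exact this

theorem resCen_aux (hp : 5 ≤ p) : ∀ (n : ℕ) {X : Type u} [Group X] [Finite X] (G R : Subgroup X),
    Hyp p G R → Nat.card G ≤ n → ResCen p G R := by
  intro n
  induction n using Nat.strong_induction_on with
  | _ n ih =>
  intro X _ _ G R h hn
  by_cases hL : ofOf p G = G
  swap
  · set L := ofOf p G with hLdef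
    have hLG : L ≤ G := ofOf_le G
    have hn' : Nat.card L < n := by
      refine lt_of_lt_of_le ?_ hn
      exact lt_of_le_of_ne (card_le_of_le hLG) fun e => hL (eq_of_le_of_card_ge hLG e.ge)
    have hGL : G ≤ normalizer (L : Set X) := le_normalizer.trans le_normalizer_ofOf
    have hgL : ResCen p L R := ih _ hn' L R
      ⟨h.norm.trans le_normalizer_ofOf, h.cop_of_le hLG, h.abel, h.nc, fun a ha ha1 =>
        (h.loc a ha ha1).normal (inf_le_inf_right _ hLG) (le_normalizer_iff.mpr fun m hm x hx =>
          ⟨Coprime.conj_mem (hGL hm.1) hx.1,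
            (centralizer ({a} : Set X)).mul_mem ((centralizer ({a} : Set X)).mul_mem hm.2 hx.2)
              ((centralizer ({a} : Set X)).inv_mem hm.2)⟩)⟩ le_rfl
    refine hgL.trans (centralizer_le (ofOf_le_iff.mpr fun g hg hc => mem_ofOf ?_ hc))
    rw [fsOf_normal_le hLG hGL]
    exact ⟨hg, mem_ofOf hg hc⟩
  haveI := h.abel
  set T := opIn p G with hTdef
  have hTG : T ≤ G := opIn_le p G
  have hTp : IsPGroup p T := isPGroup_opIn G
  have hGT : G ≤ centralizer (T : Set X) := hL ▸ ofOf_le_centralizer_opIn G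
  set H := G ⊔ R with hH
  have hGH : G ≤ H := le_sup_left
  have hRH : R ≤ H := le_sup_right
  have hHG : H ≤ normalizer (G : Set X) := sup_le le_normalizer h.norm
  have hHT : H ≤ normalizer (T : Set X) := le_normalizer_opIn_of hHG
  set T' := T.subgroupOf H with hT'
  haveI : T'.Normal := normal_subgroupOf_of_le_normalizer hHT
  set π := QuotientGroup.mk' T' with hπ
  set Gq := (G.subgroupOf H).map π with hGq
  set Rq := (R.subgroupOf H).map π with hRq
  have hker : ∀ {x : ↥H}, π x = 1 ↔ (x : X) ∈ T := fun {x} => QuotientGroup.eq_one_iff x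
  have hcomm : ∀ {x y : ↥H}, Commute (π x) (π y) ↔ (x : X) * y * (x : X)⁻¹ * (y : X)⁻¹ ∈ T := fun {x y} => by
    rw [← commutatorElement_eq_one_iff_commute, ← map_commutatorElement, hker]
    rfl
  have hRinj : Function.Injective (π.comp (inclusion hRH)) := by
    rw [injective_iff_map_eq_one]
    intro x hx
    have hxT : (x : X) ∈ T := hker.mp hx
    have := Coprime.inf_eq_bot h.cop
    exact Subtype.ext ((Subgroup.eq_bot_iff_forall _).mp this x ⟨x.2, hTG hxT⟩)
  have hdG : Nat.card Gq ∣ Nat.card G :=
    (card_map_dvd _ π).trans (Nat.card_congr (subgroupOfEquivOfLe hGH).toEquiv).dvd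
  have hdR : Nat.card Rq ∣ Nat.card R :=
    (card_map_dvd _ π).trans (Nat.card_congr (subgroupOfEquivOfLe hRH).toEquiv).dvd
  have hq : Hyp p Gq Rq := by
    refine ⟨?_, Nat.Coprime.coprime_dvd_left hdR (h.cop.coprime_dvd_right hdG), ?_, ?_, ?_⟩
    · refine le_normalizer_iff.mpr ?_
      rintro _ ⟨b, hb, rfl⟩ _ ⟨x, hx, rfl⟩
      exact ⟨b * x * b⁻¹, (Coprime.conj_mem (h.norm hb) hx : ((b : X) * x * (b : X)⁻¹) ∈ G), by simp⟩
    · refine ⟨⟨?_⟩⟩
      rintro ⟨_, x, hx, rfl⟩ ⟨_, y, hy, rfl⟩
      refine Subtype.ext ?_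
      show π x * π y = π y * π x
      rw [← map_mul, ← map_mul]
      exact congrArg π (Subtype.ext (setLike_mul_comm (show (x : X) ∈ R from hx) (show (y : X) ∈ R from hy)))
    · intro hcyc
      refine h.nc ?_
      let f : R →* Rq := (π.comp (inclusion hRH)).codRestrict Rq fun x => ⟨inclusion hRH x, x.2, rfl⟩
      exact isCyclic_of_injective f fun x y e => hRinj (congrArg Subtype.val e)
    · rintro _ ⟨a, haR, rfl⟩ ha1
      have haX : (a : X) ≠ 1 := fun e => ha1 (hker.mpr (e ▸ T.one_mem))
      set M := G ⊓ centralizer {(a : X)} with hM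
      have hMG : M ≤ G := inf_le_left
      have hMH : M ≤ H := hMG.trans hGH
      have hMq : Gq ⊓ centralizer {π a} = (M.subgroupOf H).map π := by
        refine le_antisymm ?_ ?_
        · rintro _ ⟨⟨x, hx, rfl⟩, hc⟩
          have hle : zpowers a ≤ (centralizer {π x}).comap π := zpowers_le.mpr
            (mem_centralizer_singleton_iff.mpr (mem_centralizer_singleton_iff.mp hc).symm)
          obtain ⟨c, hc', hcT⟩ := Coprime.exists_centralizer_mem_of_comm_mem (A := zpowers (a : X)) (K := G)
            ((zpowers_le.mpr (show (a : X) ∈ R from haR)).trans h.norm)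
            (h.cop.coprime_dvd_left (card_dvd_of_le (zpowers_le.mpr (show (a : X) ∈ R from haR))))
            (Or.inl (Coprime.isSolvable_zpowers _)) hTG (le_normalizer.trans (le_normalizer_opIn_of le_rfl))
            ((zpowers_le.mpr (show (a : X) ∈ R from haR)).trans (le_normalizer_opIn_of h.norm)) (show (x : X) ∈ G from hx) (by
              rintro _ ⟨i, rfl⟩
              have hi : π (a ^ i) ∈ centralizer {π x} := hle ⟨i, rfl⟩
              have := hcomm.mp (mem_centralizer_singleton_iff.mp hi : Commute (π (a ^ i)) (π x))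
              simpa using this)
          refine ⟨⟨c, hGH hc'.1⟩, ⟨hc'.1, ?_⟩, ?_⟩
          · exact mem_centralizer_singleton_iff.mpr (mem_centralizer_iff.mp hc'.2 _ (mem_zpowers _)).symm
          · exact (QuotientGroup.eq.mpr (show x⁻¹ * ⟨c, hGH hc'.1⟩ ∈ T' from hcT)).symm
        · rintro _ ⟨x, hx, rfl⟩
          refine ⟨⟨x, hx.1, rfl⟩, mem_centralizer_singleton_iff.mpr ?_⟩
          rw [← map_mul, ← map_mul]
          exact congrArg π (Subtype.ext (mem_centralizer_singleton_iff.mp hx.2))
      rw [hMq]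
      rintro _ ⟨b, hbR, rfl⟩
      refine mem_centralizer_iff.mpr ?_
      have hle : ofOf p ((M.subgroupOf H).map π) ≤ centralizer {π b} := by
        refine ofOf_le_iff.mpr fun y hy hyc => ?_
        obtain ⟨m, hm, rfl⟩ := fsOf_le _ hy
        obtain ⟨k, hk⟩ := Fusion.exists_pow_coprime (p := p) m
        set g := m ^ p ^ k with hgdef
        have hgM : (g : X) ∈ M := (M.subgroupOf H).pow_mem hm _
        have hgT : zpowers (g : X) ≤ centralizer (opIn p M : Set X) := by
          refine Coprime.le_centralizer_of_commutator_le (N := T)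
            ((zpowers_le.mpr hgM).trans (le_normalizer_opIn p M)) ?_ ?_
            ((zpowers_le.mpr (hMG hgM)).trans hGT)
          · obtain ⟨l, hl⟩ := IsPGroup.iff_card.mp (isPGroup_opIn (p := p) M)
            rw [Nat.card_zpowers, hl, Subgroup.orderOf_coe]
            exact hk.pow_right l
          · refine Subgroup.commutator_le.mpr fun t ht z hz => ?_
            obtain ⟨i, rfl⟩ := hz
            have htH : t ∈ H := hMH (opIn_le p M ht)
            have hpt : π ⟨t, htH⟩ ∈ opIn p ((M.subgroupOf H).map π) := by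
              have hle2 : ((opIn p M).subgroupOf H).map π ≤ opIn p ((M.subgroupOf H).map π) := by
                refine le_opIn_of_normalized (map_mono fun z hz => opIn_le p M hz) ?_
                  (((isPGroup_opIn M).comap_of_injective H.subtype H.subtype_injective).map π)
                refine le_normalizer_iff.mpr ?_
                rintro _ ⟨u, hu, rfl⟩ _ ⟨v, hv, rfl⟩
                exact ⟨u * v * u⁻¹, (Coprime.conj_mem (le_normalizer_opIn p M hu) hv : ((u : X) * v * (u : X)⁻¹) ∈ opIn p M),
                  by simp⟩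
              exact hle2 ⟨_, ht, rfl⟩
            have hyT := ofOf_le_centralizer_opIn (p := p) _ (mem_ofOf hy hyc)
            have hc1 : Commute (π ⟨t, htH⟩) (π m) := mem_centralizer_iff.mp hyT _ hpt
            have hc2 : Commute (π ⟨t, htH⟩) (π (g ^ i)) := by
              rw [map_zpow, hgdef, map_pow]; exact (hc1.pow_right _).zpow_right _
            have h3 := hcomm.mp hc2
            simpa [commutatorElement_def] using h3
        have hgb : Commute (b : X) (g : X) := (h.loc a haR haX).commute (h.norm_fix haR) (h.cop_of_le hMG)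
          h.solv hgM (by rwa [Subgroup.orderOf_coe]) (hgT (mem_zpowers _)) hbR
        have hgb' : Commute (π b) (π g) := (show Commute b g from Subtype.ext hgb.eq).map π
        obtain ⟨l, hl⟩ := exists_pow_eq_self_of_coprime (x := π m) (n := p ^ k) (hyc.pow_right k).symm
        refine mem_centralizer_singleton_iff.mpr ?_
        rw [← hl, ← map_pow, ← map_pow, ← hgdef, map_pow]
        exact (hgb'.pow_right l).eq.symm
      exact fun y hy => mem_centralizer_singleton_iff.mp (hle hy)
  have hTq : opIn p Gq = ⊥ := by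
    set K : Subgroup ↥H := G.subgroupOf H ⊓ (opIn p Gq).comap π with hK
    have hKp : IsPGroup p K := by
      rintro ⟨x, hx⟩
      obtain ⟨k, hk⟩ := isPGroup_opIn (p := p) Gq ⟨π x, hx.2⟩
      have hk' : π (x ^ p ^ k) = 1 := by rw [map_pow]; simpa using congrArg Subtype.val hk
      obtain ⟨l, hl⟩ := hTp ⟨_, hker.mp hk'⟩
      refine ⟨k + l, Subtype.ext (Subtype.ext ?_)⟩
      have := congrArg Subtype.val hl
      simp only [SubgroupClass.coe_pow, OneMemClass.coe_one] at this
      simp only [SubgroupClass.coe_pow, OneMemClass.coe_one, pow_add, pow_mul]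
      exact this
    have hKT : K.map H.subtype ≤ T := by
      refine le_opIn_of_normalized ?_ ?_ (hKp.map _)
      · rintro _ ⟨x, hx, rfl⟩; exact hx.1
      · refine le_normalizer_iff.mpr fun u hu v hv => ?_
        obtain ⟨x, hx, rfl⟩ := hv
        refine ⟨⟨u, hGH hu⟩ * x * (⟨u, hGH hu⟩ : ↥H)⁻¹,
          ⟨G.mul_mem (G.mul_mem hu hx.1) (G.inv_mem hu), mem_comap.mpr ?_⟩, rfl⟩
        rw [map_mul, map_mul, map_inv]
        exact Coprime.conj_mem (le_normalizer_opIn p Gq ⟨_, hu, rfl⟩) hx.2
    rw [eq_bot_iff]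
    intro y hy
    obtain ⟨x, hx, rfl⟩ := opIn_le p Gq hy
    exact hker.mpr (hKT ⟨x, ⟨hx, hy⟩, rfl⟩)
  have hle : Rq ≤ centralizer (Gq : Set _) := hq.centralizes hp hTq fun K hKG hKne hK => by
    refine ih (Nat.card K) ?_ K Rq hK le_rfl
    calc Nat.card K < Nat.card Gq :=
          lt_of_le_of_ne (card_le_of_le hKG) fun e => hKne (eq_of_le_of_card_ge hKG e.ge)
      _ ≤ Nat.card G := Nat.le_of_dvd Nat.card_pos hdG
      _ ≤ n := hn
  intro b hb
  refine mem_centralizer_iff.mpr ?_
  have hsub : ofOf p G ≤ centralizer ({b} : Set X) := ofOf_le_iff.mpr fun g hg hgc => by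
    have hgG : g ∈ G := fsOf_le G hg
    have h3 := hcomm.mp (mem_centralizer_iff.mp (hle ⟨⟨b, hRH hb⟩, hb, rfl⟩) _ ⟨⟨g, hGH hgG⟩, hgG, rfl⟩).symm
    exact mem_centralizer_singleton_iff.mpr (commute_of_central hTp hgc h3
      fun t ht => (mem_centralizer_iff.mp (hGT hgG) t ht).symm).eq.symm
  exact fun g hg => mem_centralizer_singleton_iff.mp (hsub hg)

/-- The theorem. -/
theorem resCen (hp : 5 ≤ p) {X : Type u} [Group X] [Finite X] {G R : Subgroup X} (h : Hyp p G R) :
    ResCen p G R :=
  resCen_aux hp _ G R h le_rfl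

end Cfsg.Agent.H63.Flavell
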