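import Cfsg.Agent.H63.Flavell.Group
import Cfsg.Agent.Components.Layer
import Cfsg.Agent.Components.Fitting
import Cfsg.Agent.S1265
import Cfsg.Agent.Coprime.Action
import Cfsg.Agent.Coprime.Centralize
import Cfsg.Agent.Fusion.PResidual
import Cfsg.Agent.H49.KSeq

/-!
`O^p(F*(H))` inside an ambient group, and its centralization by a group acting coprimely.
-/

set_option autoImplicit false
set_option linter.unusedSectionVars false

namespace Cfsg.Agent.H63.Flavell

open Subgroup
open H70.Wielandt (opIn opIn_le le_normalizer_opIn isPGroup_opIn le_opIn_of_normalized)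
open scoped commutatorElement

universe u

variable {X : Type u} [Group X] [Finite X] {p : ℕ} [Fact p.Prime]

/-- `F*(H)` as a subgroup of the ambient group. -/
def fsOf (H : Subgroup X) : Subgroup X :=
  (Cfsg.generalizedFittingSubgroup ↥H).map H.subtype

/-- The subgroup generated by the `p'`-elements of `F*(H)`. -/
def ofOf (p : ℕ) (H : Subgroup X) : Subgroup X :=
  closure {g : X | g ∈ fsOf H ∧ (orderOf g).Coprime p}

/-- `R` centralizes `O^p(F*(H))`. -/
def ResCen (p : ℕ) (H R : Subgroup X) : Prop :=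
  R ≤ centralizer (ofOf p H : Set X)

theorem fsOf_le (H : Subgroup X) : fsOf H ≤ H := map_subtype_le _

theorem ofOf_le_fsOf (H : Subgroup X) : ofOf p H ≤ fsOf H := (closure_le _).mpr fun _ hg => hg.1

theorem ofOf_le (H : Subgroup X) : ofOf p H ≤ H := (ofOf_le_fsOf H).trans (fsOf_le H)

theorem mem_ofOf {H : Subgroup X} {g : X} (hg : g ∈ fsOf H) (hc : (orderOf g).Coprime p) : g ∈ ofOf p H :=
  subset_closure ⟨hg, hc⟩

theorem ofOf_le_iff {H K : Subgroup X} :
    ofOf p H ≤ K ↔ ∀ g ∈ fsOf H, (orderOf g).Coprime p → g ∈ K :=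
  ⟨fun h _ h1 h2 => h (mem_ofOf h1 h2), fun h => (closure_le _).mpr fun g hg => h g hg.1 hg.2⟩

theorem pResidual_map_eq (H : Subgroup X) :
    ((Cfsg.pResidual p ↥(Cfsg.generalizedFittingSubgroup ↥H)).map
      (Cfsg.generalizedFittingSubgroup ↥H).subtype).map H.subtype = ofOf p H := by
  refine le_antisymm ?_ (ofOf_le_iff.mpr ?_)
  · rw [Subgroup.map_map, map_le_iff_le_comap]
    exact Fusion.pResidual_le.mpr fun x hx => mem_ofOf ⟨x, x.2, rfl⟩ (by
      show (orderOf ((x : ↥H) : X)).Coprime p
      rwa [orderOf_coe, orderOf_coe])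
  · rintro _ ⟨x, hx, rfl⟩ hc
    rw [coe_subtype, orderOf_coe] at hc
    exact mem_map_of_mem _ (Fusion.mem_pResidual_subgroup hx hc)

theorem le_normalizer_fsOf {H : Subgroup X} : normalizer (H : Set X) ≤ normalizer (fsOf H : Set X) :=
  Components.le_normalizer_map_characteristic _ le_rfl

theorem le_normalizer_ofOf {H : Subgroup X} : normalizer (H : Set X) ≤ normalizer (ofOf p H : Set X) := by
  refine le_normalizer_iff.mpr fun g hg x hx => ?_
  have hle : ofOf p H ≤ (ofOf p H).comap (MulAut.conj g).toMonoidHom := ofOf_le_iff.mpr fun y hy hc =>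
    mem_ofOf (Coprime.conj_mem (le_normalizer_fsOf hg) hy) (by
      show (orderOf (MulAut.conj g y)).Coprime p
      rwa [MulEquiv.orderOf_eq])
  exact hle hx

theorem fsOf_normal_le {K H : Subgroup X} (hK : K ≤ H) (hn : H ≤ normalizer (K : Set X)) :
    fsOf K = fsOf H ⊓ K := by
  haveI : (K.subgroupOf H).Normal := normal_subgroupOf_of_le_normalizer hn
  have h := Components.genFitting_subnormal (G := ↥H) (S := K.subgroupOf H)
    (Subgroup.Normal.isSubnormal inferInstance)
  have e : fsOf K = ((Cfsg.generalizedFittingSubgroup ↥(K.subgroupOf H)).map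
      (K.subgroupOf H).subtype).map H.subtype := by
    rw [fsOf, ← Components.map_genFitting_equiv (subgroupOfEquivOfLe hK), Subgroup.map_map, Subgroup.map_map]
    rfl
  rw [e, h, Subgroup.map_inf _ _ _ H.subtype_injective, map_subgroupOf_eq_of_le hK, fsOf]

theorem ofOf_normal_le {K H : Subgroup X} (hK : K ≤ H) (hn : H ≤ normalizer (K : Set X)) :
    ofOf p K ≤ ofOf p H :=
  ofOf_le_iff.mpr fun g hg hc => mem_ofOf ((fsOf_normal_le hK hn).le hg).1 hc

theorem opIn_map_eq (H : Subgroup X) : opIn p H = (Cfsg.pCore p ↥H).map H.subtype := rfl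

/-- The `p'`-elements of `F*(H)` centralize `O_p(H)`. -/
theorem ofOf_le_centralizer_opIn (H : Subgroup X) : ofOf p H ≤ centralizer (opIn p H : Set X) := by
  refine ofOf_le_iff.mpr ?_
  rintro _ ⟨g, hg, rfl⟩ hc
  rw [coe_subtype, orderOf_coe] at hc
  set T := Cfsg.pCore p ↥H with hT
  haveI : (centralizer (T : Set ↥H)).Normal := inferInstance
  have hle : Cfsg.generalizedFittingSubgroup ↥H ≤ centralizer (T : Set ↥H) ⊔ T := by
    refine sup_le (le_sup_of_le_left ?_) ?_
    · rw [← commutator_eq_bot_iff_le_centralizer]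
      exact le_bot_iff.mp ((commutator_mono le_rfl (Components.pCore_le_fitting p)).trans
        Components.layer_commutator_fitting.le)
    · rw [Components.fitting_eq_iSup_pCore]
      refine iSup_le fun q => ?_
      haveI := Fact.mk (Nat.prime_of_mem_primeFactors q.2)
      by_cases hq : (q : ℕ) = p
      · rw [hq]; exact le_sup_right
      · refine le_sup_of_le_left ?_
        rw [← commutator_eq_bot_iff_le_centralizer]
        refine le_bot_iff.mp ((commutator_le_inf _ _).trans ?_)
        exact (IsPGroup.disjoint_of_ne _ p hq _ _ Cores.pCore_isPGroup Cores.pCore_isPGroup).le_bot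
  have hp' : IsPGroup p (T.map (QuotientGroup.mk' (centralizer (T : Set ↥H)))) :=
    Cores.pCore_isPGroup.map _
  have hgm : QuotientGroup.mk' (centralizer (T : Set ↥H)) g ∈
      T.map (QuotientGroup.mk' (centralizer (T : Set ↥H))) := by
    have h := mem_map_of_mem (QuotientGroup.mk' (centralizer (T : Set ↥H))) (hle hg)
    rwa [Subgroup.map_sup, (Subgroup.map_eq_bot_iff _).mpr (QuotientGroup.ker_mk' _).ge, bot_sup_eq] at h
  obtain ⟨k, hk⟩ := hp' ⟨_, hgm⟩
  have hk' : QuotientGroup.mk' (centralizer (T : Set ↥H)) g ^ p ^ k = 1 := by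
    simpa using congrArg Subtype.val hk
  have h1 := orderOf_eq_one_iff.mp (Nat.eq_one_of_dvd_coprimes (hc.pow_right k) (orderOf_map_dvd _ g)
    (orderOf_dvd_of_pow_eq_one hk'))
  have hgc := (QuotientGroup.eq_one_iff g).mp h1
  rw [mem_centralizer_iff]
  rintro _ ⟨t, ht, rfl⟩
  exact congrArg Subtype.val (mem_centralizer_iff.mp hgc t ht)

/-- `F*(H)` is `O^p(F*(H))` times `O_p(H)`. -/
theorem fsOf_le_sup (H : Subgroup X) : fsOf H ≤ ofOf p H ⊔ opIn p H := by
  set O' : Subgroup ↥H := (ofOf p H).subgroupOf H with hO'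
  haveI : O'.Normal := normal_subgroupOf_of_le_normalizer (le_normalizer.trans le_normalizer_ofOf)
  have hmem : ∀ g ∈ Cfsg.generalizedFittingSubgroup ↥H, (orderOf g).Coprime p → g ∈ O' :=
    fun g hg hc => mem_ofOf (mem_map_of_mem _ hg) (by rwa [coe_subtype, orderOf_coe])
  have hle : Cfsg.generalizedFittingSubgroup ↥H ≤ O' ⊔ Cfsg.pCore p ↥H := by
    refine sup_le (le_sup_of_le_left ?_) ?_
    · set π := QuotientGroup.mk' O' with hπ
      have hLp : IsPGroup p ((Cfsg.layer ↥H).map π) := by
        rintro ⟨_, l, hl, rfl⟩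
        obtain ⟨k, hk⟩ := Fusion.exists_pow_coprime (p := p) l
        refine ⟨k, Subtype.ext ?_⟩
        rw [SubgroupClass.coe_pow, ← map_pow]
        exact (QuotientGroup.eq_one_iff _).mpr (hmem _ (pow_mem (Components.layer_le_genFitting hl) _) hk)
      have hperf : ⁅(Cfsg.layer ↥H).map π, (Cfsg.layer ↥H).map π⁆ = (Cfsg.layer ↥H).map π := by
        rw [← map_commutator, Components.layer_perfect]
      have hbot : (Cfsg.layer ↥H).map π = ⊥ := by
        by_contra hne
        exact (Coprime.commutator_lt_of_isPGroup hLp hLp le_normalizer hne).ne hperf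
      rwa [Subgroup.map_eq_bot_iff, hπ, QuotientGroup.ker_mk'] at hbot
    · rw [Components.fitting_eq_iSup_pCore]
      refine iSup_le fun q => ?_
      haveI := Fact.mk (Nat.prime_of_mem_primeFactors q.2)
      by_cases hq : (q : ℕ) = p
      · rw [hq]; exact le_sup_right
      · refine le_sup_of_le_left fun g hg => hmem g
          (Components.fitting_le_genFitting (Components.pCore_le_fitting (q : ℕ) hg)) ?_
        obtain ⟨k, hk⟩ := Cores.pCore_isPGroup (p := (q : ℕ)) ⟨g, hg⟩
        have hk' : g ^ (q : ℕ) ^ k = 1 := by simpa using congrArg Subtype.val hk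
        exact (((Nat.coprime_primes Fact.out Fact.out).mpr hq).pow_left k).coprime_dvd_left
          (orderOf_dvd_of_pow_eq_one hk')
  have h := map_mono (f := H.subtype) hle
  rwa [Subgroup.map_sup, map_subgroupOf_eq_of_le (ofOf_le H)] at h

/-- A subgroup centralizing `O^p(F*(H))` and `O_p(H)` lies in `F*(H)`. -/
theorem le_fsOf_of_centralizes {H Q : Subgroup X} (hQ : Q ≤ H) (h1 : Q ≤ centralizer (ofOf p H : Set X))
    (h2 : Q ≤ centralizer (opIn p H : Set X)) : Q ≤ fsOf H := by
  intro x hx
  have hc : (⟨x, hQ hx⟩ : ↥H) ∈ centralizer (Cfsg.generalizedFittingSubgroup ↥H : Set ↥H) := by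
    refine mem_centralizer_iff.mpr fun y hy => Subtype.ext ?_
    have hle : fsOf H ≤ centralizer ({x} : Set X) := (fsOf_le_sup H).trans (sup_le
      (fun z hz => mem_centralizer_singleton_iff.mpr (mem_centralizer_iff.mp (h1 hx) z hz))
      (fun z hz => mem_centralizer_singleton_iff.mpr (mem_centralizer_iff.mp (h2 hx) z hz)))
    exact mem_centralizer_singleton_iff.mp (hle (mem_map_of_mem H.subtype hy))
  exact ⟨_, Cfsg.Agent.S1265.result hc, rfl⟩

variable {H R : Subgroup X}

/-- A subgroup normalized by `H` that `R` centralizes is centralized by `[H, R]`. -/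
theorem commutator_le_centralizer {O Q : Subgroup X} (hQO : Q ≤ normalizer (O : Set X))
    (hR : R ≤ centralizer (O : Set X)) : ⁅Q, R⁆ ≤ centralizer (O : Set X) := by
  rw [← commutator_eq_bot_iff_le_centralizer]
  have h0 : ⁅R, O⁆ = ⊥ := commutator_eq_bot_iff_le_centralizer.mpr hR
  refine commutator_commutator_eq_bot_of_rotate ?_ ?_
  · rw [h0, commutator_bot_left]
  · refine le_bot_iff.mp ((commutator_mono (le_normalizer_iff_commutator_le_left.mp hQO) le_rfl).trans ?_)
    rw [commutator_comm, h0]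

/-- The part of `H` moved by `R` that centralizes `O_p(H)` is in `O_p(H)`. -/
theorem ResCen.commutator_le (hg : ResCen p H R) (hRH : R ≤ normalizer (H : Set X))
    (hcop : (Nat.card R).Coprime (Nat.card H)) (hsolv : Group.IsSolvable R) :
    ⁅H ⊓ centralizer (opIn p H : Set X), R⁆ ≤ opIn p H := by
  set O := ofOf p H with hO
  set T := opIn p H with hT
  set Cn := H ⊓ centralizer (T : Set X) with hCn
  have hRC : R ≤ normalizer (Cn : Set X) := le_normalizer_iff.mpr fun a ha x hx =>
    ⟨Coprime.conj_mem (hRH ha) hx.1, Coprime.conj_mem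
      (H49.normalizer_le_normalizer_centralizer' _ (le_normalizer_opIn_of hRH ha)) hx.2⟩
  set D := ⁅Cn, R⁆ with hD
  have hDC : D ≤ Cn := Coprime.commutator_le_left_of_normalizer hRC
  have hDO : D ≤ centralizer (O : Set X) := commutator_le_centralizer
    (inf_le_left.trans (le_normalizer.trans le_normalizer_ofOf)) hg
  have hDfs : D ≤ fsOf H := le_fsOf_of_centralizes (hDC.trans inf_le_left) hDO (hDC.trans inf_le_right)
  have hDD : ⁅D, R⁆ = D := Coprime.commutator_commutator_eq hRC
    (hcop.coprime_dvd_right (card_dvd_of_le inf_le_left)) (Or.inl hsolv)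
  rw [← hDD]
  refine Subgroup.commutator_le.mpr fun d hd a ha => ?_
  obtain ⟨o, ho, t, ht, rfl⟩ := (Coprime.mem_sup_iff (H := T) (N := O)
    ((opIn_le p H).trans (le_normalizer.trans le_normalizer_ofOf))).mp (fsOf_le_sup H (hDfs hd))
  have hoa : Commute o a := (mem_centralizer_iff.mp (hg ha) o ho : _)
  have hta : a * t⁻¹ * a⁻¹ ∈ T := Coprime.conj_mem (le_normalizer_opIn_of hRH ha) (T.inv_mem ht)
  have hot : t * (a * t⁻¹ * a⁻¹) ∈ T := T.mul_mem ht hta
  have e : ⁅o * t, a⁆ = o * (t * (a * t⁻¹ * a⁻¹)) * o⁻¹ := by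
    have := hoa.inv_left.eq
    calc ⁅o * t, a⁆ = o * t * (a * t⁻¹) * (o⁻¹ * a⁻¹) := by simp [commutatorElement_def, mul_assoc]
      _ = o * t * (a * t⁻¹) * (a⁻¹ * o⁻¹) := by
          rw [show o⁻¹ * a⁻¹ = a⁻¹ * o⁻¹ from hoa.inv_inv.eq]
      _ = _ := by simp [mul_assoc]
  rw [e]
  exact Coprime.conj_mem (le_normalizer_opIn p H (ofOf_le H ho)) hot

/-- A `p'`-element centralizing `O_p(H)` is centralized by `R`. -/
theorem ResCen.commute (hg : ResCen p H R) (hRH : R ≤ normalizer (H : Set X))
    (hcop : (Nat.card R).Coprime (Nat.card H)) (hsolv : Group.IsSolvable R) {x : X} (hx : x ∈ H)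
    (hxo : (orderOf x).Coprime p) (hxT : x ∈ centralizer (opIn p H : Set X)) {a : X} (ha : a ∈ R) :
    Commute a x := by
  have hz : ⁅x, a⁆ ∈ opIn p H := hg.commutator_le hRH hcop hsolv (commutator_mem_commutator ⟨hx, hxT⟩ ha)
  set z := ⁅x, a⁆ with hzdef
  have hcm : Commute x z⁻¹ := (mem_centralizer_iff.mp hxT _ (Subgroup.inv_mem _ hz)).symm
  have he : a * x * a⁻¹ = z⁻¹ * x := by rw [hzdef]; simp [commutatorElement_def, mul_assoc]
  have h1 : (a * x * a⁻¹) ^ orderOf x = 1 := by
    rw [conj_pow, pow_orderOf_eq_one, mul_one, mul_inv_cancel]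
  rw [he, hcm.symm.mul_pow, pow_orderOf_eq_one, mul_one] at h1
  obtain ⟨k, hk⟩ := isPGroup_opIn (p := p) H ⟨z, hz⟩
  have hk' : z⁻¹ ^ p ^ k = 1 := by
    rw [inv_pow, inv_eq_one]
    simpa using congrArg Subtype.val hk
  have hz1 : z⁻¹ = 1 := by
    have := pow_gcd_eq_one.mpr ⟨h1, hk'⟩
    rwa [hxo.pow_right k, pow_one] at this
  rw [hz1, one_mul, mul_inv_eq_iff_eq_mul] at he
  exact he

/-- `ResCen` passes to a subgroup whose `O^p(F*)` centralizes `O_p(H)`. -/
theorem ResCen.inherit (hg : ResCen p H R) (hRH : R ≤ normalizer (H : Set X))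
    (hcop : (Nat.card R).Coprime (Nat.card H)) (hsolv : Group.IsSolvable R) {N : Subgroup X} (hN : N ≤ H)
    (hc : ofOf p N ≤ centralizer (opIn p H : Set X)) : ResCen p N R := fun a ha => by
  refine mem_centralizer_iff.mpr ?_
  have hle : ofOf p N ≤ centralizer ({a} : Set X) := ofOf_le_iff.mpr fun g hgN hgc =>
    mem_centralizer_singleton_iff.mpr (hg.commute hRH hcop hsolv (hN (fsOf_le N hgN)) hgc
      (hc (mem_ofOf hgN hgc)) ha).eq.symm
  exact fun g hgo => mem_centralizer_singleton_iff.mp (hle hgo)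

theorem ResCen.inherit_of_le (hg : ResCen p H R) (hRH : R ≤ normalizer (H : Set X))
    (hcop : (Nat.card R).Coprime (Nat.card H)) (hsolv : Group.IsSolvable R) {N : Subgroup X} (hN : N ≤ H)
    (hT : opIn p H ≤ N) : ResCen p N R := by
  refine hg.inherit hRH hcop hsolv hN ?_
  have : opIn p H ≤ opIn p N :=
    le_opIn_of_normalized hT (hN.trans (le_normalizer_opIn p H)) (isPGroup_opIn H)
  exact (ofOf_le_centralizer_opIn N).trans (centralizer_le this)

/-- `ResCen` passes to normal subgroups. -/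
theorem ResCen.normal (hg : ResCen p H R) {N : Subgroup X} (hN : N ≤ H) (hn : H ≤ normalizer (N : Set X)) :
    ResCen p N R :=
  hg.trans (centralizer_le (ofOf_normal_le hN hn))

/-- `ResCen` passes to the normalizer of a `p`-subgroup. -/
theorem ResCen.inherit_normalizer (hg : ResCen p H R) (hRH : R ≤ normalizer (H : Set X))
    (hcop : (Nat.card R).Coprime (Nat.card H)) (hsolv : Group.IsSolvable R) {W : Subgroup X} (hW : W ≤ H)
    (hWp : IsPGroup p W) : ResCen p (H ⊓ normalizer (W : Set X)) R := by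
  set N := H ⊓ normalizer (W : Set X) with hNdef
  set T := opIn p H with hT
  refine hg.inherit hRH hcop hsolv inf_le_left (ofOf_le_iff.mpr fun g hgN hgc => ?_)
  have hgc' := (ofOf_le_centralizer_opIn (p := p) N) (mem_ofOf hgN hgc)
  have hgN' : g ∈ N := fsOf_le N hgN
  have hWN : W ≤ opIn p N :=
    le_opIn_of_normalized (le_inf hW le_normalizer) inf_le_right hWp
  have hTN : T ⊓ centralizer (W : Set X) ≤ opIn p N := by
    refine le_opIn_of_normalized (le_inf (inf_le_left.trans (opIn_le p H))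
      (inf_le_right.trans (centralizer_le_normalizer _))) ?_ ((isPGroup_opIn H).to_le inf_le_left)
    exact le_normalizer_iff.mpr fun n hn t ht => ⟨Coprime.conj_mem (le_normalizer_opIn p H hn.1) ht.1,
      Coprime.conj_mem (H49.normalizer_le_normalizer_centralizer' _ hn.2) ht.2⟩
  have hQ : zpowers g ≤ centralizer (T : Set X) := by
    refine Coprime.thompson_AxB (p := p) hWp ?_ ?_ T (isPGroup_opIn H) (hW.trans (le_normalizer_opIn p H))
      (zpowers_le.mpr (le_normalizer_opIn p H hgN'.1)) ?_
    · rwa [Nat.card_zpowers]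
    · intro w hw
      rw [zpowers_eq_closure, centralizer_closure, mem_centralizer_singleton_iff]
      exact mem_centralizer_iff.mp hgc' w (hWN hw)
    · intro t ht
      rw [zpowers_eq_closure, centralizer_closure, mem_centralizer_singleton_iff]
      exact mem_centralizer_iff.mp hgc' t (hTN ht)
  exact hQ (mem_zpowers g)

end Cfsg.Agent.H63.Flavell
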