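import Cfsg.Agent.H63.Flavell.Outer
import Cfsg.Agent.H63.Flavell.Residual
import Cfsg.Agent.Coprime.Generation

/-!
A non-cyclic abelian group acting coprimely that centralizes `O^p(F*)` of every fixed-point subgroup
centralizes a group with trivial `p`-core.
-/

set_option autoImplicit false
set_option linter.unusedSectionVars false

namespace Cfsg.Agent.H63.Flavell

open Subgroup
open H70.Wielandt (opIn opIn_le le_normalizer_opIn isPGroup_opIn le_opIn_of_normalized)
open Cfsg.Agent.H40 (IsSylowOf)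
open scoped commutatorElement

universe u

variable {X : Type u} [Group X] [Finite X] {p : ℕ} [Fact p.Prime]

/-- The hypothesis on the fixed-point subgroups. -/
structure Hyp (p : ℕ) (G R : Subgroup X) : Prop where
  norm : R ≤ normalizer (G : Set X)
  cop : (Nat.card R).Coprime (Nat.card G)
  abel : IsMulCommutative R
  nc : ¬ IsCyclic R
  loc : ∀ a ∈ R, a ≠ 1 → ResCen p (G ⊓ centralizer {a}) R

variable {G R : Subgroup X}

theorem Hyp.solv (h : Hyp p G R) : Group.IsSolvable R := by
  haveI := h.abel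
  exact Coprime.isSolvable_of_isMulCommutative

theorem Hyp.norm_fix (h : Hyp p G R) {a : X} (ha : a ∈ R) :
    R ≤ normalizer ((G ⊓ centralizer {a} : Subgroup X) : Set X) := by
  haveI := h.abel
  refine le_normalizer_iff.mpr fun b hb x hx => ⟨Coprime.conj_mem (h.norm hb) hx.1, ?_⟩
  refine mem_centralizer_singleton_iff.mpr ?_
  have e : a * b = b * a := setLike_mul_comm ha hb
  have ex : x * a = a * x := mem_centralizer_singleton_iff.mp hx.2
  have hba : Commute b a := e.symm
  calc b * x * b⁻¹ * a = b * x * (b⁻¹ * a) := by group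
    _ = b * x * (a * b⁻¹) := by rw [hba.inv_left.eq]
    _ = b * (x * a) * b⁻¹ := by group
    _ = b * (a * x) * b⁻¹ := by rw [ex]
    _ = (b * a) * x * b⁻¹ := by group
    _ = a * (b * x * b⁻¹) := by rw [hba.eq]; group

theorem Hyp.cop_of_le (h : Hyp p G R) {K : Subgroup X} (hK : K ≤ G) :
    (Nat.card R).Coprime (Nat.card K) :=
  h.cop.coprime_dvd_right (card_dvd_of_le hK)

/-- The intersection of all invariant Sylow subgroups is the largest invariant `p`-subgroup normalized
by the fixed points. -/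
theorem Hyp.exists_meet (h : Hyp p G R) :
    ∃ P : Subgroup X, P ≤ G ∧ IsPGroup p P ∧ R ≤ normalizer (P : Set X) ∧
      G ⊓ centralizer (R : Set X) ≤ normalizer (P : Set X) ∧
      (∀ V, IsSylowOf p V G → R ≤ normalizer (V : Set X) → P ≤ V) ∧
      ∀ U ≤ G, IsPGroup p U → R ≤ normalizer (U : Set X) →
        G ⊓ centralizer (R : Set X) ≤ normalizer (U : Set X) → U ≤ P := by
  let P : Subgroup X := G ⊓ ⨅ V : {V // IsSylowOf p V G ∧ R ≤ normalizer (V : Set X)}, (V : Subgroup X)
  have hP : ∀ V, IsSylowOf p V G → R ≤ normalizer (V : Set X) → P ≤ V := fun V h1 h2 =>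
    inf_le_right.trans (iInf_le (fun V : {V // IsSylowOf p V G ∧ R ≤ normalizer (V : Set X)} => (V : Subgroup X))
      ⟨V, h1, h2⟩)
  obtain ⟨V₀, hV₀, hRV₀⟩ := exists_inv_sylow (p := p) h.norm h.cop h.solv
  have mem_P : ∀ {x : X}, x ∈ G → (∀ V, IsSylowOf p V G → R ≤ normalizer (V : Set X) → x ∈ V) → x ∈ P :=
    fun hxG hx => ⟨hxG, mem_iInf.mpr fun V => hx V V.2.1 V.2.2⟩
  refine ⟨P, inf_le_left, hV₀.2.1.to_le (hP V₀ hV₀ hRV₀), ?_, ?_, hP, fun U hUG hUp hRU hCU x hx => ?_⟩
  · refine le_normalizer_iff.mpr fun b hb x hx => mem_P (Coprime.conj_mem (h.norm hb) hx.1) fun V hV hRV => ?_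
    exact Coprime.conj_mem (hRV hb) (hP V hV hRV hx)
  · refine le_normalizer_iff.mpr fun c hc x hx =>
      mem_P (G.mul_mem (G.mul_mem hc.1 hx.1) (G.inv_mem hc.1)) fun V hV hRV => ?_
    have hV' : IsSylowOf p (V.map (MulAut.conj c⁻¹).toMonoidHom) G :=
      hV.map_conj (le_normalizer (G.inv_mem hc.1))
    have hRV' : R ≤ normalizer ((V.map (MulAut.conj c⁻¹).toMonoidHom : Subgroup X) : Set X) := fun b hb =>
      Coprime.mem_normalizer_of_map_conj (by
        have hbc : b * c⁻¹ = c⁻¹ * b :=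
          mem_centralizer_iff.mp ((centralizer (R : Set X)).inv_mem hc.2) b hb
        rw [Coprime.map_conj_map_conj, hbc, ← Coprime.map_conj_map_conj, Coprime.map_conj_eq (hRV hb)])
    have := hP _ hV' hRV' hx
    rw [Coprime.mem_map_conj, inv_inv] at this
    exact this
  · refine mem_P (hUG hx) fun V hV hRV => ?_
    obtain ⟨W, hW, hUW, hRW⟩ := exists_inv_sylow_ge h.norm h.cop h.solv hUG hUp hRU
    obtain ⟨k, hk, e⟩ := exists_conj_sylowOf hV hW
    obtain ⟨c, hc, e'⟩ := Coprime.exists_centralizer_conj h.norm h.cop (Or.inl h.solv) hRW hRV hk e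
    rw [← e', Coprime.mem_map_conj]
    exact hUW (Coprime.conj_mem' (hCU hc) hx)

variable {P : Subgroup X}

/-- In a subgroup satisfying the conclusion, the K-infinity subgroup of the meet is normal. -/
theorem Hyp.kInf_norm (h : Hyp p G R) (hp : 5 ≤ p) (hRp : (Nat.card R).Coprime p) (hPp : IsPGroup p P)
    (hRP : R ≤ normalizer (P : Set X)) (hCP : G ⊓ centralizer (R : Set X) ≤ normalizer (P : Set X))
    (hPV : ∀ V, IsSylowOf p V G → R ≤ normalizer (V : Set X) → P ≤ V)
    (hPmax : ∀ U ≤ G, IsPGroup p U → R ≤ normalizer (U : Set X) →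
      G ⊓ centralizer (R : Set X) ≤ normalizer (U : Set X) → U ≤ P)
    {H : Subgroup X} (hHG : H ≤ G) (hRH : R ≤ normalizer (H : Set X))
    (hCH : G ⊓ centralizer (R : Set X) ≤ H) (hg : ResCen p H R) :
    H ≤ normalizer ((inducedFunctor kInfLower (P ⊓ H) : Subgroup X) : Set X) := by
  set C := G ⊓ centralizer (R : Set X) with hC
  set S := P ⊓ H with hSdef
  set N₀ := ⁅H, R⁆ with hN₀
  set N := N₀ ⊔ S with hNdef
  have hN₀H : N₀ ≤ H := Coprime.commutator_le_left_of_normalizer hRH
  have hHN₀ : H ≤ normalizer (N₀ : Set X) := normalizer_commutator_ge_left H R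
  have hRS : R ≤ normalizer (S : Set X) := le_normalizer_iff.mpr fun b hb x hx =>
    ⟨Coprime.conj_mem (hRP hb) hx.1, Coprime.conj_mem (hRH hb) hx.2⟩
  have hCS : C ≤ normalizer (S : Set X) := le_normalizer_iff.mpr fun b hb x hx =>
    ⟨Coprime.conj_mem (hCP hb) hx.1, Coprime.conj_mem (le_normalizer (hCH hb)) hx.2⟩
  have hSp : IsPGroup p S := hPp.to_le inf_le_left
  have hNH : N ≤ H := sup_le hN₀H inf_le_right
  have hNN₀ : N ≤ normalizer (N₀ : Set X) := hNH.trans hHN₀
  have hRN : R ≤ normalizer (N : Set X) := fun b hb => Coprime.mem_normalizer_of_map_conj (by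
    rw [hNdef, Subgroup.map_sup, Coprime.map_conj_eq (normalizer_commutator_ge_right H R hb),
      Coprime.map_conj_eq (hRS hb)])
  have hCN : C ≤ normalizer (N : Set X) := fun b hb => Coprime.mem_normalizer_of_map_conj (by
    rw [hNdef, Subgroup.map_sup, Coprime.map_conj_eq (hHN₀ (hCH hb)), Coprime.map_conj_eq (hCS hb)])
  have hN : N ≤ normalizer ((inducedFunctor kInfLower S : Subgroup X) : Set X) := by
    refine kInf_normal_in hp N R S hRN (h.cop_of_le (hNH.trans hHG)) h.solv hRp
      (le_inf (hPmax _ ((opIn_le p N).trans (hNH.trans hHG)) (isPGroup_opIn N) (le_normalizer_opIn_of hRN)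
        (le_normalizer_opIn_of hCN)) ((opIn_le p N).trans hNH)) le_sup_right hSp ?_ ?_
    · intro y hy hyc hyT
      have hyN₀ : y ∈ N₀ := by
        set N₁ : Subgroup ↥N := N₀.subgroupOf N with hN₁
        haveI : N₁.Normal := normal_subgroupOf_of_le_normalizer hNN₀
        obtain ⟨n, hn, s, hs, e⟩ := (Coprime.mem_sup_iff (inf_le_right.trans hHN₀)).mp hy
        have hq : QuotientGroup.mk' N₁ ⟨y, hy⟩ = QuotientGroup.mk' N₁ ⟨s, mem_sup_right hs⟩ := by
          have : (⟨y, hy⟩ : ↥N) = ⟨n, mem_sup_left hn⟩ * ⟨s, mem_sup_right hs⟩ := Subtype.ext e.symm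
          have hn1 : QuotientGroup.mk' N₁ ⟨n, mem_sup_left hn⟩ = 1 :=
            (QuotientGroup.eq_one_iff (⟨n, mem_sup_left hn⟩ : ↥N)).mpr hn
          rw [this, map_mul, hn1, one_mul]
        obtain ⟨k, hk⟩ := hSp ⟨s, hs⟩
        have hk' : s ^ p ^ k = 1 := by simpa using congrArg Subtype.val hk
        have h1 : orderOf (QuotientGroup.mk' N₁ ⟨y, hy⟩) ∣ orderOf y := by
          have := orderOf_map_dvd (QuotientGroup.mk' N₁) (⟨y, hy⟩ : ↥N)
          rwa [Subgroup.orderOf_mk] at this
        have h2 : orderOf (QuotientGroup.mk' N₁ ⟨y, hy⟩) ∣ p ^ k := by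
          rw [hq]
          refine (orderOf_map_dvd _ _).trans ?_
          rw [Subgroup.orderOf_mk]
          exact orderOf_dvd_of_pow_eq_one hk'
        have h3 := orderOf_eq_one_iff.mp (Nat.eq_one_of_dvd_coprimes (hyc.pow_right k) h1 h2)
        exact (QuotientGroup.eq_one_iff (⟨y, hy⟩ : ↥N)).mp h3
      have hN₀O : N₀ ≤ centralizer (ofOf p H : Set X) :=
        commutator_le_centralizer (le_normalizer.trans le_normalizer_ofOf) hg
      have hO₀ : ofOf p N₀ ≤ ofOf p H := ofOf_normal_le hN₀H hHN₀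
      have hT₀ : opIn p N₀ ≤ opIn p N :=
        le_opIn_of_normalized ((opIn_le p N₀).trans le_sup_left) (le_normalizer_opIn_of hNN₀) (isPGroup_opIn N₀)
      have hyfs : y ∈ fsOf N₀ := le_fsOf_of_centralizes (p := p) (zpowers_le.mpr hyN₀)
        (zpowers_le.mpr (centralizer_le hO₀ (hN₀O hyN₀)))
        (zpowers_le.mpr (centralizer_le hT₀ hyT)) (mem_zpowers y)
      have hyO : y ∈ ofOf p N₀ := mem_ofOf hyfs hyc
      have hcom : ∀ n ∈ N₀, Commute y n := fun n hn =>
        mem_centralizer_iff.mp (hN₀O hn) y (hO₀ hyO)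
      have hyC : y ∈ C := ⟨hHG (hN₀H hyN₀), mem_centralizer_iff.mpr fun a ha =>
        (mem_centralizer_iff.mp (hg ha) y (hO₀ hyO)).symm⟩
      have hcS : ∀ s ∈ S, Commute y s := by
        intro s hs
        have hc : y * s * y⁻¹ * s⁻¹ ∈ S := S.mul_mem (Coprime.conj_mem (hCS hyC) hs) (S.inv_mem hs)
        obtain ⟨k, hk⟩ := hSp ⟨_, hc⟩
        have hk' : (y * s * y⁻¹ * s⁻¹) ^ p ^ k = 1 := by simpa using congrArg Subtype.val hk
        have hys : s * y⁻¹ * s⁻¹ ∈ N₀ := Coprime.conj_mem (hHN₀ hs.2) (N₀.inv_mem hyN₀)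
        have e : y * s * y⁻¹ * s⁻¹ = y * (s * y⁻¹ * s⁻¹) := by group
        have hn : (y * s * y⁻¹ * s⁻¹) ^ orderOf y = 1 := by
          rw [e, (hcom _ hys).mul_pow, pow_orderOf_eq_one, conj_pow, inv_pow, pow_orderOf_eq_one, inv_one,
            mul_one, mul_inv_cancel, mul_one]
        have := pow_gcd_eq_one.mpr ⟨hn, hk'⟩
        rw [hyc.pow_right k, pow_one, mul_inv_eq_one, mul_inv_eq_iff_eq_mul] at this
        exact this
      have hle : N ≤ centralizer ({y} : Set X) := sup_le
        (fun n hn => mem_centralizer_singleton_iff.mpr (hcom n hn).eq.symm)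
        (fun s hs => mem_centralizer_singleton_iff.mpr (hcS s hs).eq.symm)
      exact fun x hx => (mem_centralizer_singleton_iff.mp (hle hx)).symm
    · intro s hs U hU hRU
      obtain ⟨V, hV, hUV, hRV⟩ := exists_inv_sylow_ge h.norm h.cop h.solv (hU.1.trans (hNH.trans hHG))
        hU.2.1 hRU
      rw [← sylowOf_inf_eq hU hV hUV]
      exact ⟨hPV V hV hRV hs.1, mem_sup_right hs⟩
  haveI := (H49.kInf_characteristic ↥S).1
  have hSK : normalizer (S : Set X) ≤ normalizer ((inducedFunctor kInfLower S : Subgroup X) : Set X) :=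
    Components.le_normalizer_map_characteristic _ le_rfl
  rw [← Coprime.commutator_sup_centralizer hRH (h.cop_of_le hHG) (Or.inl h.solv)]
  refine sup_le (le_sup_left.trans hN) ((le_inf (inf_le_left.trans hHG) inf_le_right).trans (hCS.trans hSK))

/-- The core step. -/
theorem Hyp.centralizes (h : Hyp p G R) (hp : 5 ≤ p) (hT : opIn p G = ⊥)
    (ih : ∀ H ≤ G, H ≠ G → Hyp p H R → ResCen p H R) : R ≤ centralizer (G : Set X) := by
  haveI := h.abel
  obtain ⟨P, hPG, hPp, hRP, hCP, hPV, hPmax⟩ := h.exists_meet (p := p)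
  set C := G ⊓ centralizer (R : Set X) with hC
  suffices hGC : G ≤ C by exact le_centralizer_iff.mp (hGC.trans inf_le_right)
  have hfix : ∀ {a : X}, a ∈ R → C ≤ G ⊓ centralizer {a} := fun {a} ha =>
    le_inf inf_le_left (inf_le_right.trans (centralizer_le (Set.singleton_subset_iff.mpr ha)))
  have hTP : ∀ a ∈ R, a ≠ 1 → opIn p (G ⊓ centralizer {a}) ≤ P := fun a ha _ =>
    hPmax _ ((opIn_le p _).trans inf_le_left) (isPGroup_opIn _) (le_normalizer_opIn_of (h.norm_fix ha))
      ((hfix ha).trans (le_normalizer_opIn p _))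
  by_cases hP : P = ⊥
  · refine Coprime.le_of_centralizer_noncyclic_le h.nc h.norm h.cop fun a ha ha1 => ?_
    have hTa : opIn p (G ⊓ centralizer {a}) = ⊥ := le_bot_iff.mp (hP ▸ hTP a ha ha1)
    have hD := (h.loc a ha ha1).commutator_le (h.norm_fix ha) (h.cop_of_le inf_le_left) h.solv
    rw [hTa, le_bot_iff, commutator_eq_bot_iff_le_centralizer] at hD
    exact le_inf inf_le_left ((le_inf le_rfl (by
      rw [← commutator_eq_bot_iff_le_centralizer, commutator_bot_right])).trans hD)
  exfalso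
  have hRp : (Nat.card R).Coprime p := by
    have hd : p ∣ Nat.card G := by
      haveI : Nontrivial P := (nontrivial_iff_ne_bot _).mpr hP
      obtain ⟨n, hn0, hn⟩ := hPp.nontrivial_iff_card.mp inferInstance
      exact (dvd_pow_self p hn0.ne').trans (hn ▸ card_dvd_of_le hPG)
    exact h.cop.coprime_dvd_right hd
  set Z := (center ↥P).map P.subtype with hZ
  have hZP : Z ≤ P := map_subtype_le _
  have hZne : Z ≠ ⊥ := by
    intro e
    haveI : Nontrivial P := (nontrivial_iff_ne_bot _).mpr hP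
    haveI := hPp.center_nontrivial
    exact (nontrivial_iff_ne_bot _).mp inferInstance
      ((map_eq_bot_iff_of_injective _ P.subtype_injective).mp e)
  have hPZ : P ≤ centralizer (Z : Set X) := fun x hx => mem_centralizer_iff.mpr fun z hz => by
    obtain ⟨z', hz', rfl⟩ := hz
    exact (congrArg Subtype.val (mem_center_iff.mp hz' ⟨x, hx⟩)).symm
  set HZ := G ⊓ centralizer (Z : Set X) with hHZ
  have hRZ : R ≤ normalizer (Z : Set X) := hRP.trans (Components.le_normalizer_map_characteristic _ le_rfl)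
  have hRHZ : R ≤ normalizer (HZ : Set X) := le_normalizer_iff.mpr fun b hb x hx =>
    ⟨Coprime.conj_mem (h.norm hb) hx.1,
      Coprime.conj_mem (H49.normalizer_le_normalizer_centralizer' _ (hRZ hb)) hx.2⟩
  have hHZne : HZ ≠ G := fun e => hZne (le_bot_iff.mp (hT ▸ le_opIn_of_normalized (hZP.trans hPG)
    ((inf_eq_left.mp e).trans (centralizer_le_normalizer _)) (hPp.to_le hZP)))
  have hgZ : ResCen p HZ R := ih HZ inf_le_left hHZne ⟨hRHZ, h.cop_of_le inf_le_left, h.abel, h.nc,
    fun a ha ha1 => (h.loc a ha ha1).inherit_of_le (h.norm_fix ha) (h.cop_of_le inf_le_left) h.solv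
      (inf_le_inf_right _ inf_le_left) (le_inf (le_inf ((opIn_le p _).trans inf_le_left)
        ((hTP a ha ha1).trans hPZ)) ((opIn_le p _).trans inf_le_right))⟩
  set K := inducedFunctor kInfLower P with hK
  suffices hGK : G ≤ normalizer (K : Set X) by
    have hKne : K ≠ ⊥ := ((H49.kLike_lower.isConjugacyFunctor p) P hPp).2.1 hP
    exact hKne (le_bot_iff.mp (hT ▸ le_opIn_of_normalized ((map_subtype_le _).trans hPG) hGK
      (hPp.to_le (map_subtype_le _))))
  refine Coprime.le_of_centralizer_noncyclic_le h.nc h.norm h.cop fun a ha ha1 => ?_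
  set M := G ⊓ centralizer {a} with hM
  set Ta := opIn p M with hTa
  have hMT : M ≤ normalizer (Ta : Set X) := le_normalizer_opIn p M
  have hRT : R ≤ normalizer (Ta : Set X) := le_normalizer_opIn_of (h.norm_fix ha)
  set D := G ⊓ centralizer (Ta : Set X) with hD
  have hRD : R ≤ normalizer (D : Set X) := le_normalizer_iff.mpr fun b hb x hx =>
    ⟨Coprime.conj_mem (h.norm hb) hx.1,
      Coprime.conj_mem (H49.normalizer_le_normalizer_centralizer' _ (hRT hb)) hx.2⟩
  have hMD : M ≤ normalizer (D : Set X) := le_normalizer_iff.mpr fun b hb x hx =>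
    ⟨G.mul_mem (G.mul_mem hb.1 hx.1) (G.inv_mem hb.1),
      Coprime.conj_mem (H49.normalizer_le_normalizer_centralizer' _ (hMT hb)) hx.2⟩
  set U := P ⊓ D with hU
  -- every Sylow subgroup of `D` invariant under `a` is invariant under `R`
  have hinv : ∀ V, IsSylowOf p V D → a ∈ normalizer (V : Set X) → R ≤ normalizer (V : Set X) := by
    intro V hV haV
    obtain ⟨V₀, hV₀, hRV₀⟩ := exists_inv_sylow (p := p) hRD (h.cop_of_le inf_le_left) h.solv
    obtain ⟨k, hk, e⟩ := exists_conj_sylowOf hV hV₀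
    obtain ⟨c, hc, e'⟩ := Coprime.exists_centralizer_conj (A := zpowers a) ((zpowers_le.mpr ha).trans hRD)
      ((h.cop_of_le inf_le_left).coprime_dvd_left (card_dvd_of_le (zpowers_le.mpr ha)))
      (Or.inl (Coprime.isSolvable_zpowers a)) ((zpowers_le.mpr ha).trans hRV₀) (zpowers_le.mpr haV) hk e
    have hcM : c ∈ M := ⟨hc.1.1, by
      refine mem_centralizer_singleton_iff.mpr ?_
      exact (mem_centralizer_iff.mp hc.2 a (mem_zpowers a)).symm⟩
    intro b hb
    have hz : b * c * b⁻¹ * c⁻¹ ∈ Ta := by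
      have := (h.loc a ha ha1).commutator_le (h.norm_fix ha) (h.cop_of_le inf_le_left) h.solv
        (commutator_mem_commutator ⟨hcM, hc.1.2⟩ hb)
      have h' := Ta.inv_mem this
      simpa [commutatorElement_def, mul_assoc] using h'
    set z := b * c * b⁻¹ * c⁻¹ with hzdef
    have hzV : V.map (MulAut.conj z).toMonoidHom = V := Coprime.map_conj_eq
      (centralizer_le_normalizer _ (mem_centralizer_iff.mpr fun v hv =>
        (mem_centralizer_iff.mp (hV.1 hv).2 z hz).symm))
    refine Coprime.mem_normalizer_of_map_conj ?_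
    calc V.map (MulAut.conj b).toMonoidHom = V₀.map (MulAut.conj (b * c)).toMonoidHom := by
          rw [← e', Coprime.map_conj_map_conj]
      _ = V₀.map (MulAut.conj (z * c * b)).toMonoidHom := by rw [hzdef]; simp [mul_assoc]
      _ = V := by
          rw [← Coprime.map_conj_map_conj, Coprime.map_conj_eq (hRV₀ hb), ← Coprime.map_conj_map_conj, e', hzV]
  -- `M` normalizes the meet of `D`
  have hUV : ∀ V, IsSylowOf p V D → R ≤ normalizer (V : Set X) → U ≤ V := by
    intro V hV hRV
    obtain ⟨W, hW, hVW, hRW⟩ := exists_inv_sylow_ge h.norm h.cop h.solv (hV.1.trans inf_le_left) hV.2.1 hRV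
    rw [← sylowOf_inf_eq hV hW hVW]
    exact inf_le_inf_right _ (hPV W hW hRW)
  have hRU : R ≤ normalizer (U : Set X) := le_normalizer_iff.mpr fun b hb x hx =>
    ⟨Coprime.conj_mem (hRP hb) hx.1, Coprime.conj_mem (hRD hb) hx.2⟩
  have hMU : M ≤ normalizer (U : Set X) := by
    refine le_normalizer_iff.mpr fun m hm x hx => ⟨?_, Coprime.conj_mem (hMD hm) hx.2⟩
    set U₀ : Subgroup X :=
      D ⊓ ⨅ V : {V // IsSylowOf p V D ∧ R ≤ normalizer (V : Set X)}, (V : Subgroup X) with hU₀
    have hU₀P : U₀ ≤ P := by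
      obtain ⟨V₁, hV₁, hRV₁⟩ := exists_inv_sylow (p := p) hRD (h.cop_of_le inf_le_left) h.solv
      refine hPmax _ (inf_le_left.trans inf_le_left) (hV₁.2.1.to_le (inf_le_right.trans
        (iInf_le (fun V : {V // IsSylowOf p V D ∧ R ≤ normalizer (V : Set X)} => (V : Subgroup X))
          ⟨V₁, hV₁, hRV₁⟩))) ?_ ?_
      · refine le_normalizer_iff.mpr fun b hb y hy =>
          ⟨Coprime.conj_mem (hRD hb) hy.1, mem_iInf.mpr fun V => ?_⟩
        exact Coprime.conj_mem (V.2.2 hb) (mem_iInf.mp hy.2 V)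
      · refine le_normalizer_iff.mpr fun c hc y hy =>
          ⟨Coprime.conj_mem (hMD (hfix ha hc)) hy.1, mem_iInf.mpr fun V => ?_⟩
        have hcD := hMD (hfix ha hc)
        have hV' := V.2.1.map_conj ((normalizer (D : Set X)).inv_mem hcD)
        have hRV' : R ≤ normalizer (((V : Subgroup X).map (MulAut.conj c⁻¹).toMonoidHom : Subgroup X) : Set X) :=
          fun b hb => Coprime.mem_normalizer_of_map_conj (by
            have hbc : b * c⁻¹ = c⁻¹ * b :=
              mem_centralizer_iff.mp ((centralizer (R : Set X)).inv_mem hc.2) b hb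
            rw [Coprime.map_conj_map_conj, hbc, ← Coprime.map_conj_map_conj, Coprime.map_conj_eq (V.2.2 hb)])
        have := mem_iInf.mp hy.2 ⟨_, hV', hRV'⟩
        rw [Coprime.mem_map_conj, inv_inv] at this
        exact this
    refine hU₀P ⟨Coprime.conj_mem (hMD hm) hx.2, mem_iInf.mpr fun V => ?_⟩
    have hmD := hMD hm
    have hV' : IsSylowOf p ((V : Subgroup X).map (MulAut.conj m⁻¹).toMonoidHom) D :=
      V.2.1.map_conj ((normalizer (D : Set X)).inv_mem hmD)
    have haV : a ∈ normalizer (((V : Subgroup X).map (MulAut.conj m⁻¹).toMonoidHom : Subgroup X) : Set X) :=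
      Coprime.mem_normalizer_of_map_conj (by
        have ham : a * m⁻¹ = m⁻¹ * a :=
          (Commute.inv_left (mem_centralizer_singleton_iff.mp hm.2 : Commute m a)).eq.symm
        rw [Coprime.map_conj_map_conj, ham, ← Coprime.map_conj_map_conj, Coprime.map_conj_eq (V.2.2 ha)])
    have := hUV _ hV' (hinv _ hV' haV) hx
    rw [Coprime.mem_map_conj, inv_inv] at this
    exact this
  set W₀ := (center ↥U).map U.subtype with hW₀
  have hZU : Z ≤ U := le_inf hZP (le_inf (hZP.trans hPG) fun z hz => mem_centralizer_iff.mpr fun t ht =>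
    (mem_centralizer_iff.mp (hPZ (hTP a ha ha1 ht)) z hz).symm)
  have hZW₀ : Z ≤ W₀ := fun z hz => ⟨⟨z, hZU hz⟩, mem_center_iff.mpr fun y => Subtype.ext
    (mem_centralizer_iff.mp (hPZ y.2.1) z hz).symm, rfl⟩
  obtain ⟨W, ⟨hZW, hWP, hMW, hRW⟩, hmax⟩ := Set.Finite.exists_maximalFor
    (fun W : Subgroup X => Nat.card ↥(P ⊓ normalizer (W : Set X)))
    {W : Subgroup X | Z ≤ W ∧ W ≤ P ∧ M ≤ normalizer (W : Set X) ∧ R ≤ normalizer (W : Set X)}
    (Set.toFinite _) ⟨W₀, hZW₀, (map_subtype_le _).trans inf_le_left,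
      hMU.trans (Components.le_normalizer_map_characteristic _ le_rfl),
      hRU.trans (Components.le_normalizer_map_characteristic _ le_rfl)⟩
  set H := G ⊓ normalizer (W : Set X) with hH
  have hMH : M ≤ H := le_inf inf_le_left hMW
  have hRH : R ≤ normalizer (H : Set X) := le_normalizer_iff.mpr fun b hb x hx =>
    ⟨Coprime.conj_mem (h.norm hb) hx.1, (normalizer (W : Set X)).mul_mem
      ((normalizer (W : Set X)).mul_mem (hRW hb) hx.2) ((normalizer (W : Set X)).inv_mem (hRW hb))⟩
  have hgH : ResCen p H R := by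
    set NW := HZ ⊓ normalizer (W : Set X) with hNW
    have hgNW : ResCen p NW R := hgZ.inherit_normalizer hRHZ (h.cop_of_le inf_le_left) h.solv
      (le_inf (hWP.trans hPG) (hWP.trans hPZ)) (hPp.to_le hWP)
    set N'' := G ⊓ centralizer (W : Set X) with hN''
    have hN''le : N'' ≤ NW := le_inf (le_inf inf_le_left (inf_le_right.trans (centralizer_le hZW)))
      (inf_le_right.trans (centralizer_le_normalizer _))
    have hn : ∀ {Y : Subgroup X}, Y ≤ G → Y ≤ normalizer (W : Set X) → Y ≤ normalizer (N'' : Set X) :=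
      fun hY1 hY2 => le_normalizer_iff.mpr fun b hb x hx =>
        ⟨G.mul_mem (G.mul_mem (hY1 hb) hx.1) (G.inv_mem (hY1 hb)),
          Coprime.conj_mem (H49.normalizer_le_normalizer_centralizer' _ (hY2 hb)) hx.2⟩
    have hgN : ResCen p N'' R := hgNW.normal hN''le (hn (inf_le_left.trans inf_le_left) inf_le_right)
    have hN''H : N'' ≤ H := le_inf inf_le_left (inf_le_right.trans (centralizer_le_normalizer _))
    have hWH : W ≤ opIn p H := le_opIn_of_normalized (le_inf (hWP.trans hPG) le_normalizer) inf_le_right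
      (hPp.to_le hWP)
    refine hgN.trans (centralizer_le (ofOf_le_iff.mpr fun g hgH hgc => mem_ofOf ?_ hgc))
    rw [fsOf_normal_le hN''H (hn inf_le_left inf_le_right)]
    exact ⟨hgH, (fsOf_le H hgH).1, centralizer_le hWH (ofOf_le_centralizer_opIn H (mem_ofOf hgH hgc))⟩
  set S := P ⊓ H with hS
  have hKS : H ≤ normalizer ((inducedFunctor kInfLower S : Subgroup X) : Set X) :=
    h.kInf_norm hp hRp hPp hRP hCP hPV hPmax inf_le_left hRH ((hfix ha).trans hMH) hgH
  by_cases hSP : S = P
  · rw [hSP] at hKS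
    exact hMH.trans hKS
  exfalso
  haveI := (H49.kInf_characteristic ↥S).1
  have hSn : normalizer (S : Set X) ≤ normalizer ((inducedFunctor kInfLower S : Subgroup X) : Set X) :=
    Components.le_normalizer_map_characteristic _ le_rfl
  have hRS : R ≤ normalizer (S : Set X) := le_normalizer_iff.mpr fun b hb x hx =>
    ⟨Coprime.conj_mem (hRP hb) hx.1, Coprime.conj_mem (hRH hb) hx.2⟩
  have hZS : Z ≤ S := le_inf hZP (le_inf (hZP.trans hPG) fun z hz => centralizer_le_normalizer _
    (mem_centralizer_iff.mpr fun w hw => (mem_centralizer_iff.mp (hPZ (hWP hw)) z hz).symm))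
  set W₁ := inducedFunctor kInfLower S with hW₁
  have hW₁mem : W₁ ∈ {W : Subgroup X | Z ≤ W ∧ W ≤ P ∧ M ≤ normalizer (W : Set X) ∧
      R ≤ normalizer (W : Set X)} :=
    ⟨fun z hz => H49.kLike_lower.induced_center_le S ⟨hZS hz, mem_centralizer_iff.mpr fun s hs =>
      (mem_centralizer_iff.mp (hPZ hs.1) z hz).symm⟩, (map_subtype_le _).trans inf_le_left,
      hMH.trans hKS, hRS.trans hSn⟩
  have hlt : S.subgroupOf P < ⊤ := lt_top_iff_ne_top.mpr fun e =>
    hSP (le_antisymm inf_le_left (subgroupOf_eq_top.mp e))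
  haveI : Group.IsNilpotent P := hPp.isNilpotent
  obtain ⟨x, hx, hxS⟩ := SetLike.exists_of_lt
    (Group.normalizerCondition_of_isNilpotent (G := P) (S.subgroupOf P) hlt)
  have hxn : (x : X) ∈ normalizer (S : Set X) := by
    rw [mem_normalizer_iff] at hx ⊢
    intro y
    constructor
    · intro hy
      exact (hx ⟨y, hy.1⟩).mp hy
    · intro hy
      have hyP : y ∈ P := by
        have := P.mul_mem (P.mul_mem (P.inv_mem x.2) hy.1) x.2
        simpa [mul_assoc] using this
      exact (hx ⟨y, hyP⟩).mpr hy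
  have hWle : P ⊓ normalizer (W : Set X) ≤ P ⊓ normalizer (W₁ : Set X) := fun y hy =>
    ⟨hy.1, hKS ⟨hPG hy.1, hy.2⟩⟩
  have hne : (x : X) ∉ P ⊓ normalizer (W : Set X) := fun hy => hxS ⟨x.2, hPG x.2, hy.2⟩
  have hlt' : P ⊓ normalizer (W : Set X) < P ⊓ normalizer (W₁ : Set X) :=
    lt_of_le_of_ne hWle fun e => hne (e ▸ ⟨x.2, hSn hxn⟩)
  have h1 := hmax hW₁mem (card_le_of_le hlt'.le)
  exact hlt'.ne (eq_of_le_of_card_ge hlt'.le h1)

end Cfsg.Agent.H63.Flavell
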