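import Cfsg.Agent.H63.Flavell.Group

/-!
An element lying in every invariant Sylow subgroup keeps the root spaces fixed by the acting
group, and centralizes every component when there is more than one.
-/

set_option autoImplicit false
set_option linter.unusedSectionVars false

namespace Cfsg.Agent.H63.Flavell

open Cfsg.Agent.H88 Subgroup
open Cfsg.Agent.H42.Eqv (rt_of_mem two_ne card_ne_three linked_conj_norm isMin_conj_norm map_grp_norm
  grp_eq_of_linked map_rootGroup_norm exists_conj_root conjE_sub_one)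
open H70.Wielandt (opIn opIn_le le_normalizer_opIn isPGroup_opIn)
open Cfsg.Agent.H40 (IsSylowOf)
open scoped commutatorElement

universe u

variable {p : ℕ} [Fact p.Prime] {M : Type u} [AddCommGroup M] [Module (ZMod p) M] [Finite M]

local notation "GL" => LinearMap.GeneralLinearGroup (ZMod p) M
local notation "End'" => Module.End (ZMod p) M

variable {Y B : Subgroup (LinearMap.GeneralLinearGroup (ZMod p) M)}

/-- Every invariant Sylow subgroup contains `g`. -/
def InAll (p : ℕ) {G : Type*} [Group G] (Y B : Subgroup G) (g : G) : Prop :=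
  ∀ S, IsSylowOf p S Y → B ≤ normalizer (S : Set G) → g ∈ S

theorem InAll.mono {G : Type*} [Group G] [Finite G] {Y B X : Subgroup G} {g : G}
    (hBY : B ≤ normalizer (Y : Set G)) (hcop : (Nat.card B).Coprime (Nat.card Y)) (hsolv : Group.IsSolvable B)
    (h : InAll p Y B g) (hXY : X ≤ Y) (hg : g ∈ X) : InAll p X B g := by
  intro S hS hBS
  obtain ⟨T, hT, hST, hBT⟩ := exists_inv_sylow_ge hBY hcop hsolv (hS.1.trans hXY) hS.2.1 hBS
  have := sylowOf_inf_eq hS hT hST
  exact this ▸ ⟨h T hT hBT, hg⟩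

/-- A quadratic element in every invariant Sylow subgroup. -/
structure Good (Y B : Subgroup (LinearMap.GeneralLinearGroup (ZMod p) M)) (R : Module.End (ZMod p) M) :
    Prop where
  sq : R * R = 0
  mem : oneAdd R sq ∈ Y
  all : InAll p Y B (oneAdd R sq)

/-- The standing hypotheses of the inductive step. -/
structure Ctx (Y B : Subgroup (LinearMap.GeneralLinearGroup (ZMod p) M)) : Prop where
  hp : 5 ≤ p
  hBY : B ≤ normalizer (Y : Set (LinearMap.GeneralLinearGroup (ZMod p) M))
  hcop : (Nat.card B).Coprime (Nat.card Y)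
  hsolv : Group.IsSolvable B
  semi : Semi Y
  ih : ∀ X B', X < Y → B' ≤ B → B' ≤ normalizer (X : Set (LinearMap.GeneralLinearGroup (ZMod p) M)) →
    ∀ (R : Module.End (ZMod p) M) (hR : R * R = 0), oneAdd R hR ∈ X → InAll p X B' (oneAdd R hR) →
      oneAdd R hR ∈ opIn p X

theorem mem_normalizer_rootGroup {x : GL} (hx : x ∈ normalizer (Y : Set GL)) {T : End'} (hT : IsMin Y T) :
    x ∈ normalizer (rootGroup Y T hT.sq : Set GL) ↔ conjE x T ∈ rootSpace Y T hT.sq := by
  constructor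
  · intro h
    have e := (map_rootGroup_norm hx hT).symm.trans (Coprime.map_conj_eq h)
    rw [← rootSpace_eq_of_rootGroup_eq e]
    exact self_mem_rootSpace (isMin_conj_norm hx hT).rt
  · intro h
    refine Coprime.mem_normalizer_of_map_conj ?_
    rw [map_rootGroup_norm hx hT]
    have hn : conjE x T ≠ 0 := fun e => hT.2.1 ((conjE_eq_zero_iff x T).mp e)
    exact rootGroup_congr (hT.ker_eq h hn) (hT.range_eq h hn)

/-- Fixed by every element of `B` that keeps its component. -/
def FixR (Y B : Subgroup GL) (T : End') (hT : T * T = 0) : Prop :=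
  ∀ b ∈ B, Linked Y T (conjE b T) → conjE b T ∈ rootSpace Y T hT

theorem Good.rt {R : End'} (hR : Good Y B R) : Rt Y R := rt_of_mem hR.sq hR.mem (oneAdd_val _ _)

theorem Good.norm {R : End'} (hR : Good Y B R) : oneAdd R hR.sq ∈ normalizer (Y : Set GL) :=
  le_normalizer hR.mem

variable (hc : Ctx Y B)
include hc

theorem Ctx.noUnip : NoUnip Y := hc.semi.noUnip

theorem Ctx.good_conj {R : End'} (hR : Good Y B R) {b : GL} (hb : b ∈ B) : Good Y B (conjE b R) := by
  have hsq : conjE b R * conjE b R = 0 := by rw [conjE_mul, hR.sq, conjE_zero]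
  have e : oneAdd (conjE b R) hsq = b * oneAdd R hR.sq * b⁻¹ :=
    Units.ext (by rw [oneAdd_val, Units.val_mul, Units.val_mul, oneAdd_val, conjE_one_add])
  refine ⟨hsq, ?_, fun S hS hBS => ?_⟩
  · rw [e]; exact Coprime.conj_mem (hc.hBY hb) hR.mem
  · rw [e]; exact Coprime.conj_mem (hBS hb) (hR.all S hS hBS)

/-- A good element keeps every component. -/
theorem Ctx.linked_conj {R : End'} (hR : Good Y B R) {A : End'} (hA : IsMin Y A) :
    Linked Y A (conjE (oneAdd R hR.sq) A) := by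
  have h2 := two_ne (p := p) hc.hp
  have h3 := card_ne_three (p := p) hc.hp
  set g := oneAdd R hR.sq with hg
  by_contra hnl
  have hval : ∀ n : ℕ, ((g ^ n : GL) : End') = 1 + (n : ZMod p) • R := by
    intro n
    induction n with
    | zero => simp
    | succ n ih =>
      rw [pow_succ, Units.val_mul, ih, hg, oneAdd_val, add_mul, one_mul, mul_add, mul_one, smul_mul_assoc,
        hR.sq, smul_zero, add_zero, Nat.cast_succ, add_smul, one_smul]
      abel
  have hgp : g ^ p = 1 := Units.ext (by rw [hval, ZMod.natCast_self, zero_smul, add_zero, Units.val_one])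
  have hn : ∀ n : ℕ, ¬ p ∣ n → ¬ Linked Y A (conjE (g ^ n) A) := by
    intro n hn hl
    have hall : ∀ m : ℕ, Linked Y A (conjE (g ^ (n * m)) A) := by
      intro m
      induction m with
      | zero => rw [mul_zero, pow_zero, conjE_one]; exact Relation.ReflTransGen.refl
      | succ m ih =>
        rw [Nat.mul_succ, add_comm, pow_add, ← conjE_conjE]
        exact hl.trans (linked_conj_norm ((normalizer _).pow_mem hR.norm n) ih)
    have hu : (n : ZMod p) ≠ 0 := fun e => hn ((ZMod.natCast_eq_zero_iff n p).mp e)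
    have h1 : g ^ (n * ((n : ZMod p)⁻¹).val) = g := by
      refine Units.ext ?_
      rw [hval, Nat.cast_mul, ZMod.natCast_zmod_val, mul_inv_cancel₀ hu, one_smul, hg, oneAdd_val]
    exact hnl (h1 ▸ hall _)
  obtain ⟨Z, hZ, hne⟩ := exists_not_commute h2 h3 hc.noUnip hA
  set f : ZMod p → End' := fun a => A + a • (R * A - A * R) - (a * a) • (R * A * R) with hf
  have hconj : ∀ n : ℕ, conjE (g ^ n) A = f (n : ZMod p) := by
    intro n
    have e : g ^ n = oneAdd ((n : ZMod p) • R) (smul_sq R hR.sq _) :=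
      Units.ext (by rw [hval, oneAdd_val])
    rw [e, conjE_oneAdd, hf]
    simp only [add_mul, mul_sub, one_mul, mul_one, smul_mul_assoc, mul_smul_comm, smul_smul]
    module
  have hcomm : ∀ n : ℕ, ¬ p ∣ n → f (n : ZMod p) * Z = Z * f (n : ZMod p) := by
    intro n hnd
    rw [← hconj]
    refine commute_of_not_linked h2 h3 hc.noUnip (isMin_conj_norm ((normalizer _).pow_mem hR.norm n) hA) hZ.2.1
      fun hl => hn n hnd ?_
    exact (Relation.ReflTransGen.single hZ).trans hl.symm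
  have hp5 := hc.hp
  have d1 : ¬ p ∣ 1 := fun h => by have := Nat.le_of_dvd (by norm_num) h; omega
  have d2 : ¬ p ∣ 2 := fun h => by have := Nat.le_of_dvd (by norm_num) h; omega
  have d3 : ¬ p ∣ 3 := fun h => by have := Nat.le_of_dvd (by norm_num) h; omega
  have c1 := hcomm 1 d1
  have c2 := hcomm 2 d2
  have c3 := hcomm 3 d3
  have e : A = (3 : ZMod p) • f (1 : ℕ) - (3 : ZMod p) • f (2 : ℕ) + f (3 : ℕ) := by
    simp only [hf, Nat.cast_one, Nat.cast_ofNat]
    module
  apply hne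
  rw [e]
  simp only [add_mul, sub_mul, mul_add, mul_sub, smul_mul_assoc, mul_smul_comm, c1, c2, c3]

theorem Ctx.norm_grp {R : End'} (hR : Good Y B R) {A : End'} (hA : IsMin Y A) :
    oneAdd R hR.sq ∈ normalizer (grp Y A : Set GL) :=
  Coprime.mem_normalizer_of_map_conj (by
    rw [map_grp_norm hR.norm, ← grp_eq_of_linked (hc.linked_conj hR hA)])

theorem Ctx.mem_normalizer_grp_iff {A : End'} (hA : IsMin Y A) {b : GL} (hb : b ∈ normalizer (Y : Set GL)) :
    b ∈ normalizer (grp Y A : Set GL) ↔ Linked Y A (conjE b A) := by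
  have h2 := two_ne (p := p) hc.hp
  have h3 := card_ne_three (p := p) hc.hp
  constructor
  · intro hn
    by_contra hnl
    have h := commutator_grp h2 h3 hc.noUnip hnl
    rw [← map_grp_norm hb, Coprime.map_conj_eq hn] at h
    obtain ⟨Z, hZ, hne⟩ := exists_not_commute h2 h3 hc.noUnip hA
    have hm := mem_centralizer_iff.mp (commutator_eq_bot_iff_le_centralizer.mp h
      (oneAdd_mem_grp hc.hp hc.noUnip hA Relation.ReflTransGen.refl (self_mem_rootSpace hA.rt))) _
      (oneAdd_mem_grp hc.hp hc.noUnip hA (Relation.ReflTransGen.single hZ) (self_mem_rootSpace hZ.2.1.rt))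
    have h' := congrArg (Units.val : _ → End') hm
    rw [Units.val_mul, Units.val_mul, oneAdd_val, oneAdd_val] at h'
    exact hne (by linear_combination (norm := noncomm_ring) -h')
  · intro hl
    exact Coprime.mem_normalizer_of_map_conj (by rw [map_grp_norm hb, ← grp_eq_of_linked hl])

/-- Each component has a fixed root space. -/
theorem Ctx.exists_fixR {A : End'} (hA : IsMin Y A) :
    ∃ C, ∃ hC : IsMin Y C, Linked Y A C ∧ FixR Y B C hC.sq := by
  have h2 := two_ne (p := p) hc.hp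
  have h3 := card_ne_three (p := p) hc.hp
  set L := grp Y A with hL
  set B1 := B ⊓ normalizer (L : Set GL) with hB1
  letI := Coprime.conjAction GL
  obtain ⟨E, ⟨C, hC, hlC, rfl⟩, hfix⟩ : ∃ E ∈ rootPart Y A, ∀ a ∈ B1, a • E = E := by
    refine Coprime.exists_fixed_point (K := L) (A := B1) inf_le_right
      ((hc.hcop.coprime_dvd_right (card_dvd_of_le (grp_le_Y A))).coprime_dvd_left (card_dvd_of_le inf_le_left))
      (Or.inl (Coprime.isSolvable_of_le inf_le_left hc.hsolv)) ⟨_, A, hA, Relation.ReflTransGen.refl, rfl⟩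
      ?_ ?_ ?_
    · rintro a ha _ ⟨C, hC, hlC, rfl⟩
      exact ⟨conjE a C, isMin_conj_norm (hc.hBY ha.1) hC,
        ((hc.mem_normalizer_grp_iff hA (hc.hBY ha.1)).mp ha.2).trans (linked_conj_norm (hc.hBY ha.1) hlC),
        map_rootGroup_norm (hc.hBY ha.1) hC⟩
    · rintro _ ⟨C, hC, hlC, rfl⟩ _ ⟨D, hD, hlD, rfl⟩
      obtain ⟨g, hg, eg⟩ := exists_conj_root h2 h3 hc.noUnip hA C hlC hC
      obtain ⟨g', hg', eg'⟩ := exists_conj_root h2 h3 hc.noUnip hA D hlD hD
      refine ⟨g' * g⁻¹, L.mul_mem hg' (L.inv_mem hg), ?_⟩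
      show (rootGroup Y C hC.sq).map (MulAut.conj (g' * g⁻¹)).toMonoidHom = _
      rw [eg, Coprime.map_conj_map_conj, inv_mul_cancel_right, eg']
    · rintro g hg _ ⟨C, hC, hlC, rfl⟩
      exact ⟨conjE g C, hC.conj (grp_le_Y A hg),
        hlC.trans (linked_conj_of_mem h2 h3 hc.noUnip (H42.Eqv.grp_le_minGroup A hg) hC),
        map_rootGroup_norm (le_normalizer (grp_le_Y A hg)) hC⟩
  refine ⟨C, hC, hlC, fun b hb hl => ?_⟩
  refine (mem_normalizer_rootGroup (hc.hBY hb) hC).mp (Coprime.mem_normalizer_of_map_conj (hfix b ⟨hb, ?_⟩))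
  exact (hc.mem_normalizer_grp_iff hA (hc.hBY hb)).mpr
    (hlC.trans (hl.trans (linked_conj_norm (hc.hBY hb) hlC).symm))

theorem Ctx.fixR_conj {T : End'} (hT : IsMin Y T) (h : FixR Y B T hT.sq) {b : GL} (hb : b ∈ B) :
    FixR Y B (conjE b T) (isMin_conj_norm (hc.hBY hb) hT).sq := by
  intro c hcB hl
  have hd : b⁻¹ * c * b ∈ B := B.mul_mem (B.mul_mem (B.inv_mem hb) hcB) hb
  have hl' : Linked Y T (conjE (b⁻¹ * c * b) T) := by
    have := linked_conj_norm (hc.hBY (B.inv_mem hb)) hl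
    rwa [conjE_conjE, conjE_conjE, conjE_conjE, inv_mul_cancel, conjE_one] at this
  have hm := h _ hd hl'
  have hz := conj_member (hc.hBY hb) hT (isMin_conj_norm (hc.hBY hb) hT)
    (self_mem_rootSpace (isMin_conj_norm (hc.hBY hb) hT).rt) hm
  rwa [conjE_conjE, mul_assoc, mul_inv_cancel_left, ← conjE_conjE] at hz

/-- A fixed root space has a fixed normalized partner. -/
theorem Ctx.exists_partner {T : End'} (hT : IsMin Y T) (h : FixR Y B T hT.sq) :
    ∃ F, ∃ hF : IsMin Y F, Pr T F ∧ FixR Y B F hF.sq := by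
  have h2 := two_ne (p := p) hc.hp
  set L := grp Y T with hL
  set B1 := B ⊓ normalizer (L : Set GL) with hB1
  have hstab : ∀ a ∈ B1, conjE a T ∈ rootSpace Y T hT.sq := fun a ha =>
    h a ha.1 ((hc.mem_normalizer_grp_iff hT (hc.hBY ha.1)).mp ha.2)
  set S : Set (Subgroup GL) := {E | ∃ (F : End') (hF : IsMin Y F), Pr T F ∧ E = rootGroup Y F hF.sq} with hS
  letI := Coprime.conjAction GL
  have hW : B1 ≤ normalizer (wgrp L T : Set GL) := le_normalizer_iff.mpr fun a ha w hw =>
    wgrp_conj_mem hc.hp hT ha.2 (hstab a ha) hT.2.1 hw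
  obtain ⟨E, ⟨F, hF, d, rfl⟩, hfix⟩ : ∃ E ∈ S, ∀ a ∈ B1, a • E = E := by
    refine Coprime.exists_fixed_point (K := wgrp L T) (A := B1) hW
      ((hc.hcop.coprime_dvd_right (card_dvd_of_le ((wgrp_le _ _).trans (grp_le_Y T)))).coprime_dvd_left
        (card_dvd_of_le inf_le_left))
      (Or.inl (Coprime.isSolvable_of_le inf_le_left hc.hsolv)) ?_ ?_ ?_ ?_
    · obtain ⟨Z, hZ, hn⟩ := exists_opposite h2 hc.noUnip hT
      obtain ⟨F, -, hF, d⟩ := exists_pr hc.hp (⟨hT, hZ, hn⟩ : Opp Y T Z)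
      exact ⟨_, F, hF, d, rfl⟩
    · rintro a ha _ ⟨F, hF, d, rfl⟩
      have hn : conjE a T ≠ 0 := fun e => hT.2.1 ((conjE_eq_zero_iff a T).mp e)
      have hopp : Opp Y (conjE a T) (conjE a F) :=
        opp_of_pr (isMin_conj_norm (hc.hBY ha.1) hT) (isMin_conj_norm (hc.hBY ha.1) hF) (d.conj a)
      have hTm : T ∈ rootSpace Y (conjE a T) hopp.1.sq := by
        rw [rootSpace_eq hT (hstab a ha) hn]; exact self_mem_rootSpace hT.rt
      have hopp' := opp_members hc.hp hopp hTm hT.2.1 (self_mem_rootSpace hopp.2.1.rt) hopp.2.1.2.1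
      obtain ⟨F', hF', hF'm, d'⟩ := exists_pr hc.hp hopp'
      refine ⟨F', hF'm, d', ?_⟩
      show (rootGroup Y F hF.sq).map (MulAut.conj a).toMonoidHom = _
      rw [map_rootGroup_norm (hc.hBY ha.1) hF]
      exact (rootGroup_congr (hopp'.2.1.ker_eq hF' hF'm.2.1) (hopp'.2.1.range_eq hF' hF'm.2.1)).symm
    · rintro _ ⟨F, hF, d, rfl⟩ _ ⟨F', hF', d', rfl⟩
      obtain ⟨w, hw, e⟩ := exists_trans hc.hp hc.noUnip hT hF hF' d d'
      refine ⟨w, hw, ?_⟩
      show (rootGroup Y F hF.sq).map (MulAut.conj w).toMonoidHom = _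
      rw [map_rootGroup_norm (le_normalizer (grp_le_Y T hw.1)) hF]
      exact rootGroup_congr (by rw [e]) (by rw [e])
    · rintro w hw _ ⟨F, hF, d, rfl⟩
      have d' := d.conj w
      rw [wgrp_fix hw] at d'
      exact ⟨_, isMin_conj_norm (le_normalizer (grp_le_Y T hw.1)) hF, d',
        map_rootGroup_norm (le_normalizer (grp_le_Y T hw.1)) hF⟩
  refine ⟨F, hF, d, fun b hb hl => ?_⟩
  refine (mem_normalizer_rootGroup (hc.hBY hb) hF).mp (Coprime.mem_normalizer_of_map_conj (hfix b ⟨hb, ?_⟩))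
  rw [hL, grp_eq_of_linked (Relation.ReflTransGen.single (opp_of_pr hT hF d) : Linked Y T F)]
  exact (hc.mem_normalizer_grp_iff hF (hc.hBY hb)).mpr hl

/-- Whatever normalizes a subgroup fixing only one root space keeps that root space. -/
theorem Ctx.stab_of_norm {T F : End'} (hT : IsMin Y T) (hF : IsMin Y F) (d : Pr T F) {U : Subgroup GL}
    (hWU : wgrp (grp Y T) T ≤ U) (hUY : U ≤ Y) (hU : ∀ u ∈ U, conjE u T ∈ rootSpace Y T hT.sq) {x : GL}
    (hx : x ∈ normalizer (Y : Set GL)) (hxU : x ∈ normalizer (U : Set GL)) (hl : Linked Y T (conjE x T)) :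
    conjE x T ∈ rootSpace Y T hT.sq := by
  have hxm := isMin_conj_norm hx hT
  refine fixed_unique hc.hp hc.noUnip hT hF d hxm hl fun w hw => ?_
  have hu : x⁻¹ * w * x ∈ U := Coprime.conj_mem' hxU (hWU hw)
  have := conj_member hx hT hxm (self_mem_rootSpace hxm.rt) (hU _ hu)
  rwa [conjE_conjE, ← mul_assoc, mul_inv_cancel_left, ← conjE_conjE] at this

/-- An invariant Sylow subgroup of a component fixing the given root space. -/
theorem Ctx.exists_sylow_grp {T F : End'} (hT : IsMin Y T) (hF : IsMin Y F) (d : Pr T F)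
    (h : FixR Y B T hT.sq) :
    ∃ U, IsSylowOf p U (grp Y T) ∧ B ⊓ normalizer (grp Y T : Set GL) ≤ normalizer (U : Set GL) ∧
      wgrp (grp Y T) T ≤ U ∧ ∀ u ∈ U, conjE u T ∈ rootSpace Y T hT.sq := by
  set L := grp Y T with hL
  set B1 := B ⊓ normalizer (L : Set GL) with hB1
  set K := L ⊓ normalizer (rootGroup Y T hT.sq : Set GL) with hK
  have hB1r : B1 ≤ normalizer (rootGroup Y T hT.sq : Set GL) := fun b hb =>
    (mem_normalizer_rootGroup (hc.hBY hb.1) hT).mpr
      (h b hb.1 ((hc.mem_normalizer_grp_iff hT (hc.hBY hb.1)).mp hb.2))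
  have hBK : B1 ≤ normalizer (K : Set GL) := le_normalizer_iff.mpr fun b hb x hx =>
    ⟨Coprime.conj_mem hb.2 hx.1, (normalizer _).mul_mem ((normalizer _).mul_mem (hB1r hb) hx.2)
      ((normalizer _).inv_mem (hB1r hb))⟩
  obtain ⟨U, hU, hBU⟩ := exists_inv_sylow (p := p) hBK
    ((hc.hcop.coprime_dvd_right (card_dvd_of_le (inf_le_left.trans (grp_le_Y T)))).coprime_dvd_left
      (card_dvd_of_le inf_le_left)) (Coprime.isSolvable_of_le inf_le_left hc.hsolv)
  have hstab : ∀ u ∈ K, conjE u T ∈ rootSpace Y T hT.sq := fun u hu =>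
    (mem_normalizer_rootGroup (le_normalizer (grp_le_Y T hu.1)) hT).mp hu.2
  have hWK : wgrp L T ≤ K := fun w hw => ⟨hw.1, (mem_normalizer_rootGroup (le_normalizer (grp_le_Y T hw.1)) hT).mpr
    (by rw [wgrp_fix hw]; exact self_mem_rootSpace hT.rt)⟩
  have hWU : wgrp L T ≤ U := by
    obtain ⟨c, hcK, hle⟩ := exists_map_conj_le hU (wgrp_isPGroup hc.hp L T) hWK
    intro w hw
    have hm : c⁻¹ * w * c⁻¹⁻¹ ∈ wgrp L T :=
      wgrp_conj_mem hc.hp hT (le_normalizer (L.inv_mem hcK.1)) (hstab _ (K.inv_mem hcK)) hT.2.1 hw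
    exact hle ⟨_, hm, by simp [mul_assoc]⟩
  refine ⟨U, sylowOf_of_normalizer_le inf_le_left hU ?_, hBU, hWU, fun u hu => hstab u (hU.1 hu)⟩
  intro x hx
  refine ⟨hx.1, (mem_normalizer_rootGroup (le_normalizer (grp_le_Y T hx.1)) hT).mpr ?_⟩
  exact hc.stab_of_norm hT hF d hWU (hU.1.trans (inf_le_left.trans (grp_le_Y T)))
    (fun u hu => hstab u (hU.1 hu)) (le_normalizer (grp_le_Y T hx.1)) hx.2
    (linked_conj_of_mem (two_ne hc.hp) (card_ne_three hc.hp) hc.noUnip (H42.Eqv.grp_le_minGroup T hx.1) hT)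

/-- A good element keeps every fixed root space. -/
theorem Ctx.stab_good {R : End'} (hR : Good Y B R) {T : End'} (hT : IsMin Y T) (h : FixR Y B T hT.sq) :
    conjE (oneAdd R hR.sq) T ∈ rootSpace Y T hT.sq := by
  have h2 := two_ne (p := p) hc.hp
  have h3 := card_ne_three (p := p) hc.hp
  obtain ⟨F, hF, d, -⟩ := hc.exists_partner hT h
  obtain ⟨U, hU, hBU, hWU, hstab⟩ := hc.exists_sylow_grp hT hF d h
  let f : B → Subgroup GL := fun b => U.map (MulAut.conj (b : GL)).toMonoidHom
  have hn : ∀ i j, f i ≤ normalizer (f j : Set GL) := by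
    intro i j
    by_cases hl : Linked Y (conjE (i : GL) T) (conjE (j : GL) T)
    · have hd : (i : GL)⁻¹ * j ∈ B := B.mul_mem (B.inv_mem i.2) j.2
      have hl' : Linked Y T (conjE ((i : GL)⁻¹ * j) T) := by
        have := linked_conj_norm (hc.hBY (B.inv_mem i.2)) hl
        rwa [conjE_conjE, conjE_conjE, inv_mul_cancel, conjE_one] at this
      have e := Coprime.map_conj_eq (hBU ⟨hd, (hc.mem_normalizer_grp_iff hT (hc.hBY hd)).mpr hl'⟩)
      have hij : f j = f i := by
        show U.map (MulAut.conj (j : GL)).toMonoidHom = U.map (MulAut.conj (i : GL)).toMonoidHom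
        conv_rhs => rw [← e]
        rw [Coprime.map_conj_map_conj, mul_inv_cancel_left]
      rw [hij]
      exact le_normalizer
    · have hcom := commutator_grp h2 h3 hc.noUnip hl
      rw [← map_grp_norm (hc.hBY i.2), ← map_grp_norm (hc.hBY j.2)] at hcom
      have hle := commutator_eq_bot_iff_le_centralizer.mp hcom
      exact ((Subgroup.map_mono hU.1).trans hle).trans
        ((centralizer_le (Subgroup.map_mono hU.1)).trans (centralizer_le_normalizer _))
  have hPY : (⨆ b, f b) ≤ Y := iSup_le fun b => by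
    rintro _ ⟨x, hx, rfl⟩
    exact Coprime.conj_mem (hc.hBY b.2) (grp_le_Y T (hU.1 hx))
  have hPB : B ≤ normalizer ((⨆ b, f b : Subgroup GL) : Set GL) := fun a ha => by
    refine Coprime.mem_normalizer_of_map_conj ?_
    rw [Subgroup.map_iSup]
    refine Function.Surjective.iSup_congr (fun b : B => (⟨a, ha⟩ : B) * b)
      (fun b => ⟨(⟨a, ha⟩ : B)⁻¹ * b, mul_inv_cancel_left _ _⟩) fun b => ?_
    show U.map (MulAut.conj (a * (b : GL))).toMonoidHom = _
    rw [← Coprime.map_conj_map_conj]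
  obtain ⟨S, hS, hPS, hBS⟩ := exists_inv_sylow_ge hc.hBY hc.hcop hc.hsolv hPY
    (isPGroup_iSup f (fun b => hU.2.1.map _) hn) hPB
  have hUS : U ≤ S := fun x hx => hPS (le_iSup f (1 : B) ⟨x, hx, by simp⟩)
  have e := sylowOf_inf_eq hU hS hUS
  have hgU : oneAdd R hR.sq ∈ normalizer (U : Set GL) := by
    rw [← e]
    exact mem_normalizer_iff.mpr fun x => and_congr (mem_normalizer_iff.mp (le_normalizer (hR.all S hS hBS)) x)
      (mem_normalizer_iff.mp (hc.norm_grp hR hT) x)
  exact hc.stab_of_norm hT hF d hWU (hU.1.trans (grp_le_Y T)) hstab hR.norm hgU (hc.linked_conj hR hT)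

omit hc in
/-- The elements keeping all conjugates of two root spaces. -/
def levi (Y B : Subgroup GL) (T F : End') : Subgroup GL :=
  Y ⊓ ⨅ b : B, ⨅ (h : IsMin Y (conjE (b : GL) T)) (h' : IsMin Y (conjE (b : GL) F)),
    normalizer (rootGroup Y _ h.sq : Set GL) ⊓ normalizer (rootGroup Y _ h'.sq : Set GL)

theorem Ctx.mem_levi {T F : End'} (hT : IsMin Y T) (hF : IsMin Y F) {x : GL} :
    x ∈ levi Y B T F ↔ x ∈ Y ∧ ∀ (b : GL) (hb : b ∈ B),
      conjE x (conjE b T) ∈ rootSpace Y (conjE b T) (isMin_conj_norm (hc.hBY hb) hT).sq ∧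
      conjE x (conjE b F) ∈ rootSpace Y (conjE b F) (isMin_conj_norm (hc.hBY hb) hF).sq := by
  simp only [levi, mem_inf, mem_iInf]
  constructor
  · rintro ⟨hx, h⟩
    refine ⟨hx, fun b hb => ?_⟩
    have hT' := isMin_conj_norm (hc.hBY hb) hT
    have hF' := isMin_conj_norm (hc.hBY hb) hF
    obtain ⟨a, c⟩ := h ⟨b, hb⟩ hT' hF'
    exact ⟨(mem_normalizer_rootGroup (le_normalizer hx) hT').mp a,
      (mem_normalizer_rootGroup (le_normalizer hx) hF').mp c⟩
  · rintro ⟨hx, h⟩
    exact ⟨hx, fun b hT' hF' => ⟨(mem_normalizer_rootGroup (le_normalizer hx) hT').mpr (h b b.2).1,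
      (mem_normalizer_rootGroup (le_normalizer hx) hF').mpr (h b b.2).2⟩⟩

theorem Ctx.levi_norm {T F : End'} (hT : IsMin Y T) (hF : IsMin Y F) :
    B ≤ normalizer (levi Y B T F : Set GL) := le_normalizer_iff.mpr fun a ha x hx => by
  rw [hc.mem_levi hT hF] at hx ⊢
  refine ⟨Coprime.conj_mem (hc.hBY ha) hx.1, fun b hb => ?_⟩
  have hb' : a⁻¹ * b ∈ B := B.mul_mem (B.inv_mem ha) hb
  have key : ∀ {C : End'} (hC : IsMin Y C),
      conjE x (conjE (a⁻¹ * b) C) ∈ rootSpace Y (conjE (a⁻¹ * b) C) (isMin_conj_norm (hc.hBY hb') hC).sq →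
      conjE (a * x * a⁻¹) (conjE b C) ∈ rootSpace Y (conjE b C) (isMin_conj_norm (hc.hBY hb) hC).sq := by
    intro C hC h
    have := conj_member (hc.hBY ha) (isMin_conj_norm (hc.hBY hb') hC) (isMin_conj_norm (hc.hBY hb) hC)
      (by rw [conjE_conjE, mul_inv_cancel_left]; exact self_mem_rootSpace (isMin_conj_norm (hc.hBY hb) hC).rt) h
    rwa [conjE_conjE, conjE_conjE, ← mul_assoc, ← conjE_conjE] at this
  exact ⟨key hT (hx.2 _ hb').1, key hF (hx.2 _ hb').2⟩

theorem Ctx.good_mem_levi {R : End'} (hR : Good Y B R) {T F : End'} (hT : IsMin Y T) (hF : IsMin Y F)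
    (hfT : FixR Y B T hT.sq) (hfF : FixR Y B F hF.sq) : oneAdd R hR.sq ∈ levi Y B T F :=
  (hc.mem_levi hT hF).mpr ⟨hR.mem, fun _ hb =>
    ⟨hc.stab_good hR (isMin_conj_norm (hc.hBY hb) hT) (hc.fixR_conj hT hfT hb),
      hc.stab_good hR (isMin_conj_norm (hc.hBY hb) hF) (hc.fixR_conj hF hfF hb)⟩⟩

theorem Ctx.oneAdd_not_stab {T F : End'} (hT : IsMin Y T) (hF : IsMin Y F) (d : Pr T F) :
    conjE (oneAdd T hT.sq) F ∉ rootSpace Y F hF.sq := fun h => by
  rw [conjE_oneAdd] at h
  have := rootSpace_commute_of_normalize (two_ne hc.hp) hT hF (self_mem_rootSpace hT.rt) hT.2.1 h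
  exact hT.2.1 (by rw [← d.TFT, this, mul_assoc, hT.sq, mul_zero])

theorem Ctx.good_mem_opIn {R : End'} (hR : Good Y B R) {T F : End'} (hT : IsMin Y T) (hF : IsMin Y F)
    (d : Pr T F) (hfT : FixR Y B T hT.sq) (hfF : FixR Y B F hF.sq) :
    oneAdd R hR.sq ∈ opIn p (levi Y B T F) := by
  have hle : levi Y B T F ≤ Y := inf_le_left
  refine hc.ih _ B (lt_of_le_of_ne hle fun e => ?_) le_rfl (hc.levi_norm hT hF) R hR.sq
    (hc.good_mem_levi hR hT hF hfT hfF) (hR.all.mono hc.hBY hc.hcop hc.hsolv hle (hc.good_mem_levi hR hT hF hfT hfF))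
  have hm : oneAdd T hT.sq ∈ levi Y B T F := e.ge hT.rt.oneAdd_mem
  have h1 := (((hc.mem_levi hT hF).mp hm).2 1 B.one_mem).2
  simp only [conjE_one] at h1
  exact hc.oneAdd_not_stab hT hF d h1

/-- With a second component, a good element centralizes each component. -/
theorem Ctx.commute_grp {R : End'} (hR : Good Y B R) {T C₀ : End'} (hT₀ : IsMin Y T) (hC₀ : IsMin Y C₀)
    (hnl₀ : ¬ Linked Y T C₀) : ∀ x ∈ grp Y T, Commute x (oneAdd R hR.sq) := by
  have h2 := two_ne (p := p) hc.hp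
  have h3 := card_ne_three (p := p) hc.hp
  obtain ⟨T₁, hT, hlT, hfT⟩ := hc.exists_fixR hT₀
  obtain ⟨C, hC, hlC, hfC⟩ := hc.exists_fixR hC₀
  have hnl : ¬ Linked Y T₁ C := fun h => hnl₀ (hlT.trans (h.trans hlC.symm))
  rw [grp_eq_of_linked hlT]
  set L := grp Y T₁ with hL
  set g := oneAdd R hR.sq with hg
  set B1 := B ⊓ normalizer (L : Set GL) with hB1
  set G1 : Set GL := (fun b => b * g * b⁻¹) '' (B1 : Set GL) with hG1
  set P1 := closure G1 with hP1
  have hgP : g ∈ P1 := subset_closure ⟨1, B1.one_mem, by simp⟩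
  have hPgen : ∀ {Q : Subgroup GL}, (∀ R', ∀ hR' : Good Y B R', oneAdd R' hR'.sq ∈ Q) → P1 ≤ Q := by
    intro Q hQ
    rw [hP1, closure_le]
    rintro _ ⟨b, hb, rfl⟩
    have h' := hc.good_conj hR hb.1
    have e : oneAdd (conjE b R) h'.sq = b * g * b⁻¹ :=
      Units.ext (by rw [oneAdd_val, Units.val_mul, Units.val_mul, oneAdd_val, conjE_one_add])
    show b * g * b⁻¹ ∈ Q
    rw [← e]
    exact hQ _ h'
  have hPY : P1 ≤ Y := hPgen fun R' hR' => hR'.mem
  have hPL : P1 ≤ normalizer (L : Set GL) := hPgen fun R' hR' => hc.norm_grp hR' hT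
  have hBP : B1 ≤ normalizer (P1 : Set GL) := le_normalizer_iff.mpr fun a ha x hx => by
    refine conj_mem_closure (fun y hy => ?_) hx
    obtain ⟨b, hb, rfl⟩ := hy
    exact subset_closure ⟨a * b, B1.mul_mem ha hb, by simp [mul_assoc]⟩
  set X1 := L ⊔ P1 with hX1
  have hXY : X1 ≤ Y := sup_le (grp_le_Y _) hPY
  have hXL : X1 ≤ normalizer (L : Set GL) := sup_le le_normalizer hPL
  have hgX : g ∈ X1 := mem_sup_right hgP
  have hBX : B1 ≤ normalizer (X1 : Set GL) := fun b hb => Coprime.mem_normalizer_of_map_conj (by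
    rw [hX1, Subgroup.map_sup, Coprime.map_conj_eq hb.2, Coprime.map_conj_eq (hBP hb)])
  have hlt : X1 < Y := by
    refine lt_of_le_of_ne hXY fun e => ?_
    obtain ⟨G, hG, dG, -⟩ := hc.exists_partner hC hfC
    have hLC : L ≤ normalizer (rootGroup Y C hC.sq : Set GL) := by
      refine le_trans ?_ (centralizer_le_normalizer _)
      refine (commutator_eq_bot_iff_le_centralizer.mp (commutator_grp h2 h3 hc.noUnip hnl)).trans
        (centralizer_le ?_)
      exact rootGroup_le_grp h2 h3 hc.noUnip hC Relation.ReflTransGen.refl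
    have hPC : P1 ≤ normalizer (rootGroup Y C hC.sq : Set GL) :=
      hPgen fun R' hR' => (mem_normalizer_rootGroup hR'.norm hC).mpr (hc.stab_good hR' hC hfC)
    have hG' : oneAdd G hG.sq ∈ normalizer (rootGroup Y C hC.sq : Set GL) :=
      sup_le hLC hPC (e.ge hG.rt.oneAdd_mem)
    exact hc.oneAdd_not_stab hG hC dG.symm
      ((mem_normalizer_rootGroup (le_normalizer hG.rt.oneAdd_mem) hC).mp hG')
  have hall : InAll p X1 B1 g := by
    intro S hS hBS
    have hT' := sylowOf_inf_normal (le_sup_left : L ≤ X1) hXL hS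
    obtain ⟨F, hF, d, -⟩ := hc.exists_partner hT hfT
    obtain ⟨U, hU, -, hWU, hstab⟩ := hc.exists_sylow_grp hT hF d hfT
    obtain ⟨l, hl, el⟩ := exists_conj_sylowOf hT' hU
    have hlY := le_normalizer (grp_le_Y T₁ hl)
    set D := conjE l T₁ with hD
    have hDm : IsMin Y D := isMin_conj_norm hlY hT
    have hlD : Linked Y T₁ D := linked_conj_of_mem h2 h3 hc.noUnip (H42.Eqv.grp_le_minGroup _ hl) hT
    have hLD : grp Y D = L := (grp_eq_of_linked hlD).symm
    have hDU : ∀ u ∈ S ⊓ L, conjE u D ∈ rootSpace Y D hDm.sq := by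
      intro u hu
      rw [← el] at hu
      obtain ⟨v, hv, rfl⟩ := hu
      have := conj_member hlY hT hDm (self_mem_rootSpace hDm.rt) (hstab v hv)
      show conjE (l * v * l⁻¹) D ∈ _
      have e : conjE (l * v * l⁻¹) D = conjE l (conjE v T₁) := by
        simp only [hD, conjE_conjE, inv_mul_cancel_right]
      rwa [e]
    have hWD : wgrp (grp Y D) D ≤ S ⊓ L := by
      rw [hLD, ← el]
      intro w hw
      refine ⟨l⁻¹ * w * l⁻¹⁻¹, hWU ?_, by simp [mul_assoc]⟩
      refine wgrp_conj_mem hc.hp hT (le_normalizer (L.inv_mem hl)) ?_ hDm.2.1 hw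
      rw [hD, conjE_conjE, inv_mul_cancel, conjE_one]
      exact self_mem_rootSpace hT.rt
    have hfD : FixR Y B D hDm.sq := by
      intro b hb hlb
      obtain ⟨G₀, hG₀, hn₀⟩ := exists_opposite h2 hc.noUnip hDm
      obtain ⟨G, -, hG, dG⟩ := exists_pr hc.hp (⟨hDm, hG₀, hn₀⟩ : Opp Y D G₀)
      have hbL : b ∈ normalizer (L : Set GL) := by
        rw [← hLD]; exact (hc.mem_normalizer_grp_iff hDm (hc.hBY hb)).mpr hlb
      refine hc.stab_of_norm hDm hG dG hWD (inf_le_right.trans (grp_le_Y _)) hDU (hc.hBY hb) ?_ hlb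
      exact mem_normalizer_iff.mpr fun x => and_congr (mem_normalizer_iff.mp (hBS ⟨hb, hbL⟩) x)
        (mem_normalizer_iff.mp hbL x)
    obtain ⟨G, hG, dG, hfG⟩ := hc.exists_partner hDm hfD
    set V := levi Y B D G with hV
    set J := X1 ⊓ (normalizer (rootGroup Y D hDm.sq : Set GL) ⊓ normalizer (rootGroup Y G hG.sq : Set GL))
      with hJ
    have hlG : Linked Y D G := Relation.ReflTransGen.single (opp_of_pr hDm hG dG)
    have hPV : P1 ≤ V := hPgen fun R' hR' => hc.good_mem_levi hR' hDm hG hfD hfG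
    have hJV : J ≤ V := by
      intro y hy
      obtain ⟨a, ha, x, hx, rfl⟩ := (Coprime.mem_sup_iff hPL).mp hy.1
      refine V.mul_mem ((hc.mem_levi hDm hG).mpr ⟨grp_le_Y T₁ ha, fun b hb => ?_⟩) (hPV hx)
      have hxs := ((hc.mem_levi hDm hG).mp (hPV hx)).2 1 B.one_mem
      simp only [conjE_one] at hxs
      have hxY := le_normalizer (hPY hx)
      have haD : a ∈ normalizer (rootGroup Y D hDm.sq : Set GL) ⊓ normalizer (rootGroup Y G hG.sq : Set GL) := by
        have h1 : x ∈ normalizer (rootGroup Y D hDm.sq : Set GL) ⊓ normalizer (rootGroup Y G hG.sq : Set GL) :=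
          ⟨(mem_normalizer_rootGroup hxY hDm).mpr hxs.1, (mem_normalizer_rootGroup hxY hG).mpr hxs.2⟩
        have := Subgroup.mul_mem _ hy.2 (Subgroup.inv_mem _ h1)
        rwa [mul_inv_cancel_right] at this
      have haY := le_normalizer (grp_le_Y T₁ ha)
      by_cases hlb : Linked Y D (conjE b D)
      · have hlb' : Linked Y G (conjE b G) :=
          hlG.symm.trans (hlb.trans (linked_conj_norm (hc.hBY hb) hlG))
        have key : ∀ {Z : End'} (hZ : IsMin Y Z), FixR Y B Z hZ.sq → Linked Y Z (conjE b Z) →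
            conjE a Z ∈ rootSpace Y Z hZ.sq →
            conjE a (conjE b Z) ∈ rootSpace Y (conjE b Z) (isMin_conj_norm (hc.hBY hb) hZ).sq := by
          intro Z hZ hfZ hl h
          have hn : conjE b Z ≠ 0 := fun e => hZ.2.1 ((conjE_eq_zero_iff b Z).mp e)
          have hm := hfZ b hb hl
          rw [rootSpace_eq hZ hm hn]
          exact conj_member haY hZ hZ h hm
        exact ⟨key hDm hfD hlb ((mem_normalizer_rootGroup haY hDm).mp haD.1),
          key hG hfG hlb' ((mem_normalizer_rootGroup haY hG).mp haD.2)⟩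
      · have key : ∀ {Z : End'} (hZ : IsMin Y Z), ¬ Linked Y D (conjE b Z) →
            conjE a (conjE b Z) = conjE b Z := by
          intro Z hZ hnl'
          have hZb := isMin_conj_norm (hc.hBY hb) hZ
          have hcom := commutator_grp h2 h3 hc.noUnip hnl'
          rw [hLD] at hcom
          have hm := mem_centralizer_iff.mp (commutator_eq_bot_iff_le_centralizer.mp hcom ha) _
            (oneAdd_mem_grp hc.hp hc.noUnip hZb Relation.ReflTransGen.refl (self_mem_rootSpace hZb.rt))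
          have h' := congrArg (Units.val : _ → End') hm
          rw [Units.val_mul, Units.val_mul, oneAdd_val, add_mul, mul_add, one_mul, mul_one] at h'
          exact conjE_eq_iff.mpr (add_left_cancel h').symm
        have hlb2 : ¬ Linked Y D (conjE b G) := fun e =>
          hlb (e.trans (linked_conj_norm (hc.hBY hb) hlG).symm)
        rw [key hDm hlb, key hG hlb2]
        exact ⟨self_mem_rootSpace (isMin_conj_norm (hc.hBY hb) hDm).rt,
          self_mem_rootSpace (isMin_conj_norm (hc.hBY hb) hG).rt⟩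
    have hgV := hc.good_mem_opIn hR hDm hG dG hfD hfG
    have hgJ : g ∈ J := by
      have h' := ((hc.mem_levi hDm hG).mp (hPV hgP)).2 1 B.one_mem
      simp only [conjE_one] at h'
      exact ⟨hgX, (mem_normalizer_rootGroup hR.norm hDm).mpr h'.1,
        (mem_normalizer_rootGroup hR.norm hG).mpr h'.2⟩
    set W := wgrp (grp Y D) D with hWdef
    set Qn := opIn p V ⊓ J with hQn
    set N := X1 ⊓ normalizer (rootGroup Y D hDm.sq : Set GL) with hNdef
    have hNW : N ≤ normalizer (W : Set GL) := le_normalizer_iff.mpr fun y hy w hw =>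
      wgrp_conj_mem hc.hp hDm (by rw [hLD]; exact hXL hy.1)
        ((mem_normalizer_rootGroup (le_normalizer (hXY hy.1)) hDm).mp hy.2) hDm.2.1 hw
    have hQW : Qn ≤ normalizer (W : Set GL) := fun y hy => hNW ⟨hy.2.1, hy.2.2.1⟩
    have hMp : IsPGroup p (Qn ⊔ W : Subgroup GL) :=
      ((isPGroup_opIn V).to_le inf_le_left).to_sup_of_normal_right' (wgrp_isPGroup hc.hp _ _) hQW
    have hMN : N ≤ normalizer ((Qn ⊔ W : Subgroup GL) : Set GL) := by
      intro y hy
      have hyY := le_normalizer (hXY hy.1)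
      obtain ⟨w, hw, hgr⟩ := exists_factor hc.hp hc.noUnip hyY hDm hG dG
        ((mem_normalizer_rootGroup hyY hDm).mp hy.2)
      have hwX : w ∈ X1 := mem_sup_left (hLD ▸ hw.1)
      have hxX : w⁻¹ * y ∈ X1 := X1.mul_mem (X1.inv_mem hwX) hy.1
      have hxY := le_normalizer (hXY hxX)
      have hxJ : w⁻¹ * y ∈ J := ⟨hxX, (mem_normalizer_rootGroup hxY hDm).mpr (stab_of_grd hxY hDm dG hgr),
        (mem_normalizer_rootGroup hxY hG).mpr (stab_of_grd hxY hG dG.symm hgr.symm)⟩
      have h1 : w⁻¹ * y ∈ normalizer ((Qn ⊔ W : Subgroup GL) : Set GL) := by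
        refine Coprime.mem_normalizer_of_map_conj ?_
        have hq : w⁻¹ * y ∈ normalizer (Qn : Set GL) := mem_normalizer_iff.mpr fun z =>
          and_congr (mem_normalizer_iff.mp (le_normalizer_opIn p V (hJV hxJ)) z)
            (mem_normalizer_iff.mp (le_normalizer hxJ) z)
        rw [Subgroup.map_sup, Coprime.map_conj_eq hq, Coprime.map_conj_eq (hNW ⟨hxX, hxJ.2.1⟩)]
      have h2' : w ∈ normalizer ((Qn ⊔ W : Subgroup GL) : Set GL) := le_normalizer (mem_sup_right hw)
      simpa using mul_mem h2' h1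
    have hSN : S ≤ N := fun y hy => ⟨hS.1 hy, (mem_normalizer_rootGroup (le_normalizer (hXY (hS.1 hy))) hDm).mpr (by
      have hyn : y ∈ normalizer ((S ⊓ L : Subgroup GL) : Set GL) := mem_normalizer_iff.mpr fun x =>
        and_congr (mem_normalizer_iff.mp (le_normalizer hy) x) (mem_normalizer_iff.mp (hXL (hS.1 hy)) x)
      refine hc.stab_of_norm hDm hG dG hWD (inf_le_right.trans (grp_le_Y _)) hDU
        (le_normalizer (hXY (hS.1 hy))) hyn ?_
      exact (hc.mem_normalizer_grp_iff hDm (le_normalizer (hXY (hS.1 hy)))).mp (by rw [hLD]; exact hXL (hS.1 hy)))⟩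
    have hle : Qn ⊔ W ≤ X1 := sup_le (inf_le_right.trans inf_le_left) (((wgrp_le _ _).trans hLD.le).trans le_sup_left)
    have hsup := hS.eq_of_le (hS.2.1.to_sup_of_normal_right' hMp (hSN.trans hMN)) le_sup_left (sup_le hS.1 hle)
    rw [hsup]
    exact mem_sup_right (mem_sup_left ⟨hgV, hgJ⟩)
  have hgcore := hc.ih X1 B1 hlt inf_le_left hBX R hR.sq hgX hall
  intro x hx
  have hsemi : Semi L := semi_grp h2 h3 hc.semi hT
  have hN : opIn p X1 ⊓ L = ⊥ := by
    refine eq_bot_of_semi hsemi inf_le_right (fun y hy => ?_) ((isPGroup_opIn X1).to_le inf_le_left)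
    exact mem_normalizer_iff.mpr fun z => and_congr
      (mem_normalizer_iff.mp (le_normalizer_opIn p X1 (mem_sup_left hy)) z) (mem_normalizer_iff.mp (le_normalizer hy) z)
  have hmem : ⁅x, g⁆ ∈ opIn p X1 ⊓ L := by
    refine ⟨(opIn p X1).mul_mem (Coprime.conj_mem (le_normalizer_opIn p X1 (mem_sup_left hx)) hgcore)
      ((opIn p X1).inv_mem hgcore), ?_⟩
    rw [commutatorElement_def, mul_assoc, mul_assoc]
    refine L.mul_mem hx ?_
    rw [← mul_assoc]
    exact Coprime.conj_mem (hXL hgX) (L.inv_mem hx)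
  rw [hN, mem_bot] at hmem
  exact commutatorElement_eq_one_iff_commute.mp hmem

end Cfsg.Agent.H63.Flavell
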