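import Cfsg.Agent.H63.Flavell.Root
import Cfsg.Agent.H40.Factor
import Cfsg.Agent.H70.Wielandt

/-!
Group facts used in the proof: Sylow subgroups inside a subgroup, invariant Sylow subgroups, and
`p`-groups of linear maps.
-/

set_option autoImplicit false
set_option linter.unusedSectionVars false

namespace Cfsg.Agent.H63.Flavell

open Cfsg.Agent.H88 Subgroup
open H70.Wielandt (opIn opIn_le le_normalizer_opIn isPGroup_opIn le_opIn_of_normalized)
open Cfsg.Agent.H40 (IsSylowOf isSylowOf_map)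

universe u

section groups

variable {G : Type*} [Group G] [Finite G] {p : ℕ} [Fact p.Prime]

theorem exists_inv_sylow_ge {K A U : Subgroup G} (hAK : A ≤ normalizer (K : Set G))
    (hcop : (Nat.card A).Coprime (Nat.card K)) (hsolv : Group.IsSolvable A) (hUK : U ≤ K)
    (hU : IsPGroup p U) (hUA : A ≤ normalizer (U : Set G)) :
    ∃ S, IsSylowOf p S K ∧ U ≤ S ∧ A ≤ normalizer (S : Set G) := by
  obtain ⟨P, h1, h2⟩ := Coprime.exists_invariant_sylow_ge hAK hcop (Or.inl hsolv) p hUK hU hUA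
  exact ⟨_, isSylowOf_map P, h1, h2⟩

theorem exists_inv_sylow {K A : Subgroup G} (hAK : A ≤ normalizer (K : Set G))
    (hcop : (Nat.card A).Coprime (Nat.card K)) (hsolv : Group.IsSolvable A) :
    ∃ S, IsSylowOf p S K ∧ A ≤ normalizer (S : Set G) := by
  obtain ⟨S, h1, -, h2⟩ := exists_inv_sylow_ge (p := p) hAK hcop hsolv bot_le IsPGroup.of_bot
    (by rw [normalizer_eq_top]; exact le_top)
  exact ⟨S, h1, h2⟩

theorem sylowOf_inf_eq {K L S T : Subgroup G} (hT : IsSylowOf p T L) (hS : IsSylowOf p S K) (h : T ≤ S) :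
    S ⊓ L = T :=
  (hT.eq_of_le (hS.2.1.to_le inf_le_left) (le_inf h hT.1) inf_le_right).symm

theorem exists_map_conj_le {K S Q : Subgroup G} (hS : IsSylowOf p S K) (hQ : IsPGroup p Q) (hQK : Q ≤ K) :
    ∃ c ∈ K, Q.map (MulAut.conj c).toMonoidHom ≤ S := by
  let S' : Sylow p K := Sylow.ofCard (S.subgroupOf K)
    (by rw [Nat.card_congr (subgroupOfEquivOfLe hS.1).toEquiv]; exact hS.2.2)
  obtain ⟨P, hP⟩ := (hQ.comap_of_injective K.subtype K.subtype_injective).exists_le_sylow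
  obtain ⟨c, hc⟩ := MulAction.exists_smul_eq K P S'
  refine ⟨c, c.2, ?_⟩
  rintro _ ⟨x, hx, rfl⟩
  have h1 : c * ⟨x, hQK hx⟩ * c⁻¹ ∈ ((c • P : Sylow p K) : Subgroup K) := by
    rw [Sylow.coe_subgroup_smul]
    exact ⟨⟨x, hQK hx⟩, hP hx, rfl⟩
  rw [hc] at h1
  exact h1

theorem exists_conj_sylowOf {K S T : Subgroup G} (hS : IsSylowOf p S K) (hT : IsSylowOf p T K) :
    ∃ c ∈ K, T.map (MulAut.conj c).toMonoidHom = S := by
  obtain ⟨c, hc, hle⟩ := exists_map_conj_le hS hT.2.1 hT.1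
  exact ⟨c, hc, (hT.map_conj (le_normalizer hc)).eq_of_le hS.2.1 hle hS.1⟩

/-- A Sylow subgroup meets a normal subgroup in a Sylow subgroup. -/
theorem sylowOf_inf_normal {K L S : Subgroup G} (hLK : L ≤ K) (hn : K ≤ normalizer (L : Set G))
    (hS : IsSylowOf p S K) : IsSylowOf p (S ⊓ L) L := by
  obtain ⟨T, hT, -⟩ := exists_inv_sylow (p := p) (A := (⊥ : Subgroup G)) (K := L) bot_le
    (by rw [Subgroup.card_bot]; exact Nat.coprime_one_left _) inferInstance
  obtain ⟨c, hc, hle⟩ := exists_map_conj_le hS hT.2.1 (hT.1.trans hLK)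
  have hT' := hT.map_conj (hn hc)
  rw [sylowOf_inf_eq hT' hS hle]
  exact hT'

/-- A Sylow subgroup of `K ≤ L` whose normalizer in `L` lies in `K` is Sylow in `L`. -/
theorem sylowOf_of_normalizer_le {K L T : Subgroup G} (hKL : K ≤ L) (hT : IsSylowOf p T K)
    (hn : L ⊓ normalizer (T : Set G) ≤ K) : IsSylowOf p T L := by
  obtain ⟨S, hS, hTS, -⟩ := exists_inv_sylow_ge (p := p) (A := (⊥ : Subgroup G)) (K := L) bot_le
    (by rw [Subgroup.card_bot]; exact Nat.coprime_one_left _) inferInstance (hT.1.trans hKL) hT.2.1 bot_le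
  suffices h : T = S by rw [h]; exact hS
  by_contra hne
  have hlt : T.subgroupOf S < ⊤ := lt_top_iff_ne_top.mpr fun e =>
    hne (le_antisymm hTS (subgroupOf_eq_top.mp e))
  haveI : Group.IsNilpotent S := hS.2.1.isNilpotent
  have hlt' := Group.normalizerCondition_of_isNilpotent (G := S) (T.subgroupOf S) hlt
  obtain ⟨x, hx, hxT⟩ := SetLike.exists_of_lt hlt'
  have hxn : (x : G) ∈ normalizer (T : Set G) := by
    rw [mem_normalizer_iff] at hx ⊢
    intro y
    constructor
    · intro hy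
      exact (hx ⟨y, hTS hy⟩).mp hy
    · intro hy
      have hyS : y ∈ S := by
        have := S.mul_mem (S.mul_mem (S.inv_mem x.2) (hTS hy)) x.2
        simpa [mul_assoc] using this
      exact (hx ⟨y, hyS⟩).mpr hy
  have hxK : (x : G) ∈ K := hn ⟨hS.1 x.2, hxn⟩
  have hp : IsPGroup p (S ⊓ K : Subgroup G) := hS.2.1.to_le inf_le_left
  have := hT.eq_of_le hp (le_inf hTS hT.1) inf_le_right
  exact hxT (show (x : G) ∈ T from this.ge ⟨x.2, hxK⟩)

theorem isPGroup_iSup {ι : Type*} [Finite ι] (f : ι → Subgroup G) (hf : ∀ i, IsPGroup p (f i))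
    (hn : ∀ i j, f i ≤ normalizer (f j : Set G)) : IsPGroup p (⨆ i, f i : Subgroup G) := by
  classical
  haveI := Fintype.ofFinite ι
  have key : ∀ s : Finset ι, IsPGroup p (s.sup f : Subgroup G) ∧ ∀ i, f i ≤ normalizer ((s.sup f : Subgroup G) : Set G) := by
    intro s
    induction s using Finset.induction with
    | empty =>
      rw [Finset.sup_empty]
      exact ⟨IsPGroup.of_bot, fun i => by rw [normalizer_eq_top]; exact le_top⟩
    | insert a s _ ih =>
      rw [Finset.sup_insert]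
      refine ⟨(hf a).to_sup_of_normal_right' ih.1 (ih.2 a), fun i => ?_⟩
      intro x hx
      refine Coprime.mem_normalizer_of_map_conj ?_
      rw [Subgroup.map_sup, Coprime.map_conj_eq (hn i a hx), Coprime.map_conj_eq (ih.2 i hx)]
  have e : (⨆ i, f i) = Finset.univ.sup f :=
    le_antisymm (iSup_le fun i => Finset.le_sup (f := f) (Finset.mem_univ i))
      (Finset.sup_le fun i _ => le_iSup f i)
  rw [e]
  exact (key _).1

theorem le_normalizer_opIn_of {H A : Subgroup G} (hA : A ≤ normalizer (H : Set G)) :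
    A ≤ normalizer (opIn p H : Set G) :=
  Components.le_normalizer_map_characteristic _ hA

end groups

section linear

variable {p : ℕ} [Fact p.Prime] {M : Type u} [AddCommGroup M] [Module (ZMod p) M] [Finite M]
  {Y : Subgroup (LinearMap.GeneralLinearGroup (ZMod p) M)}

local notation "GL" => LinearMap.GeneralLinearGroup (ZMod p) M
local notation "End'" => Module.End (ZMod p) M

/-- A `p`-group fixes a non-zero vector of every non-zero invariant subspace. -/
theorem exists_fixed {S : Subgroup GL} (hS : IsPGroup p S) {W : Submodule (ZMod p) M}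
    (hinv : ∀ g ∈ S, ∀ w ∈ W, (g : End') w ∈ W) (hW : W ≠ ⊥) :
    ∃ w ∈ W, w ≠ 0 ∧ ∀ g ∈ S, (g : End') w = w := by
  letI : MulAction S W :=
    { smul := fun g w => ⟨((g : GL) : End') w, hinv g g.2 w w.2⟩
      one_smul := fun w => rfl
      mul_smul := fun g h w => rfl }
  have hdvd : p ∣ Nat.card W := by
    rw [Module.natCard_eq_pow_finrank (K := ZMod p), Nat.card_zmod]
    exact dvd_pow_self p (fun e => hW (Submodule.finrank_eq_zero.mp e))
  have h0 : (0 : W) ∈ MulAction.fixedPoints S W := fun g => Subtype.ext (map_zero ((g : GL) : End'))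
  obtain ⟨w, hw, hw0⟩ := hS.exists_fixed_point_of_prime_dvd_card_of_fixed_point W hdvd h0
  exact ⟨w, w.2, fun e => hw0 (Subtype.ext e.symm), fun g hg => congrArg Subtype.val (hw ⟨g, hg⟩)⟩

/-- A semisimple group has no non-trivial normal `p`-subgroup. -/
theorem eq_bot_of_semi {H N : Subgroup GL} (hH : Semi H) (hNH : N ≤ H) (hn : H ≤ normalizer (N : Set GL))
    (hN : IsPGroup p N) : N = ⊥ := by
  rw [eq_bot_iff]
  intro x hx
  rw [mem_bot]
  refine Units.ext (LinearMap.ext fun m => ?_)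
  let Fx : Submodule (ZMod p) M := ⨅ g ∈ N, LinearMap.ker ((g : End') - 1)
  have hFx : ∀ {w : M}, w ∈ Fx ↔ ∀ g ∈ N, (g : End') w = w := fun {w} => by
    simp [Fx, Submodule.mem_iInf, sub_eq_zero]
  have key : ∀ W, IrrSub H W → W ≤ Fx := by
    intro W hW
    have hinv : Invar H (W ⊓ Fx) := by
      intro h hh w hw
      refine ⟨hW.1 h hh w hw.1, hFx.mpr fun g hg => ?_⟩
      have e : g * h = h * (h⁻¹ * g * h) := by group
      rw [← Module.End.mul_apply, ← Units.val_mul, e, Units.val_mul, Module.End.mul_apply,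
        hFx.mp hw.2 _ (Coprime.conj_mem' (hn hh) hg)]
    obtain ⟨w, hw, hw0, hfix⟩ := exists_fixed hN (fun g hg => hW.1 g (hNH hg)) hW.2.1
    have hne : W ⊓ Fx ≠ ⊥ := fun e => hw0 <| by
      have hmem : w ∈ W ⊓ Fx := ⟨hw, hFx.mpr hfix⟩
      rwa [e, Submodule.mem_bot] at hmem
    exact (hW.2.2 _ inf_le_left hinv hne).ge.trans inf_le_right
  have hm : m ∈ (⨆ W ∈ {W | IrrSub H W}, W) := by rw [show (⨆ W ∈ {W | IrrSub H W}, W) = ⊤ from hH]; trivial
  exact hFx.mp (iSup₂_le key hm) x hx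

/-- Opposite minimal elements do not lie in a common `p`-subgroup. -/
theorem no_opp_pgroup (hp : 5 ≤ p) {S : Subgroup GL} (hS : IsPGroup p S) {A B : End'} (h : Opp Y A B)
    (hA : oneAdd A h.1.sq ∈ S) (hB : oneAdd B h.2.1.sq ∈ S) : False := by
  obtain ⟨c⟩ := exists_coords h.1.sq h.2.1.sq h.2.2
  obtain ⟨hirr, eT, eB⟩ :=
    pair_structure (H42.Eqv.two_ne hp) (H42.Eqv.card_ne_three hp) h.1 h.2.1 c
  have hle : c.ψ.range ≤ S := by
    rw [c.range_ψ (H42.Eqv.two_ne hp) (H42.Eqv.card_ne_three hp) hirr eT eB, Subgroup.closure_le]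
    rintro _ (⟨t, rfl⟩ | ⟨t, rfl⟩)
    · exact (H42.Eqv.rt_of_mem h.1.sq hA (oneAdd_val _ _)).mem t rfl
    · exact (H42.Eqv.rt_of_mem h.2.1.sq hB (oneAdd_val _ _)).mem t rfl
  let n1 : Matrix.SpecialLinearGroup (Fin 2) (AdjoinRoot c.g) :=
    ⟨!![-1, 0; 0, -1], by simp [Matrix.det_fin_two]⟩
  set t := c.ψ n1 with ht
  have hsq : t ^ 2 = 1 := by
    rw [ht, ← map_pow, show n1 ^ 2 = 1 by
      rw [sq]
      refine Subtype.ext ?_
      show (!![-1, 0; 0, -1] : Matrix (Fin 2) (Fin 2) (AdjoinRoot c.g)) * !![-1, 0; 0, -1] = 1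
      ext i j; fin_cases i <;> fin_cases j <;> simp [Matrix.mul_apply, Fin.sum_univ_two], map_one]
  obtain ⟨k, hk⟩ := hS ⟨t, hle ⟨n1, rfl⟩⟩
  have hk' : t ^ p ^ k = 1 := by simpa using congrArg Subtype.val hk
  have hodd : Nat.gcd 2 (p ^ k) = 1 :=
    Nat.Coprime.pow_right k ((Nat.coprime_primes Nat.prime_two Fact.out).mpr (by omega))
  have h1 : t = 1 := by simpa [hodd] using pow_gcd_eq_one.mpr ⟨hsq, hk'⟩
  have h2 : c.Φ !![-1, 0; 0, -1] + (1 - c.P) = 1 := by
    have := congrArg Units.val h1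
    rwa [ht, c.ψ_val] at this
  rw [c.Φ_scalar, map_neg, ← Coords.P] at h2
  have h3 : (2 : ZMod p) • c.P = 0 := by
    rw [two_smul]; linear_combination (norm := abel) -h2
  have hP := (smul_eq_zero.mp h3).resolve_left (H42.Eqv.two_ne hp)
  exact h.1.2.1 (by rw [← eT, hP, mul_zero])

/-- Non-opposite elements. -/
theorem TZT_of_pgroup (hp : 5 ≤ p) {S : Subgroup GL} (hS : IsPGroup p S) {A B : End'} (hA : IsMin Y A)
    (hB : IsMin Y B) (hAS : oneAdd A hA.sq ∈ S) (hBS : oneAdd B hB.sq ∈ S) : A * B * A = 0 := by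
  by_contra h
  exact no_opp_pgroup hp hS (opp_of_ne hp hA hB h) hAS hBS

end linear

end Cfsg.Agent.H63.Flavell
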