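import Cfsg.Agent.H63.Flavell.Fixed

/-!
The case of a single component: an element lying in every invariant Sylow subgroup centralizes it.
-/

set_option autoImplicit false
set_option linter.unusedSectionVars false

namespace Cfsg.Agent.H63.Flavell

open Cfsg.Agent.H88 Subgroup
open Cfsg.Agent.H42.Eqv (rt_of_mem rt_of_smul two_ne three_ne card_ne_three linked_conj_norm isMin_conj_norm
  map_grp_norm grp_eq_of_linked map_rootGroup_norm conjE_sub_one)
open H70.Wielandt (opIn opIn_le le_normalizer_opIn isPGroup_opIn)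
open Cfsg.Agent.H40 (IsSylowOf)

universe u v

section general

variable {k : Type v} [Field k] {M : Type u} [AddCommGroup M] [Module k M] [FiniteDimensional k M]

/-- Two corners composing to zero have total rank at most that of the pair. -/
theorem Pr.rk_le {T F x y : Module.End k M} (d : Pr T F) (hx : T * F * x = x) (hy : y * (F * T) = y)
    (h : y * F * x = 0) : rk (x + y) ≤ rk T := by
  have e : F * T * (F * x) = F * x := by rw [← mul_assoc (F * T) F x, d.FTF]
  have h0 : y * (F * T) * (F * x) = 0 := by rw [mul_assoc, e, ← mul_assoc, h]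
  have h1 := rk_corner (F * T) (F * x) y h0
  rw [e, hy] at h1
  have h2 : rk x ≤ rk (F * x) := by
    conv_lhs => rw [← hx, mul_assoc]
    exact rk_mul_right _ _
  have h3 : rk (F * T) ≤ rk T := rk_mul_right _ _
  have := rk_add_le x y
  omega

/-- The invertible maps preserving a subspace in both directions. -/
def setStab (N : Submodule k M) : Subgroup (LinearMap.GeneralLinearGroup k M) where
  carrier := {g | ∀ x, x ∈ N ↔ (g : Module.End k M) x ∈ N}
  one_mem' := fun _ => Iff.rfl
  mul_mem' := fun {g h} hg hh x => (hh x).trans (hg _)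
  inv_mem' := fun {g} hg x => by
    refine Iff.symm ((hg _).trans ?_)
    rw [← Module.End.mul_apply, Units.mul_inv]; rfl

theorem mem_setStab {N : Submodule k M} {g : LinearMap.GeneralLinearGroup k M}
    (h : ∀ x ∈ N, (g : Module.End k M) x ∈ N) : g ∈ setStab N := by
  have hinj : Function.Injective (g : Module.End k M) := Function.LeftInverse.injective
    (g := ((g⁻¹ : LinearMap.GeneralLinearGroup k M) : Module.End k M)) fun m => by
      rw [← Module.End.mul_apply, Units.inv_mul]; rfl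
  have e : N.map (g : Module.End k M) = N := by
    refine Submodule.eq_of_le_of_finrank_eq ?_ (Submodule.equivMapOfInjective _ hinj N).finrank_eq.symm
    rintro _ ⟨x, hx, rfl⟩
    exact h x hx
  intro x
  refine ⟨h x, fun hx => ?_⟩
  rw [← e] at hx
  obtain ⟨y, hy, ey⟩ := hx
  exact hinj ey ▸ hy

theorem grd_oneAdd {T F Z : Module.End k M} (hZ : Z * Z = 0) (h : Grd T F Z) :
    Grd T F ((oneAdd Z hZ : LinearMap.GeneralLinearGroup k M) : Module.End k M) :=
  ⟨(Commute.one_left _).add_left h.1, (Commute.one_left _).add_left h.2⟩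

end general

variable {p : ℕ} [Fact p.Prime] {M : Type u} [AddCommGroup M] [Module (ZMod p) M] [Finite M]

local notation "GL" => LinearMap.GeneralLinearGroup (ZMod p) M
local notation "End'" => Module.End (ZMod p) M

variable {Y B : Subgroup (LinearMap.GeneralLinearGroup (ZMod p) M)}

/-- One component and a fixed pair. -/
structure Single (Y B : Subgroup (LinearMap.GeneralLinearGroup (ZMod p) M)) (T F : Module.End (ZMod p) M) :
    Prop where
  ctx : Ctx Y B
  hT : IsMin Y T
  hF : IsMin Y F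
  d : Pr T F
  fT : FixR Y B T hT.sq
  fF : FixR Y B F hF.sq
  one : ∀ C, IsMin Y C → Linked Y T C

variable {T F : Module.End (ZMod p) M} (hs : Single Y B T F)
include hs

theorem Single.hp : 5 ≤ p := hs.ctx.hp

theorem Single.noUnip : NoUnip Y := hs.ctx.noUnip

theorem Single.grpF : grp Y F = grp Y T := (grp_eq_of_linked (hs.one F hs.hF)).symm

theorem Single.mem_levi {x : GL} : x ∈ levi Y B T F ↔ x ∈ Y ∧ Grd T F (x : End') := by
  rw [hs.ctx.mem_levi hs.hT hs.hF]
  constructor
  · rintro ⟨hx, h⟩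
    have h1 := h 1 B.one_mem
    simp only [conjE_one] at h1
    exact ⟨hx, grd_of_stab hs.hT hs.hF hs.d h1.1 h1.2⟩
  · rintro ⟨hx, h⟩
    refine ⟨hx, fun b hb => ?_⟩
    have key : ∀ {C : End'} (hC : IsMin Y C), FixR Y B C hC.sq → conjE x C ∈ rootSpace Y C hC.sq →
        conjE x (conjE b C) ∈ rootSpace Y (conjE b C) (isMin_conj_norm (hs.ctx.hBY hb) hC).sq := by
      intro C hC hf h'
      have hn : conjE b C ≠ 0 := fun e => hC.2.1 ((conjE_eq_zero_iff b C).mp e)
      have hm := hf b hb ((hs.one C hC).symm.trans (hs.one _ (isMin_conj_norm (hs.ctx.hBY hb) hC)))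
      rw [rootSpace_eq hC hm hn]
      exact conj_member (le_normalizer hx) hC hC h' hm
    exact ⟨key hs.hT hs.fT (stab_of_grd (le_normalizer hx) hs.hT hs.d h),
      key hs.hF hs.fF (stab_of_grd (le_normalizer hx) hs.hF hs.d.symm h.symm)⟩

theorem Single.core_le : opIn p (levi Y B T F) ≤ Y := (opIn_le _ _).trans inf_le_left

theorem Single.good_core {R : End'} (hR : Good Y B R) : oneAdd R hR.sq ∈ opIn p (levi Y B T F) :=
  hs.ctx.good_mem_opIn hR hs.hT hs.hF hs.d hs.fT hs.fF

/-- The commuting with the pair. -/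
theorem Single.commute_pair {R : End'} (hR : Good Y B R) : R * T = T * R ∧ R * F = F * R := by
  have key : ∀ {C : End'} (hC : IsMin Y C), conjE (oneAdd R hR.sq) C ∈ rootSpace Y C hC.sq →
      conjE (oneAdd R hR.sq)⁻¹ C ∈ rootSpace Y C hC.sq → R * C = C * R := by
    intro C hC h1 h2
    have e2 : (oneAdd R hR.sq)⁻¹ = oneAdd (-R) (by rw [neg_mul_neg]; exact hR.sq) :=
      Units.ext (by rw [oneAdd_inv_val, oneAdd_val, sub_eq_add_neg])
    rw [conjE_oneAdd] at h1
    rw [e2, conjE_oneAdd] at h2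
    have hK : R * C * R ∈ rootSpace Y C hC.sq := by
      have h := Submodule.sub_mem _ (Submodule.smul_mem _ (2 : ZMod p) (self_mem_rootSpace hC.rt))
        (Submodule.add_mem _ h1 h2)
      have e : (2 : ZMod p) • C - ((1 + R) * C * (1 - R) + (1 + -R) * C * (1 - -R)) = (2 : ZMod p) • (R * C * R) := by
        rw [two_smul, two_smul]; noncomm_ring
      rw [e] at h
      have h' := Submodule.smul_mem _ (2 : ZMod p)⁻¹ h
      rwa [inv_smul_smul₀ (two_ne hs.hp)] at h'
    have hE : R * C - C * R ∈ rootSpace Y C hC.sq := by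
      have h := Submodule.add_mem _ (Submodule.sub_mem _ h1 (self_mem_rootSpace hC.rt)) hK
      rwa [show (1 + R) * C * (1 - R) - C + R * C * R = R * C - C * R by noncomm_ring] at h
    exact commute_of_squeeze hR.sq (fun hn => (hC.range_eq hK hn).ge)
      fun hn => ⟨(hC.range_eq hE hn).ge, (hC.ker_eq hE hn).le⟩
  have hg := opIn_le _ _ (hs.good_core hR)
  have h1 := ((hs.ctx.mem_levi hs.hT hs.hF).mp hg).2 1 B.one_mem
  have h2 := ((hs.ctx.mem_levi hs.hT hs.hF).mp ((levi Y B T F).inv_mem hg)).2 1 B.one_mem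
  simp only [conjE_one] at h1 h2
  exact ⟨key hs.hT h1.1 h2.1, key hs.hF h1.2 h2.2⟩

/-- A root element scaled by the torus has a partner scaled inversely. -/
theorem Single.exists_eig_partner {C : End'} (hC : IsMin Y C) (c : (ZMod p)ˣ → ZMod p) (hc : ∀ a, c a ≠ 0)
    (he : ∀ a, conjE (hs.d.tor a) C = c a • C) :
    ∃ S, IsMin Y S ∧ Pr C S ∧ ∀ a, conjE (hs.d.tor a) S = (c a)⁻¹ • S := by
  have h2 := two_ne (p := p) hs.hp
  have h3 := card_ne_three (p := p) hs.hp
  set A := hs.d.tor.range with hA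
  set K := wgrp (grp Y C) C with hK
  have hAg : A ≤ grp Y T := by
    rintro _ ⟨a, rfl⟩; exact tor_mem_grp hs.hp hs.noUnip hs.hT hs.hF hs.d a
  have hAY : A ≤ normalizer (Y : Set GL) := (hAg.trans (grp_le_Y T)).trans le_normalizer
  have hAC : ∀ a ∈ A, conjE a C ∈ rootSpace Y C hC.sq := by
    rintro _ ⟨a, rfl⟩
    rw [he]; exact Submodule.smul_mem _ _ (self_mem_rootSpace hC.rt)
  have hAK : A ≤ normalizer (K : Set GL) := le_normalizer_iff.mpr fun a ha w hw => by
    refine wgrp_conj_mem hs.hp hC ?_ (hAC a ha) hC.2.1 hw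
    exact (hs.ctx.mem_normalizer_grp_iff hC (hAY ha)).mpr
      (linked_conj_of_mem h2 h3 hs.noUnip (H42.Eqv.grp_le_minGroup T (hAg ha)) hC)
  have hcop : (Nat.card A).Coprime (Nat.card K) := by
    obtain ⟨n, hn⟩ := IsPGroup.iff_card.mp (wgrp_isPGroup hs.hp (grp Y C) C)
    rw [hK, hn]
    refine Nat.Coprime.pow_right n ?_
    have hd : Nat.card A ∣ p - 1 := by
      have := Subgroup.card_range_dvd hs.d.tor
      rwa [Nat.card_eq_fintype_card (α := (ZMod p)ˣ), ZMod.card_units] at this
    refine Nat.Coprime.coprime_dvd_left hd ?_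
    rw [Nat.coprime_comm]
    refine (Fact.out : p.Prime).coprime_iff_not_dvd.mpr fun h => ?_
    have hp3 := hs.hp
    have hp0 := (Fact.out : p.Prime).two_le
    have := Nat.le_of_dvd (by omega) h
    omega
  have hsolv : Group.IsSolvable A := by
    exact Group.isSolvable_of_surjective (MonoidHom.rangeRestrict_surjective _)
  set S : Set (Subgroup GL) := {E | ∃ (G : End') (hG : IsMin Y G), Pr C G ∧ E = rootGroup Y G hG.sq} with hS
  letI := Coprime.conjAction GL
  obtain ⟨E, ⟨G, hG, dG, rfl⟩, hfix⟩ : ∃ E ∈ S, ∀ a ∈ A, a • E = E := by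
    refine Coprime.exists_fixed_point (K := K) (A := A) hAK hcop (Or.inl hsolv) ?_ ?_ ?_ ?_
    · obtain ⟨Z, hZ, hn⟩ := exists_opposite h2 hs.noUnip hC
      obtain ⟨G, -, hG, dG⟩ := exists_pr hs.hp (⟨hC, hZ, hn⟩ : Opp Y C Z)
      exact ⟨_, G, hG, dG, rfl⟩
    · rintro _ ⟨a, rfl⟩ _ ⟨G, hG, dG, rfl⟩
      have hY := hAY ⟨a, rfl⟩
      have hG' := isMin_conj_norm hY hG
      have d' := (dG.conj (hs.d.tor a))
      rw [he] at d'
      have d'' := d'.smul (inv_ne_zero (hc a))
      rw [inv_smul_smul₀ (hc a), inv_inv] at d''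
      refine ⟨_, hG'.smul (hc a), d'', ?_⟩
      show (rootGroup Y G hG.sq).map (MulAut.conj (hs.d.tor a)).toMonoidHom = _
      rw [map_rootGroup_norm hY hG]
      have hm := Submodule.smul_mem _ (c a) (self_mem_rootSpace hG'.rt)
      have hn := (hG'.smul (hc a)).2.1
      exact rootGroup_congr (hG'.ker_eq hm hn).symm (hG'.range_eq hm hn).symm
    · rintro _ ⟨G, hG, dG, rfl⟩ _ ⟨G', hG', dG', rfl⟩
      obtain ⟨w, hw, e⟩ := exists_trans hs.hp hs.noUnip hC hG hG' dG dG'
      refine ⟨w, hw, ?_⟩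
      show (rootGroup Y G hG.sq).map (MulAut.conj w).toMonoidHom = _
      rw [map_rootGroup_norm (le_normalizer (grp_le_Y C hw.1)) hG]
      exact rootGroup_congr (by rw [e]) (by rw [e])
    · rintro w hw _ ⟨G, hG, dG, rfl⟩
      have d' := dG.conj w
      rw [wgrp_fix hw] at d'
      exact ⟨_, isMin_conj_norm (le_normalizer (grp_le_Y C hw.1)) hG, d',
        map_rootGroup_norm (le_normalizer (grp_le_Y C hw.1)) hG⟩
  refine ⟨G, hG, dG, fun a => ?_⟩
  have hY := hAY ⟨a, rfl⟩
  have hm : conjE (hs.d.tor a) G ∈ rootSpace Y G hG.sq :=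
    (mem_normalizer_rootGroup hY hG).mp (Coprime.mem_normalizer_of_map_conj (hfix _ ⟨a, rfl⟩))
  have d' := dG.conj (hs.d.tor a)
  rw [he] at d'
  have d'' := d'.smul (inv_ne_zero (hc a))
  rw [inv_smul_smul₀ (hc a), inv_inv] at d''
  have := pr_unique hs.hp (opp_of_pr hC hG dG) (self_mem_rootSpace hG.rt)
    (Submodule.smul_mem _ (c a) hm) dG d''
  conv_rhs => rw [this, inv_smul_smul₀ (hc a)]

/-- A root element of weight zero has a partner of weight zero. -/
theorem Single.partner_grd {C : End'} (hC : IsMin Y C) (h : Grd T F C) :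
    ∃ S, IsMin Y S ∧ Pr C S ∧ Grd T F S := by
  obtain ⟨S, hS, dS, he⟩ := hs.exists_eig_partner hC (fun _ => 1) (fun _ => one_ne_zero)
    fun a => by rw [h.tor hs.d a, one_smul]
  refine ⟨S, hS, dS, ?_⟩
  have h2 := two_ne (p := p) hs.hp
  refine hs.d.grd_of_fixed (Units.mk0 2 h2) ?_ ?_ ?_
  · have := he (Units.mk0 2 h2); rwa [inv_one, one_smul] at this
  · intro e; rw [Units.val_mk0] at e; exact one_ne_zero (α := ZMod p) (by linear_combination e)
  · intro e; rw [Units.val_mk0] at e; exact three_ne (p := p) hs.hp (by linear_combination e)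

/-- No root element lies in the core of the weight zero part. -/
theorem Single.no_root {D : End'} (hD : IsMin Y D) : oneAdd D hD.sq ∉ opIn p (levi Y B T F) := by
  intro hmem
  have hg := (hs.mem_levi.mp (opIn_le _ _ hmem)).2
  have hgD : Grd T F D := by
    have h1 := hg.1.sub_left (Commute.one_left (T * F))
    have h2 := hg.2.sub_left (Commute.one_left (F * T))
    rw [oneAdd_val, add_sub_cancel_left] at h1 h2
    exact ⟨h1, h2⟩
  obtain ⟨S, hS, dS, hgS⟩ := hs.partner_grd hD hgD
  set s := oneAdd S hS.sq with hsd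
  have hsX : s ∈ levi Y B T F := hs.mem_levi.mpr ⟨hS.rt.oneAdd_mem, grd_oneAdd hS.sq hgS⟩
  have hsp : IsPGroup p (zpowers s) := by
    refine IsPGroup.to_le ?_ (zpowers_le.mpr (oneAdd_mem_rootGroup (self_mem_rootSpace hS.rt)))
    exact (wgrp_isPGroup hs.hp (grp Y S) S).to_le fun w hw => by
      have := oneAdd_mem_wgrp hs.hp hs.noUnip hS (mem_rootGroup.mp hw)
      rwa [show oneAdd _ (mem_rootGroup.mp hw).1.1 = w from Units.ext (by simp)] at this
  have hU := hsp.to_sup_of_normal_right' (isPGroup_opIn (p := p) (levi Y B T F))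
    (zpowers_le.mpr (le_normalizer_opIn p _ hsX))
  exact no_opp_pgroup hs.hp hU (opp_of_pr hD hS dS) (mem_sup_right hmem) (mem_sup_left (mem_zpowers s))

theorem Single.eq_zero_of_rt {D C : End'} (hC : IsMin Y C) (hD : Rt (opIn p (levi Y B T F)) D)
    (hr : rk D ≤ rk C) : D = 0 := by
  by_contra h
  have hY : Rt Y D := ⟨hD.1, fun a => by obtain ⟨g, hg, e⟩ := hD.2 a; exact ⟨g, hs.core_le hg, e⟩⟩
  exact hs.no_root (hC.of_rk_le hY h hr) hD.oneAdd_mem

/-- A root element of weight zero is killed on both sides. -/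
theorem Single.sandwich {R : End'} (hR : Good Y B R) {C : End'} (hC : IsMin Y C) (hgC : Grd T F C) :
    R * C * R = 0 := by
  have h2 := two_ne (p := p) hs.hp
  set Q := opIn p (levi Y B T F) with hQ
  set g := oneAdd R hR.sq with hg
  have hgQ : g ∈ Q := hs.good_core hR
  set u := oneAdd C hC.sq with hu
  have huX : u ∈ levi Y B T F := hs.mem_levi.mpr ⟨hC.rt.oneAdd_mem, grd_oneAdd hC.sq hgC⟩
  have huQ := le_normalizer_opIn p _ huX
  have hup : IsPGroup p (zpowers u) := by
    refine IsPGroup.to_le ?_ (zpowers_le.mpr (oneAdd_mem_wgrp hs.hp hs.noUnip hC (self_mem_rootSpace hC.rt)))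
    exact wgrp_isPGroup hs.hp _ _
  have hU := hup.to_sup_of_normal_right' (isPGroup_opIn (p := p) (levi Y B T F)) (zpowers_le.mpr huQ)
  have key : ∀ v ∈ Q, ∀ (hC' : IsMin Y (conjE v C)), C * conjE v C = conjE v C * C := by
    intro v hv hC'
    have hvU : oneAdd (conjE v C) hC'.sq = v * u * v⁻¹ :=
      Units.ext (by rw [oneAdd_val, Units.val_mul, Units.val_mul, hu, oneAdd_val, conjE_one_add])
    have hm : oneAdd (conjE v C) hC'.sq ∈ zpowers u ⊔ Q := by
      rw [hvU]
      exact Subgroup.mul_mem _ (Subgroup.mul_mem _ (mem_sup_right hv) (mem_sup_left (mem_zpowers u)))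
        (mem_sup_right (Q.inv_mem hv))
    have t1 := TZT_of_pgroup hs.hp hU hC hC' (mem_sup_left (mem_zpowers u)) hm
    have t2 := TZT_of_pgroup hs.hp hU hC' hC hm (mem_sup_left (mem_zpowers u))
    by_contra hne
    obtain ⟨hN, -⟩ := nilpotentPair_data h2 hC hC' (nilpotent_of_TZT hC.sq hC'.sq t1) hne
    refine hs.no_root hN ?_
    have e : oneAdd (C * conjE v C - conjE v C * C) hN.sq = u * (v * u * v⁻¹) * u⁻¹ * (v * u * v⁻¹)⁻¹ := by
      refine Units.ext ?_
      rw [← hvU, commutator_val (oneAdd_val C hC.sq) (oneAdd_val _ hC'.sq) hC.sq hC'.sq t1 t2, oneAdd_val]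
    rw [e]
    set q := v * u * v⁻¹ * u⁻¹ with hq
    have hqQ : q ∈ Q := by
      rw [hq, mul_assoc v, mul_assoc v]
      exact Q.mul_mem hv (Coprime.conj_mem huQ (Q.inv_mem hv))
    rw [show v * u * v⁻¹ = q * u by rw [hq, inv_mul_cancel_right],
      show u * (q * u) * u⁻¹ * (q * u)⁻¹ = u * q * u⁻¹ * q⁻¹ by group]
    exact Q.mul_mem (Coprime.conj_mem huQ hqQ) (Q.inv_mem hqQ)
  have hgi : g⁻¹ = oneAdd (-R) (by rw [neg_mul_neg]; exact hR.sq) :=
    Units.ext (by rw [hg, oneAdd_inv_val, oneAdd_val, sub_eq_add_neg])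
  set E := R * C - C * R with hE
  set K := R * C * R with hK
  have c1 : conjE g C = C + E - K := by rw [hg, conjE_oneAdd, hE, hK]; noncomm_ring
  have c2 : conjE g⁻¹ C = C - E - K := by rw [hgi, conjE_oneAdd, hE, hK]; noncomm_ring
  have k1 := key g hgQ (hC.conj (hs.core_le hgQ))
  have k2 := key g⁻¹ (Q.inv_mem hgQ) (hC.conj (hs.core_le (Q.inv_mem hgQ)))
  rw [c1] at k1
  rw [c2] at k2
  have hCE : C * E = E * C := by
    have h : (2 : ZMod p) • (C * E - E * C) = 0 := by
      rw [two_smul]; linear_combination (norm := noncomm_ring) k1 - k2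
    exact sub_eq_zero.mp ((smul_eq_zero.mp h).resolve_left h2)
  have hCRC : C * R * C = 0 := by
    have h : (2 : ZMod p) • (C * R * C) = 0 := by
      rw [two_smul]
      have : C * E - E * C = C * R * C + C * R * C - C * C * R - R * (C * C) := by rw [hE]; noncomm_ring
      rw [hCE, sub_self, hC.sq, zero_mul, mul_zero, sub_zero, sub_zero] at this
      exact this.symm
    exact (smul_eq_zero.mp h).resolve_left h2
  have z1 : ∀ X, C * (R * (C * X)) = 0 := fun X => by rw [← mul_assoc, ← mul_assoc, hCRC, zero_mul]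
  have z2 : ∀ X, R * (R * X) = 0 := fun X => by rw [← mul_assoc, hR.sq, zero_mul]
  have z3 : ∀ X, C * (C * X) = 0 := fun X => by rw [← mul_assoc, hC.sq, zero_mul]
  have z1' : C * (R * C) = 0 := by rw [← mul_assoc, hCRC]
  have m1 : (E - K) * C = 0 ∧ (-E - K) * C = 0 ∧ (E - K) * (-E - K) = 0 := by
    refine ⟨?_, ?_, ?_⟩ <;>
      simp only [hE, hK, sub_mul, mul_sub, neg_mul, mul_neg, mul_assoc, z1, z2, z3, z1', hR.sq, hC.sq, mul_zero,
        sub_zero, neg_zero]
  have p1 : ∀ v ∈ Q, v * u * v⁻¹ * u⁻¹ ∈ Q := fun v hv => by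
    rw [mul_assoc v, mul_assoc v]
    exact Q.mul_mem hv (Coprime.conj_mem huQ (Q.inv_mem hv))
  have q1 : ((g * u * g⁻¹ * u⁻¹ : GL) : End') = 1 + (E - K) := by
    rw [Units.val_mul, Units.val_mul, Units.val_mul, show (u : End') = 1 + C by rw [hu, oneAdd_val], conjE_one_add, c1,
      hu, oneAdd_inv_val]
    linear_combination (norm := noncomm_ring) -m1.1 - hC.sq
  have q2 : ((g⁻¹ * u * g⁻¹⁻¹ * u⁻¹ : GL) : End') = 1 + (-E - K) := by
    rw [Units.val_mul, Units.val_mul, Units.val_mul, show (u : End') = 1 + C by rw [hu, oneAdd_val], conjE_one_add, c2,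
      hu, oneAdd_inv_val]
    linear_combination (norm := noncomm_ring) -m1.2.1 - hC.sq
  have hK2 : K * K = 0 := by simp only [hK, mul_assoc, z2, hR.sq, mul_zero]
  have hRt : Rt Q K := by
    refine rt_of_smul (neg_ne_zero.mpr h2) hK2 (Q.mul_mem (p1 g hgQ) (p1 g⁻¹ (Q.inv_mem hgQ))) ?_
    rw [Units.val_mul, q1, q2, neg_smul, two_smul]
    linear_combination (norm := noncomm_ring) m1.2.2
  exact hs.eq_zero_of_rt hC hRt ((rk_mul_left _ _).trans (rk_mul_right _ _))

/-- A pair whose idempotents have weight zero kills `R`. -/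
theorem Single.pair_kill {R : End'} (hR : Good Y B R) {C S : End'} (hC : IsMin Y C) (hS : IsMin Y S)
    (dC : Pr C S) (hg1 : Grd T F (C * S)) (hg2 : Grd T F (S * C)) (h1 : R * C = 0) (h2' : C * R = 0)
    (h3' : R * S * R = 0) : R * S = 0 ∧ S * R = 0 := by
  have h2 := two_ne (p := p) hs.hp
  set Q := opIn p (levi Y B T F) with hQ
  have hgQ : oneAdd R hR.sq ∈ Q := hs.good_core hR
  have z1 : R * (C * S) = 0 := by rw [← mul_assoc, h1, zero_mul]
  have z2 : S * C * R = 0 := by rw [mul_assoc, h2', mul_zero]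
  have z4 : S * C * (C * S) = 0 := dC.em_ep
  set G := mid C S * R * mid C S with hG
  set D := C * S * R * mid C S + mid C S * R * (S * C) with hD
  set R2 := C * S * R * (S * C) with hR2
  have a1 : ∀ X, R * (C * (S * X)) = 0 := fun X => by rw [← mul_assoc C S X, ← mul_assoc, z1, zero_mul]
  have a2 : ∀ X, S * (C * (R * X)) = 0 := fun X => by rw [← mul_assoc C R X, h2', zero_mul, mul_zero]
  have a2' : S * (C * R) = 0 := by rw [h2', mul_zero]
  have a3 : ∀ X, R * (R * X) = 0 := fun X => by rw [← mul_assoc, hR.sq, zero_mul]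
  have hsum : R = G + D + R2 := by
    rw [hG, hD, hR2, mid]
    simp only [sub_mul, mul_sub, one_mul, mul_one, mul_assoc, z1, a1, a2, a2', mul_zero, sub_zero]
    abel
  have hprod : G * G = 0 ∧ G * D = 0 ∧ G * R2 = 0 ∧ D * G = 0 ∧ D * D = 0 ∧ D * R2 = 0 ∧ R2 * G = 0 ∧
      R2 * D = 0 ∧ R2 * R2 = 0 := by
    refine ⟨?_, ?_, ?_, ?_, ?_, ?_, ?_, ?_, ?_⟩ <;>
      simp only [hG, hD, hR2, mid, sub_mul, mul_sub, add_mul, mul_add, one_mul, mul_one, mul_assoc, z1, a1, a2, a2',
        a3, hR.sq, dC.rules, mul_zero, sub_zero, add_zero, zero_add]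
  obtain ⟨p00, p01, p02, p10, p11, p12, p20, p21, p22⟩ := hprod
  set d := dC with hd
  have htor : ∀ a : (ZMod p)ˣ, conjE (dC.tor a) R = G + (a : ZMod p) • D + ((a : ZMod p) * a) • R2 := by
    intro a
    have eG : conjE (dC.tor a) G = G := by
      obtain ⟨⟨-, -, l0⟩, ⟨-, -, r0⟩⟩ := dC.tor_eig a
      rw [conjE_eq_iff, hG, ← mul_assoc, ← mul_assoc, r0, mul_assoc (mid C S * R), l0]
    conv_lhs => rw [hsum, conjE_add, conjE_add, eG, (dC.w1_part R).tor dC, dC.tor_top]
  have hmem : ∀ a : (ZMod p)ˣ, dC.tor a * oneAdd R hR.sq * (dC.tor a)⁻¹ ∈ Q := by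
    intro a
    have htX : dC.tor a ∈ levi Y B T F := by
      refine hs.mem_levi.mpr ⟨grp_le_Y C (tor_mem_grp hs.hp hs.noUnip hC hS dC a), ?_⟩
      have hm : ∀ {Z : End'}, Commute (C * S) Z → Commute (S * C) Z →
          Commute ((dC.tor a : GL) : End') Z := fun hx hy => by
        rw [dC.tor_val, mid]
        exact ((hx.smul_left _).add_left (hy.smul_left _)).add_left
          (((Commute.one_left _).sub_left hx).sub_left hy)
      exact ⟨hm hg1.1 hg2.1, hm hg1.2 hg2.2⟩
    exact Coprime.conj_mem (le_normalizer_opIn p _ htX) hgQ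
  have hval : ∀ a : (ZMod p)ˣ, ((dC.tor a * oneAdd R hR.sq * (dC.tor a)⁻¹ : GL) : End') =
      1 + (G + (a : ZMod p) • D + ((a : ZMod p) * a) • R2) := fun a => by
    rw [Units.val_mul, Units.val_mul, oneAdd_val, conjE_one_add, htor]
  have hvinv : ∀ a : (ZMod p)ˣ, (((dC.tor a * oneAdd R hR.sq * (dC.tor a)⁻¹)⁻¹ : GL) : End') =
      1 - (G + (a : ZMod p) • D + ((a : ZMod p) * a) • R2) := fun a => by
    refine Units.inv_eq_of_mul_eq_one_right ?_
    rw [hval]
    simp only [mul_sub, mul_one, add_mul, one_mul, mul_add, smul_mul_assoc, mul_smul_comm, p00, p01, p02, p10,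
      p11, p12, p20, p21, p22, smul_zero, add_zero]
    abel
  have hprod2 : ∀ a b : (ZMod p)ˣ, (((dC.tor a * oneAdd R hR.sq * (dC.tor a)⁻¹) *
      (dC.tor b * oneAdd R hR.sq * (dC.tor b)⁻¹)⁻¹ : GL) : End') =
      1 + ((a : ZMod p) - b) • D + ((a : ZMod p) * a - b * b) • R2 := fun a b => by
    rw [Units.val_mul, hval, hvinv]
    simp only [mul_sub, mul_one, add_mul, one_mul, mul_add, smul_mul_assoc, mul_smul_comm, p00, p01, p02, p10,
      p11, p12, p20, p21, p22, smul_zero, add_zero]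
    module
  have hRtD : Rt Q D := by
    refine rt_of_smul h2 p11 (Q.mul_mem (hmem 1) (Q.inv_mem (hmem (-1)))) ?_
    rw [hprod2]
    simp only [Units.val_one, Units.val_neg, mul_neg, mul_one, neg_mul, neg_neg, sub_neg_eq_add, sub_self, zero_smul,
      add_zero]
    norm_num
  have hRt2 : Rt Q R2 := by
    set a := Units.mk0 (2 : ZMod p) h2 with ha
    refine rt_of_smul (three_ne hs.hp) p22
      (Q.mul_mem (Q.mul_mem (hmem a) (Q.inv_mem (hmem 1))) (Q.inv_mem hRtD.oneAdd_mem)) ?_
    rw [Units.val_mul, hprod2, oneAdd_inv_val]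
    simp only [mul_sub, mul_one, add_mul, one_mul, smul_mul_assoc, p11, p21, smul_zero, add_zero, ha, Units.val_mk0,
      Units.val_one]
    module
  have hR2z : R2 = 0 := hs.eq_zero_of_rt hC hRt2 (by
    rw [hR2, mul_assoc (C * S), mul_assoc C]
    exact rk_mul_left _ _)
  have hDz : D = 0 := hs.eq_zero_of_rt hC hRtD (by
    rw [hD]
    refine dC.rk_le ?_ ?_ ?_
    · simp only [mul_assoc, dC.rules]
    · simp only [mul_assoc, dC.rules]
    · have e : mid C S * R * (S * C) * S * (C * S * R * mid C S) = mid C S * (R * S * R) * mid C S := by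
        simp only [mul_assoc, dC.rules]
      rw [e, h3', mul_zero, zero_mul])
  have hRG : R = G := by rw [hsum, hDz, hR2z, add_zero, add_zero]
  constructor
  · calc R * S = R * (S * C) * S := by rw [mul_assoc, dC.FTF]
      _ = G * (S * C) * S := by rw [← hRG]
      _ = 0 := by rw [hG, mul_assoc (mid C S * R), dC.mid_em, mul_zero, zero_mul]
  · calc S * R = S * (C * S * R) := by rw [← mul_assoc, ← mul_assoc, dC.FTF]
      _ = S * (C * S * G) := by rw [← hRG]
      _ = 0 := by rw [hG, ← mul_assoc (C * S), ← mul_assoc (C * S), dC.ep_mid, zero_mul, zero_mul, mul_zero]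

/-- The core of the weight zero part fixes the image of the root. -/
theorem Single.kills_image {R : End'} (hR : Good Y B R) : R * T = 0 := by
  have h2 := two_ne (p := p) hs.hp
  set L := grp Y T with hL
  set X := levi Y B T F with hX
  set Q := opIn p X with hQ
  let Fx : Submodule (ZMod p) M := ⨅ q ∈ Q, LinearMap.ker ((q : End') - 1)
  have hFx : ∀ {w : M}, w ∈ Fx ↔ ∀ q ∈ Q, (q : End') w = w := fun {w} => by
    simp [Fx, Submodule.mem_iInf, sub_eq_zero]
  have hWiep : ∀ {Wi : Submodule (ZMod p) M}, Invar Y Wi → ∀ {C : End'}, IsMin Y C → ∀ w ∈ Wi, C w ∈ Wi := by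
    intro Wi hWi C hC w hw
    have := Wi.sub_mem (hWi _ hC.rt.oneAdd_mem w hw) hw
    rwa [oneAdd_val, LinearMap.add_apply, Module.End.one_apply, add_sub_cancel_left] at this
  have main : ∀ Wi, IrrSub Y Wi → ∀ m ∈ Wi, R ((T * F) m) = 0 := by
    intro Wi hWi m hm
    set U0 := Wi ⊓ LinearMap.range T ⊓ Fx with hU0
    set G : Set M := {x | ∃ f ∈ wgrp L F, ∃ u ∈ U0, x = (f : End') u} with hG
    set N := Submodule.span (ZMod p) G with hN
    by_cases hm0 : (T * F) m = 0
    · rw [hm0, map_zero]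
    have hmU : (T * F) m ∈ Wi ⊓ LinearMap.range T :=
      ⟨hWiep hWi.1 hs.hT _ (hWiep hWi.1 hs.hF m hm), LinearMap.mem_range_self T (F m)⟩
    have hUne : Wi ⊓ LinearMap.range T ≠ ⊥ := fun e => hm0 (by rwa [e, Submodule.mem_bot] at hmU)
    have hUinv : ∀ x ∈ X, ∀ w ∈ Wi ⊓ LinearMap.range T, (x : End') w ∈ Wi ⊓ LinearMap.range T := by
      intro x hx w hw
      obtain ⟨hxY, hgr⟩ := hs.mem_levi.mp hx
      refine ⟨hWi.1 x hxY w hw.1, ?_⟩
      obtain ⟨z, rfl⟩ := hw.2
      rw [show (x : End') (T z) = ((x : End') * (T * F * T)) z by rw [hs.d.TFT]; rfl, ← mul_assoc (x : End'),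
        hgr.1.eq]
      exact LinearMap.mem_range_self T _
    obtain ⟨u0, hu0, hu00, hfix0⟩ := exists_fixed (isPGroup_opIn (p := p) X)
      (fun q hq w hw => hUinv q (opIn_le _ _ hq) w hw) hUne
    have hU0inv : ∀ x ∈ X, ∀ u ∈ U0, (x : End') u ∈ U0 := by
      intro x hx u hu
      refine ⟨hUinv x hx u hu.1, hFx.mpr fun q hq => ?_⟩
      have e : q * x = x * (x⁻¹ * q * x) := by group
      rw [← Module.End.mul_apply, ← Units.val_mul, e, Units.val_mul, Module.End.mul_apply,
        hFx.mp hu.2 _ (Coprime.conj_mem' (le_normalizer_opIn p X hx) hq)]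
    have hNWi : N ≤ Wi := by
      rw [hN, Submodule.span_le]
      rintro _ ⟨f, hf, u, hu, rfl⟩
      exact hWi.1 f (by have := grp_le_Y (Y := Y) T hf.1; exact this) u hu.1.1
    have hGN : ∀ {g : GL}, (∀ f ∈ wgrp L F, ∀ u ∈ U0, (g : End') ((f : End') u) ∈ N) → g ∈ setStab N := by
      intro g h
      refine mem_setStab fun x hx => ?_
      rw [hN] at hx ⊢
      induction hx using Submodule.span_induction with
      | mem x hx => obtain ⟨f, hf, u, hu, rfl⟩ := hx; exact h f hf u hu
      | zero => simp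
      | add a b _ _ ha hb => rw [map_add]; exact Submodule.add_mem _ ha hb
      | smul c a _ ha => rw [map_smul]; exact Submodule.smul_mem _ c ha
    have hWF : wgrp L F ≤ setStab N := fun v hv => hGN fun f hf u hu =>
      Submodule.subset_span ⟨v * f, (wgrp L F).mul_mem hv hf, u, hu, rfl⟩
    have hX' : X ≤ setStab N := by
      intro x hx
      refine hGN fun f hf u hu => Submodule.subset_span ⟨x * f * x⁻¹, ?_, (x : End') u, hU0inv x hx u hu, ?_⟩
      · obtain ⟨hxY, hgr⟩ := hs.mem_levi.mp hx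
        refine wgrp_conj_mem hs.hp hs.hF ?_ (stab_of_grd (le_normalizer hxY) hs.hF hs.d.symm hgr.symm) hs.hF.2.1 hf
        exact (hs.ctx.mem_normalizer_grp_iff hs.hT (le_normalizer hxY)).mpr (hs.one _ (hs.hT.conj hxY))
      · rw [← Module.End.mul_apply, ← Module.End.mul_apply, ← Units.val_mul, ← Units.val_mul, inv_mul_cancel_right]
    have huT : oneAdd T hs.hT.sq ∈ setStab N := by
      refine hGN fun f hf u hu => ?_
      have hfu : (f : End') u ∈ N := Submodule.subset_span ⟨f, hf, u, hu, rfl⟩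
      suffices hT' : T ((f : End') u) ∈ N by
        rw [oneAdd_val, LinearMap.add_apply, Module.End.one_apply]
        exact N.add_mem hfu hT'
      set Z := (f : End') - 1 with hZ
      set Z' := ((f⁻¹ : GL) : End') - 1 with hZ'
      have hfi := (wgrp L F).inv_mem hf
      obtain ⟨b1, b2, -⟩ := hf.2.blocks hs.d.symm
      obtain ⟨b1', b2', -⟩ := hfi.2.blocks hs.d.symm
      rw [← hZ] at b1 b2
      rw [← hZ'] at b1' b2'
      set A1 := T * Z * T - T * Z' * T with hA1
      set A2 := T * Z * T * Z' * T with hA2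
      have hblock : ∀ t : ZMod p, T * F * conjE (oneAdd (t • T) (smul_sq T hs.hT.sq t) * f) T * (F * T) =
          T + t • A1 - (t * t) • A2 := by
        intro t
        have ef : (f : End') = 1 + Z := by rw [hZ]; abel
        have ef' : ((f⁻¹ : GL) : End') = 1 + Z' := by rw [hZ']; abel
        rw [conjE, Units.val_mul, _root_.mul_inv_rev, Units.val_mul, oneAdd_val, oneAdd_inv_val, ef, ef']
        have f1 : ∀ W, T * (F * (Z * W)) = 0 := fun W => by
          rw [← mul_assoc F Z W, ← mul_assoc, ← mul_assoc, b2, zero_mul]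
        have f2 : Z' * (F * T) = 0 := b1'
        simp only [mul_add, add_mul, mul_sub, sub_mul, mul_one, one_mul, smul_mul_assoc, mul_smul_comm, smul_smul,
          mul_assoc, hs.d.rules, f1, f2, mul_zero, smul_zero, add_zero, zero_add, sub_zero, hA1, hA2, smul_sub]
        module
      obtain ⟨t, ht0, hne⟩ : ∃ t : ZMod p, t ≠ 0 ∧ T + t • A1 - (t * t) • A2 ≠ 0 := by
        by_contra hno
        push Not at hno
        have e1 := hno 1 one_ne_zero
        have e2 := hno (-1) (neg_ne_zero.mpr one_ne_zero)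
        have e3 := hno 2 h2
        have h3 : (3 : ZMod p) • T = 0 := by
          linear_combination (norm := module) (3 : ZMod p) • e1 + e2 - e3
        exact hs.hT.2.1 ((smul_eq_zero.mp h3).resolve_left (three_ne hs.hp))
      set y := oneAdd (t • T) (smul_sq T hs.hT.sq t) * f with hy
      have hyY : y ∈ Y := Y.mul_mem ((hs.hT.rt.smul t).oneAdd_mem) (grp_le_Y T hf.1)
      have hym := hs.hT.conj hyY
      have hFZF : F * conjE y T * F ≠ 0 := by
        intro e
        refine hne ?_
        rw [← hblock t, show T * F * conjE y T * (F * T) = T * (F * conjE y T * F) * T by simp only [mul_assoc],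
          e, mul_zero, zero_mul]
      have hopp := opp_of_ne hs.hp hs.hF hym hFZF
      obtain ⟨F1, hF1, hF1m, d1⟩ := exists_pr hs.hp hopp
      obtain ⟨w, hw, ew⟩ := exists_trans hs.hp hs.noUnip hs.hF hs.hT hF1m hs.d.symm d1
      rw [hs.grpF] at hw
      have hwY := grp_le_Y T hw.1
      have hh : conjE (w⁻¹ * y) T ∈ rootSpace Y T hs.hT.sq := by
        rw [← conjE_conjE]
        refine conj_member (le_normalizer (Y.inv_mem hwY)) hF1m hs.hT ?_ ?_
        · rw [← ew, conjE_conjE, inv_mul_cancel, conjE_one]; exact self_mem_rootSpace hs.hT.rt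
        · rw [rootSpace_eq hym hF1 hF1m.2.1]; exact self_mem_rootSpace hym.rt
      obtain ⟨w', hw', hgr⟩ := exists_factor hs.hp hs.noUnip (le_normalizer (Y.mul_mem (Y.inv_mem hwY) hyY))
        hs.hT hs.hF hs.d hh
      have hxX : w'⁻¹ * (w⁻¹ * y) ∈ X :=
        hs.mem_levi.mpr ⟨Y.mul_mem (Y.inv_mem (grp_le_Y T hw'.1)) (Y.mul_mem (Y.inv_mem hwY) hyY), hgr⟩
      set u' := ((w'⁻¹ * (w⁻¹ * y) : GL) : End') u with hu'
      have hu'0 : u' ∈ U0 := hU0inv _ hxX u hu
      have hfix : (w' : End') u' = u' := by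
        have := hw'.2.apply_range hu'0.1.2
        rwa [LinearMap.sub_apply, Module.End.one_apply, sub_eq_zero] at this
      have hyu : (y : End') u ∈ N := by
        have e : (y : End') u = (w : End') u' := by
          conv_rhs => rw [← hfix, hu', ← Module.End.mul_apply, ← Module.End.mul_apply, ← Units.val_mul,
            ← Units.val_mul]
          rw [show w * w' * (w'⁻¹ * (w⁻¹ * y)) = y by group]
        rw [e]
        exact Submodule.subset_span ⟨w, hw, u', hu'0, rfl⟩
      rw [hy, Units.val_mul, Module.End.mul_apply, oneAdd_val, LinearMap.add_apply, Module.End.one_apply,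
        LinearMap.smul_apply] at hyu
      have h5 := N.smul_mem t⁻¹ (N.sub_mem hyu hfu)
      rwa [add_sub_cancel_left, inv_smul_smul₀ ht0] at h5
    have hwel : hs.d.wel ∈ setStab N := by
      refine hs.d.range_hom_le (fun x => ?_) (fun x => ?_) ⟨_, rfl⟩
      · have key : ∀ n : ℕ, ((oneAdd T hs.hT.sq ^ n : GL) : End') = 1 + (n : ZMod p) • T := by
          intro n
          induction n with
          | zero => simp
          | succ n ih =>
            rw [pow_succ, Units.val_mul, ih, oneAdd_val, add_mul, one_mul, mul_add, mul_one, smul_mul_assoc,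
              hs.hT.sq, smul_zero, add_zero, Nat.cast_succ, add_smul, one_smul]
            abel
        have e : oneAdd (x • T) (smul_sq T hs.d.sqT x) = oneAdd T hs.hT.sq ^ x.val :=
          Units.ext (by rw [oneAdd_val, key, ZMod.natCast_zmod_val])
        rw [e]
        exact (setStab N).pow_mem huT _
      · refine hWF ?_
        have := oneAdd_mem_wgrp hs.hp hs.noUnip hs.hF (Submodule.smul_mem _ x (self_mem_rootSpace hs.hF.rt))
        rwa [hs.grpF] at this
    have hWT : wgrp L T ≤ setStab N := by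
      intro v hv
      have hwl := wel_mem_grp hs.hp hs.noUnip hs.hT hs.hF hs.d
      have h1 : hs.d.wel⁻¹ * v * hs.d.wel⁻¹⁻¹ ∈ wgrp L F := by
        refine wgrp_conj_mem hs.hp hs.hF (le_normalizer (L.inv_mem hwl)) ?_ hs.hT.2.1 hv
        have e : conjE hs.d.wel⁻¹ (conjE hs.d.wel F) = F := by rw [conjE_conjE, inv_mul_cancel, conjE_one]
        rw [hs.d.wel_F, conjE_neg, neg_eq_iff_eq_neg] at e
        rw [e]
        exact Submodule.neg_mem _ (self_mem_rootSpace hs.hF.rt)
      have := (setStab N).mul_mem ((setStab N).mul_mem hwel (hWF h1)) ((setStab N).inv_mem hwel)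
      rwa [inv_inv, show hs.d.wel * (hs.d.wel⁻¹ * v * hs.d.wel) * hs.d.wel⁻¹ = v by group] at this
    have hYN : Y ≤ setStab N := by
      intro y hy
      obtain ⟨h, hh, hm'⟩ := exists_conj_mem hs.hp hs.noUnip hs.hT hs.hF hs.d _ (hs.one _ (hs.hT.conj hy))
        (hs.hT.conj hy)
      have hhN : h ∈ setStab N := (sup_le hWT hWF) hh
      have hhY : h ∈ Y := sup_le ((wgrp_le _ _).trans (grp_le_Y T)) ((wgrp_le _ _).trans (grp_le_Y T)) hh
      have hn : conjE h T ≠ 0 := fun e => hs.hT.2.1 ((conjE_eq_zero_iff h T).mp e)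
      have hs' : conjE (h⁻¹ * y) T ∈ rootSpace Y T hs.hT.sq := by
        rw [← conjE_conjE]
        refine conj_member (le_normalizer (Y.inv_mem hhY)) (hs.hT.conj hhY) hs.hT ?_ ?_
        · rw [conjE_conjE, inv_mul_cancel, conjE_one]; exact self_mem_rootSpace hs.hT.rt
        · rw [rootSpace_eq (hs.hT.conj hy) hm' hn]; exact self_mem_rootSpace (hs.hT.conj hy).rt
      obtain ⟨w, hw, hgr⟩ := exists_factor hs.hp hs.noUnip (le_normalizer (Y.mul_mem (Y.inv_mem hhY) hy))
        hs.hT hs.hF hs.d hs'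
      have hxX : w⁻¹ * (h⁻¹ * y) ∈ X :=
        hs.mem_levi.mpr ⟨Y.mul_mem (Y.inv_mem (grp_le_Y T hw.1)) (Y.mul_mem (Y.inv_mem hhY) hy), hgr⟩
      have := (setStab N).mul_mem ((setStab N).mul_mem hhN (hWT hw)) (hX' hxX)
      rwa [show h * w * (w⁻¹ * (h⁻¹ * y)) = y by group] at this
    have hu0N : u0 ∈ N := Submodule.subset_span
      ⟨1, (wgrp L F).one_mem, u0, ⟨hu0, hFx.mpr hfix0⟩, by rw [Units.val_one, Module.End.one_apply]⟩
    have hNeq : N = Wi := hWi.2.2 N hNWi (fun y hy x hx => (hYN hy x).mp hx)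
      (fun e => hu00 ((Submodule.mem_bot _).mp (e ▸ hu0N)))
    have hproj : ∀ x ∈ N, (T * F) x ∈ U0 := by
      intro x hx
      rw [hN] at hx
      induction hx using Submodule.span_induction with
      | mem x hx =>
        obtain ⟨f, hf, u, hu, rfl⟩ := hx
        obtain ⟨b1, b2, -⟩ := hf.2.blocks hs.d.symm
        rw [mul_sub, mul_one, sub_eq_zero] at b2
        rw [← Module.End.mul_apply, b2]
        obtain ⟨z, hz⟩ := hu.1.2
        have : (T * F) u = u := by
          rw [← hz, ← Module.End.mul_apply, hs.d.TFT]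
        rwa [this]
      | zero => rw [map_zero]; exact Submodule.zero_mem _
      | add a b _ _ ha hb => rw [map_add]; exact Submodule.add_mem _ ha hb
      | smul c a _ ha => rw [map_smul]; exact Submodule.smul_mem _ c ha
    have hv := hFx.mp (hproj m (hNeq.ge hm)).2 _ (hs.good_core hR)
    rwa [oneAdd_val, LinearMap.add_apply, Module.End.one_apply, add_eq_left] at hv
  have hzero : R * (T * F) = 0 := LinearMap.ext fun m => by
    let Kr : Submodule (ZMod p) M := LinearMap.ker (R * (T * F))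
    have hle : ∀ Wi, IrrSub Y Wi → Wi ≤ Kr := fun Wi hWi m hm => main Wi hWi m hm
    have hm : m ∈ (⨆ W ∈ {W | IrrSub Y W}, W) := by
      rw [show (⨆ W ∈ {W | IrrSub Y W}, W) = ⊤ from hs.ctx.semi]; trivial
    exact iSup₂_le hle hm
  calc R * T = R * (T * F) * T := by rw [mul_assoc, hs.d.TFT]
    _ = 0 := by rw [hzero, zero_mul]

/-- `R` commutes with the radical. -/
theorem Single.commute_wgrp {R : End'} (hR : Good Y B R) {w : GL} (hw : w ∈ wgrp (grp Y T) T) :
    R * ((w : End') - 1) = ((w : End') - 1) * R := by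
  have h2 := two_ne (p := p) hs.hp
  obtain ⟨hcT, hcF⟩ := hs.commute_pair hR
  have hRT := hs.kills_image hR
  have hTR : T * R = 0 := hcT.symm.trans hRT
  have hRF : R * F = 0 := by
    calc R * F = R * (F * T * F) := by rw [hs.d.FTF]
      _ = F * (R * T) * F := by rw [← mul_assoc, ← mul_assoc, hcF, mul_assoc F R T]
      _ = 0 := by rw [hRT, mul_zero, zero_mul]
  have hFR : F * R = 0 := hcF.symm.trans hRF
  have r1 : ∀ X, R * (T * X) = 0 := fun X => by rw [← mul_assoc, hRT, zero_mul]
  have r2 : ∀ X, R * (F * X) = 0 := fun X => by rw [← mul_assoc, hRF, zero_mul]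
  have r3 : ∀ X, T * (R * X) = 0 := fun X => by rw [← mul_assoc, hTR, zero_mul]
  have r4 : ∀ X, F * (R * X) = 0 := fun X => by rw [← mul_assoc, hFR, zero_mul]
  have r5 : R * mid T F = R := by
    rw [mid, mul_sub, mul_sub, mul_one, r1, r2, sub_zero, sub_zero]
  have r6 : mid T F * R = R := by
    rw [mid, sub_mul, sub_mul, one_mul, mul_assoc, hFR, mul_zero, mul_assoc, hTR, mul_zero, sub_zero, sub_zero]
  set Z := (w : End') - 1 with hZ
  obtain ⟨b1, b2, b3⟩ := hw.2.blocks hs.d
  set C := R * Z - Z * R with hC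
  refine sub_eq_zero.mp (show C = 0 from ?_)
  have e1 : R * Z = mid T F * (R * Z) * (F * T) := by
    have h0 : R * Z * mid T F = 0 := by rw [← r5, mul_assoc R, mul_assoc R, b3, mul_zero]
    conv_lhs => rw [split_right T F (R * Z), mul_assoc R Z (T * F), b1, mul_zero, h0, zero_add, add_zero]
    rw [← mul_assoc (mid T F), r6]
  have e2 : Z * R = T * F * (Z * R) * mid T F := by
    have h0 : mid T F * (Z * R) = 0 := by rw [← r6, ← mul_assoc Z, ← mul_assoc, ← mul_assoc, b3, zero_mul]
    conv_lhs => rw [split_left T F (Z * R), ← mul_assoc (F * T) Z R, b2, zero_mul, h0, add_zero, add_zero]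
    rw [mul_assoc (T * F) (Z * R), mul_assoc Z R, r5]
  have hRZR : R * Z * R = 0 := by
    rw [e1, mul_assoc _ (F * T) R, mul_assoc F T R, hTR, mul_zero, mul_zero]
  have hW1 : W1 T F C := by
    unfold W1
    have f1 : T * F * C * mid T F = -(Z * R) := by
      rw [hC, mul_sub, sub_mul, ← mul_assoc (T * F) R Z, mul_assoc T F R, hFR, mul_zero, zero_mul, zero_mul,
        zero_sub, ← e2]
    have f2 : mid T F * C * (F * T) = R * Z := by
      rw [hC, mul_sub, sub_mul, ← e1]
      rw [mul_assoc _ (Z * R) (F * T), mul_assoc Z R, ← mul_assoc R F T, hRF, zero_mul, mul_zero, mul_zero,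
        sub_zero]
    rw [f1, f2, hC]; abel
  have hC2 : C * C = 0 := by
    have hee : R * Z * (Z * R) = 0 := by
      rw [e1, e2]
      simp only [mul_assoc, hs.d.rules, mul_zero]
    have : C * C = R * Z * R * Z - R * Z * (Z * R) - Z * (R * R) * Z + Z * (R * Z * R) := by
      rw [hC]; noncomm_ring
    rw [this, hRZR, hee, hR.sq]; simp
  have hRC : R * C = 0 := by
    rw [hC, mul_sub, ← mul_assoc, hR.sq, zero_mul, ← mul_assoc, hRZR, sub_zero]
  have hCR : C * R = 0 := by
    rw [hC, sub_mul, hRZR, mul_assoc, hR.sq, mul_zero, sub_zero]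
  set g := oneAdd R hR.sq with hg
  have hgY : g ∈ Y := hR.mem
  have hwY : w ∈ Y := grp_le_Y T hw.1
  set C2 := -(C * Z) with hC2d
  have hCZZ : C * Z * Z = 0 := by
    have h0 : mid T F * Z * Z = 0 := by
      conv_lhs => rw [split_right T F (mid T F * Z), mul_assoc (mid T F) Z (T * F), b1, mul_zero, zero_add, b3,
        add_zero]
      rw [mul_assoc _ (F * T) Z, b2, mul_zero]
    calc C * Z * Z = (T * F * C * mid T F + mid T F * C * (F * T)) * Z * Z := by rw [← hW1]
      _ = T * F * C * (mid T F * Z * Z) + mid T F * C * (F * T * Z) * Z := by noncomm_ring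
      _ = 0 := by rw [h0, b2]; simp
  have hwinv : ((w⁻¹ : GL) : End') = 1 - Z + Z * Z := by
    refine Units.inv_eq_of_mul_eq_one_right ?_
    rw [show (w : End') = 1 + Z by rw [hZ]; abel,
      show (1 + Z) * (1 - Z + Z * Z) = 1 + Z * Z * Z by noncomm_ring, hw.2.cube, add_zero]
  have hy1 : ((g * w * g⁻¹ * w⁻¹ : GL) : End') = 1 + C + C2 := by
    rw [Units.val_mul, Units.val_mul, Units.val_mul, hwinv, show (w : End') = 1 + Z by rw [hZ]; abel, hg,
      oneAdd_val, oneAdd_inv_val, hC2d]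
    calc (1 + R) * (1 + Z) * (1 - R) * (1 - Z + Z * Z)
        = (1 + Z + C - R * Z * R - R * R) * (1 - Z + Z * Z) := by rw [hC]; noncomm_ring
      _ = 1 + C - C * Z + (Z * Z * Z + C * Z * Z) := by rw [hRZR, hR.sq]; noncomm_ring
      _ = _ := by rw [hw.2.cube, hCZZ]; abel
  have hC2w : C2 = T * F * C2 * (F * T) := by
    have h1 : mid T F * C * (F * T) * Z = 0 := by rw [mul_assoc _ (F * T) Z, b2, mul_zero]
    have h0 : mid T F * Z * mid T F = 0 := b3
    have e : C * Z = T * F * C * (mid T F * Z * (F * T)) := by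
      calc C * Z = (T * F * C * mid T F + mid T F * C * (F * T)) * Z := by rw [← hW1]
        _ = T * F * C * (mid T F * Z) := by rw [add_mul, h1, add_zero, mul_assoc]
        _ = _ := by
          conv_lhs => rw [split_right T F (mid T F * Z), mul_assoc (mid T F) Z (T * F), b1, mul_zero, zero_add, h0,
            add_zero]
    rw [hC2d, e]
    simp only [mul_neg, neg_mul, mul_assoc, hs.d.rules]
  obtain ⟨p1, p2, p3⟩ : C * C2 = 0 ∧ C2 * C = 0 ∧ C2 * C2 = 0 := by
    refine ⟨?_, ?_, ?_⟩
    · rw [hC2d, mul_neg, ← mul_assoc, hC2, zero_mul, neg_zero]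
    · rw [hC2w, hW1]; simp only [mul_assoc, mul_add, hs.d.rules, mul_zero, add_zero]
    · rw [hC2w]; simp only [mul_assoc, hs.d.rules, mul_zero]
  set t := hs.d.tor (-1) with ht
  have htY : t ∈ Y := grp_le_Y T (tor_mem_grp hs.hp hs.noUnip hs.hT hs.hF hs.d _)
  set y1 := g * w * g⁻¹ * w⁻¹ with hy1d
  have hy1Y : y1 ∈ Y := Y.mul_mem (Y.mul_mem (Y.mul_mem hgY hwY) (Y.inv_mem hgY)) (Y.inv_mem hwY)
  have hy2 : ((t * y1 * t⁻¹ : GL) : End') = 1 - C + C2 := by
    rw [Units.val_mul, Units.val_mul, hy1, show (1 : End') + C + C2 = 1 + (C + C2) by abel, conjE_one_add,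
      conjE_add, hW1.tor hs.d, hC2w, hs.d.tor_top]
    simp only [Units.val_neg, Units.val_one, neg_smul, one_smul, mul_neg, neg_neg, mul_one, ← hC2w]
    abel
  have hy2i : (((t * y1 * t⁻¹)⁻¹ : GL) : End') = 1 + C - C2 := by
    refine Units.inv_eq_of_mul_eq_one_right ?_
    rw [hy2]
    linear_combination (norm := noncomm_ring) p1 + p2 - hC2 - p3
  have hRtC : Rt Y C := by
    refine rt_of_smul h2 hC2 (Y.mul_mem hy1Y (Y.inv_mem (Y.mul_mem (Y.mul_mem htY hy1Y) (Y.inv_mem htY)))) ?_
    rw [Units.val_mul, hy1, hy2i, two_smul]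
    linear_combination (norm := noncomm_ring) hC2 - p1 + p2 - p3
  -- the weight zero product
  set N := C * F * C with hN
  have hFCF : F * C * F = 0 := by
    rw [hW1]; simp only [mul_assoc, mul_add, add_mul, hs.d.rules, mul_zero, add_zero]
  have hCF : mid T F * C = R * Z := by
    calc mid T F * C = mid T F * (T * F * C * mid T F + mid T F * C * (F * T)) := by rw [← hW1]
      _ = mid T F * C * (F * T) := by simp only [mul_add, mul_assoc, hs.d.rules, zero_add]
      _ = R * Z := by
        rw [hC, mul_sub, sub_mul, ← e1, mul_assoc _ (Z * R) (F * T), mul_assoc Z R, ← mul_assoc R F T, hRF,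
          zero_mul, mul_zero, mul_zero, sub_zero]
  have hNm : N = mid T F * N * mid T F := by
    rw [hN, hW1]
    simp only [mul_assoc, mul_add, add_mul, hs.d.rules, mul_zero, add_zero, zero_add]
  have hFN : F * N = 0 := by rw [hNm, ← mul_assoc, ← mul_assoc, hs.d.F_mid, zero_mul, zero_mul]
  have hNF : N * F = 0 := by rw [hNm, mul_assoc, hs.d.mid_F, mul_zero]
  have hNN : N * N = 0 := by
    rw [hN]
    calc C * F * C * (C * F * C) = C * F * (C * C) * (F * C) := by noncomm_ring
      _ = 0 := by rw [hC2]; simp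
  have hN0 : N = 0 := by
    by_contra hN0
    have hconjF : ∀ s : ZMod p, ∀ hs2 : (s • C) * (s • C) = 0,
        conjE (oneAdd (s • C) hs2) F = F + s • (C * F - F * C) - (s * s) • N := by
      intro s _
      rw [conjE_oneAdd, hN]
      simp only [add_mul, mul_sub, one_mul, mul_one, smul_mul_assoc, mul_smul_comm, smul_smul, smul_sub, mul_assoc]
      module
    have hmem : ∀ s : ZMod p, ∃ v ∈ Y, (v : End') = 1 + (F + s • (C * F - F * C) - (s * s) • N) := by
      intro s
      have hc := (hs.hF.conj ((hRtC.smul s).oneAdd_mem)).rt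
      exact ⟨oneAdd _ hc.sq, hc.oneAdd_mem, by rw [oneAdd_val, hconjF s]⟩
    obtain ⟨v1, hv1, ev1⟩ := hmem 1
    obtain ⟨v2, hv2, ev2⟩ := hmem (-1)
    have hRtN : Rt Y N := by
      refine rt_of_smul (neg_ne_zero.mpr h2) hNN
        (Y.mul_mem (Y.mul_mem hv1 hv2) (hs.hF.rt.smul (-2 : ZMod p)).oneAdd_mem) ?_
      rw [Units.val_mul, Units.val_mul, ev1, ev2, oneAdd_val]
      have z1 : ∀ X, F * (C * (F * X)) = 0 := fun X => by rw [← mul_assoc C, ← mul_assoc, ← mul_assoc F C, hFCF, zero_mul]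
      have z1' : F * (C * F) = 0 := by rw [← mul_assoc, hFCF]
      have z2 : ∀ X, F * (N * X) = 0 := fun X => by rw [← mul_assoc, hFN, zero_mul]
      have z3 : ∀ X, C * (C * X) = 0 := fun X => by rw [← mul_assoc, hC2, zero_mul]
      have z4 : C * (F * (C * F)) = 0 := by rw [z1', mul_zero]
      have z5 : ∀ X, N * (F * X) = 0 := fun X => by rw [← mul_assoc, hNF, zero_mul]
      have z6 : ∀ X, F * (F * X) = 0 := fun X => by rw [← mul_assoc, hs.hF.sq, zero_mul]
      have z7 : N * C = 0 := by rw [hN, mul_assoc, hC2, mul_zero]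
      have z8 : C * N = 0 := by rw [hN, ← mul_assoc, ← mul_assoc, hC2, zero_mul, zero_mul]
      have z9 : ∀ X, N * (C * X) = 0 := fun X => by rw [← mul_assoc, z7, zero_mul]
      simp only [mul_add, add_mul, mul_sub, sub_mul, smul_mul_assoc, mul_smul_comm, smul_smul, smul_sub, smul_add,
        mul_one, one_mul, mul_assoc, z1, z1', z2, z3, z4, z5, z6, z7, z8, z9, hFN, hNF, hNN, hs.hF.sq, hC2, mul_zero,
        smul_zero, add_zero, sub_zero, zero_add]
      module
    have hrkN : rk N ≤ rk F := (rk_mul_left _ _).trans (rk_mul_right _ _)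
    have hNm' := hs.hF.of_rk_le hRtN hN0 hrkN
    have hgN : Grd T F N := by
      constructor <;>
        · show _ = _
          rw [hNm]; simp only [mul_assoc, hs.d.rules, mul_zero]
    obtain ⟨N', hN', dN, hgN'⟩ := hs.partner_grd hNm' hgN
    have hRN : R * N = 0 := by rw [hN, ← mul_assoc, ← mul_assoc, hRC, zero_mul, zero_mul]
    have hNR : N * R = 0 := by rw [hN, mul_assoc, hCR, mul_zero]
    obtain ⟨hk1, hk2⟩ := hs.pair_kill hR hNm' hN' dN ⟨hgN.1.mul_left hgN'.1, hgN.2.mul_left hgN'.2⟩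
      ⟨hgN'.1.mul_left hgN.1, hgN'.2.mul_left hgN.2⟩ hRN hNR (hs.sandwich hR hN' hgN')
    have hform : N = R * (Z * F * C) := by
      calc N = mid T F * N := by
            conv_lhs => rw [hNm]
            conv_rhs => rw [hNm]
            simp only [mul_assoc, hs.d.rules]
        _ = R * (Z * F * C) := by rw [hN, ← mul_assoc, ← mul_assoc, hCF]; simp only [mul_assoc]
    apply hN0
    calc N = N * N' * N := dN.TFT.symm
      _ = N * (N' * R) * (Z * F * C) := by
          conv_lhs => arg 2; rw [hform]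
          simp only [mul_assoc]
      _ = 0 := by rw [hk2, mul_zero, zero_mul]
  by_contra hC0
  have hrkC : rk C ≤ rk T := by
    rw [hW1]
    refine hs.d.rk_le ?_ ?_ ?_
    · simp only [mul_assoc, hs.d.rules]
    · simp only [mul_assoc, hs.d.rules]
    · have : mid T F * C * (F * T) * F * (T * F * C * mid T F) = mid T F * N * mid T F := by
        rw [hN]; simp only [mul_assoc, hs.d.rules]
      rw [this, hN0, mul_zero, zero_mul]
  have hCm := hs.hT.of_rk_le hRtC hC0 hrkC
  obtain ⟨S, hS, dS, heS⟩ := hs.exists_eig_partner hCm (fun a => (a : ZMod p)) (fun a => a.ne_zero)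
    fun a => hW1.tor hs.d a
  have hS1 : W1 F T S := by
    refine hs.d.w1_of_eig (Units.mk0 2 h2) ?_ ?_ h2 ?_
    · rw [heS, Units.val_inv_eq_inv_val]
    · rw [heS]; simp
    · rw [Units.val_mk0]; intro e; exact three_ne (p := p) hs.hp (by linear_combination e)
  have hgrd : Grd T F (C * S) ∧ Grd T F (S * C) := by
    have hfix : ∀ a : (ZMod p)ˣ, conjE (hs.d.tor a) (C * S) = C * S ∧ conjE (hs.d.tor a) (S * C) = S * C := by
      intro a
      constructor <;>
        rw [← conjE_mul, hW1.tor hs.d, heS]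
      · rw [smul_mul_smul_comm, mul_inv_cancel₀ a.ne_zero, one_smul]
      · rw [smul_mul_smul_comm, inv_mul_cancel₀ a.ne_zero, one_smul]
    have a1 : ((Units.mk0 (2 : ZMod p) h2 : (ZMod p)ˣ) : ZMod p) ≠ 1 := by
      rw [Units.val_mk0]; intro e; exact one_ne_zero (α := ZMod p) (by linear_combination e)
    have a2 : ((Units.mk0 (2 : ZMod p) h2 : (ZMod p)ˣ) : ZMod p) * (Units.mk0 (2 : ZMod p) h2 : (ZMod p)ˣ) ≠ 1 := by
      rw [Units.val_mk0]; intro e; exact three_ne (p := p) hs.hp (by linear_combination e)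
    exact ⟨hs.d.grd_of_fixed _ (hfix _).1 a1 a2, hs.d.grd_of_fixed _ (hfix _).2 a1 a2⟩
  have hRSR : R * S * R = 0 := by
    rw [hS1, mid_comm]
    simp only [mul_assoc, mul_add, add_mul, r2, hFR, mul_zero, zero_add, add_zero]
  obtain ⟨hk1, -⟩ := hs.pair_kill hR hCm hS dS hgrd.1 hgrd.2 hRC hCR hRSR
  apply hC0
  have e : C * S * C = -(C * S * Z * R) := by
    rw [hC]
    calc (R * Z - Z * R) * S * (R * Z - Z * R)
        = (R * Z - Z * R) * (S * R * Z) - (R * Z - Z * R) * S * Z * R := by noncomm_ring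
      _ = -((R * Z - Z * R) * S * Z * R) + (R * Z * (S * R) * Z - Z * (R * S * R) * Z) := by noncomm_ring
      _ = _ := by
        rw [hk1]
        have : S * R = 0 := (hs.pair_kill hR hCm hS dS hgrd.1 hgrd.2 hRC hCR hRSR).2
        rw [this]; simp
  calc C = C * S * C := dS.TFT.symm
    _ = C * S * C * S * C := by rw [dS.TFT]; exact dS.TFT.symm
    _ = -(C * S * Z * (R * S) * C) := by rw [e]; noncomm_ring
    _ = 0 := by rw [hk1]; simp

/-- A good element centralizes the component. -/
theorem Single.commute_grp {R : End'} (hR : Good Y B R) :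
    ∀ x ∈ grp Y T, Commute x (oneAdd R hR.sq) := by
  obtain ⟨hcT, hcF⟩ := hs.commute_pair hR
  set g := oneAdd R hR.sq with hg
  have hcl : ∀ {v : GL}, R * ((v : End') - 1) = ((v : End') - 1) * R → v ∈ centralizer ({g} : Set GL) := by
    intro v hv
    rw [mem_centralizer_singleton_iff]
    refine Units.ext ?_
    rw [Units.val_mul, Units.val_mul, hg, oneAdd_val]
    linear_combination (norm := noncomm_ring) -hv
  have hwel : hs.d.wel ∈ centralizer ({g} : Set GL) := by
    refine hcl ?_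
    rw [hs.d.wel_val, mid]
    simp only [mul_sub, sub_mul, mul_add, add_mul, ← mul_assoc, hcT, hcF]
    simp only [mul_assoc, hcT, hcF, mul_one, one_mul]
  have hT : wgrp (grp Y T) T ≤ centralizer ({g} : Set GL) := fun v hv => hcl (hs.commute_wgrp hR hv)
  have hF : wgrp (grp Y T) F ≤ centralizer ({g} : Set GL) := by
    intro v hv
    have hwl := wel_mem_grp hs.hp hs.noUnip hs.hT hs.hF hs.d
    have h1 : hs.d.wel⁻¹ * v * hs.d.wel⁻¹⁻¹ ∈ wgrp (grp Y T) T := by
      refine wgrp_conj_mem hs.hp hs.hT (le_normalizer ((grp Y T).inv_mem hwl)) ?_ hs.hF.2.1 hv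
      have e : conjE hs.d.wel⁻¹ (conjE hs.d.wel T) = T := by rw [conjE_conjE, inv_mul_cancel, conjE_one]
      rw [hs.d.wel_T, conjE_neg, neg_eq_iff_eq_neg] at e
      rw [e]
      exact Submodule.neg_mem _ (self_mem_rootSpace hs.hT.rt)
    have := Subgroup.mul_mem _ (Subgroup.mul_mem _ hwel (hT h1)) (Subgroup.inv_mem _ hwel)
    rwa [inv_inv, show hs.d.wel * (hs.d.wel⁻¹ * v * hs.d.wel) * hs.d.wel⁻¹ = v by group] at this
  intro x hx
  exact mem_centralizer_singleton_iff.mp (sup_le hT hF (grp_le_radicals hs.hp hs.noUnip hs.hT hs.hF hs.d hx))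

end Cfsg.Agent.H63.Flavell
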