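import Cfsg.Agent.H63.Flavell.Levi
import Cfsg.Agent.H42.Eqv.Main

/-!
A quadratic element lying in every invariant Sylow `p`-subgroup lies in the `p`-core.
-/

set_option autoImplicit false
set_option linter.unusedSectionVars false

namespace Cfsg.Agent.H63.Flavell

open Cfsg.Agent.H88 Subgroup
open Cfsg.Agent.H42.Eqv (stabAlg resAlg quotAlg liftGL liftGL_val exists_isMin)
open H70.Wielandt (opIn opIn_le le_normalizer_opIn isPGroup_opIn le_opIn_of_normalized)
open Cfsg.Agent.H40 (IsSylowOf isSylowOf_map)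

universe u

section groups

variable {G G' : Type*} [Group G] [Finite G] [Group G'] [Finite G'] {p : ℕ} [Fact p.Prime]

theorem sylowOf_map_hom (f : G →* G') {K T : Subgroup G} (hT : IsSylowOf p T K) :
    IsSylowOf p (T.map f) (K.map f) := by
  let P : Sylow p K := Sylow.ofCard (T.subgroupOf K)
    (by rw [Nat.card_congr (subgroupOfEquivOfLe hT.1).toEquiv]; exact hT.2.2)
  have h := isSylowOf_map (P.mapSurjective (f.subgroupMap_surjective K))
  have e : ((P.mapSurjective (f.subgroupMap_surjective K) : Sylow p (K.map f)) : Subgroup (K.map f)).map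
      (K.map f).subtype = T.map f := by
    have hc : (K.map f).subtype.comp (f.subgroupMap K) = f.comp K.subtype := rfl
    rw [Sylow.coe_mapSurjective, Subgroup.map_map, hc, ← Subgroup.map_map]
    congr 1
    exact map_subgroupOf_eq_of_le hT.1
  rwa [e] at h

/-- The invariant Sylow subgroups of an image are images of invariant ones. -/
theorem InAll.map (f : G →* G') {Y B : Subgroup G} {g : G} (hBY : B ≤ normalizer (Y : Set G))
    (hcop : (Nat.card B).Coprime (Nat.card Y)) (hsolv : Group.IsSolvable B) (h : InAll p Y B g) :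
    InAll p (Y.map f) (B.map f) (f g) := by
  intro S hS hBS
  set K := Y ⊓ S.comap f with hK
  have hBK : B ≤ normalizer (K : Set G) := le_normalizer_iff.mpr fun b hb x hx =>
    ⟨Coprime.conj_mem (hBY hb) hx.1, by
      show f (b * x * b⁻¹) ∈ S
      rw [map_mul, map_mul, map_inv]
      exact Coprime.conj_mem (hBS ⟨b, hb, rfl⟩) hx.2⟩
  obtain ⟨T, hT, hBT⟩ := exists_inv_sylow (p := p) hBK
    (hcop.coprime_dvd_right (card_dvd_of_le inf_le_left)) hsolv
  obtain ⟨T', hT', hTT', hBT'⟩ := exists_inv_sylow_ge hBY hcop hsolv (hT.1.trans inf_le_left) hT.2.1 hBT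
  have hKS : K.map f = S := by
    refine le_antisymm ?_ fun y hy => ?_
    · rintro _ ⟨x, hx, rfl⟩; exact hx.2
    · obtain ⟨x, hx, rfl⟩ := hS.1 hy
      exact ⟨x, ⟨hx, hy⟩, rfl⟩
  have h1 := sylowOf_map_hom f hT
  rw [hKS] at h1
  have h2 : T.map f = S := h1.eq_of_le hS.2.1 h1.1 le_rfl |>.trans rfl
  have h3 : T'.map f = S :=
    (hS.eq_of_le (hT'.2.1.map f) (h2 ▸ Subgroup.map_mono hTT') (Subgroup.map_mono hT'.1)).symm
  rw [← h3]
  exact ⟨g, h T' hT' hBT', rfl⟩

end groups

section linear

variable {p : ℕ} [Fact p.Prime] {M : Type u} [AddCommGroup M] [Module (ZMod p) M] [Finite M]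

local notation "GL" => LinearMap.GeneralLinearGroup (ZMod p) M
local notation "End'" => Module.End (ZMod p) M

variable {Y B : Subgroup (LinearMap.GeneralLinearGroup (ZMod p) M)}

/-- With every component centralized, the element is trivial. -/
theorem Ctx.eq_zero_of_irr (hc : Ctx Y B) {R : End'} (hR : Good Y B R) : R = 0 := by
  by_contra hR0
  have h2 := Cfsg.Agent.H42.Eqv.two_ne (p := p) hc.hp
  have h3 := Cfsg.Agent.H42.Eqv.card_ne_three (p := p) hc.hp
  set g := oneAdd R hR.sq with hg
  have hcen : ∀ {A : End'}, IsMin Y A → ∀ x ∈ grp Y A, Commute x g := by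
    intro A hA
    by_cases hone : ∀ C, IsMin Y C → Linked Y A C
    · obtain ⟨T, hT, hlT, hfT⟩ := hc.exists_fixR hA
      obtain ⟨F, hF, d, hfF⟩ := hc.exists_partner hT hfT
      have hs : Single Y B T F :=
        ⟨hc, hT, hF, d, hfT, hfF, fun C hC => hlT.symm.trans (hone C hC)⟩
      rw [Cfsg.Agent.H42.Eqv.grp_eq_of_linked hlT]
      exact hs.commute_grp hR
    · push Not at hone
      obtain ⟨C, hC, hnl⟩ := hone
      exact hc.commute_grp hR hA hC hnl
  obtain ⟨A₀, hA₀⟩ := exists_isMin hR.rt hR0
  set L := minGroup Y with hL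
  set C := Y ⊓ centralizer (L : Set GL) with hC
  have hgC : g ∈ C := by
    refine ⟨hR.mem, ?_⟩
    rw [hL, minGroup, centralizer_closure]
    intro x hx
    exact (hcen hx x (subset_closure ⟨hx, Relation.ReflTransGen.refl⟩)).eq
  have hYL : ∀ {x : GL}, x ∈ normalizer (Y : Set GL) → x ∈ normalizer (L : Set GL) := by
    intro x hx
    have key : ∀ {x : GL}, x ∈ normalizer (Y : Set GL) → ∀ z ∈ L, x * z * x⁻¹ ∈ L := by
      intro x hx z hz
      refine conj_mem_closure (fun w hw => subset_closure ?_) hz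
      show IsMin Y _
      rw [Cfsg.Agent.H42.Eqv.conjE_sub_one]
      exact Cfsg.Agent.H42.Eqv.isMin_conj_norm hx hw
    refine mem_normalizer_iff.mpr fun z => ⟨key hx z, fun h => ?_⟩
    simpa [mul_assoc] using key ((normalizer _).inv_mem hx) _ h
  have hnC : ∀ {x : GL}, x ∈ normalizer (Y : Set GL) → x ∈ normalizer (C : Set GL) := by
    intro x hx
    refine mem_normalizer_iff.mpr fun z => and_congr (mem_normalizer_iff.mp hx z) ?_
    show z ∈ centralizer (L : Set GL) ↔ x * z * x⁻¹ ∈ centralizer (L : Set GL)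
    rw [mem_centralizer_iff, mem_centralizer_iff]
    constructor <;> intro h l hl
    · have := h (x⁻¹ * l * x) (Coprime.conj_mem' (hYL hx) hl)
      calc l * (x * z * x⁻¹) = x * ((x⁻¹ * l * x) * z) * x⁻¹ := by group
        _ = x * (z * (x⁻¹ * l * x)) * x⁻¹ := by rw [this]
        _ = x * z * x⁻¹ * l := by group
    · have := h (x * l * x⁻¹) (Coprime.conj_mem (hYL hx) hl)
      calc l * z = x⁻¹ * ((x * l * x⁻¹) * (x * z * x⁻¹)) * x := by group
        _ = x⁻¹ * ((x * z * x⁻¹) * (x * l * x⁻¹)) * x := by rw [this]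
        _ = z * l := by group
  have hlt : C < Y := by
    refine lt_of_le_of_ne inf_le_left fun e => ?_
    obtain ⟨Z, hZ, hne⟩ := exists_not_commute h2 h3 hc.noUnip hA₀
    have hmem : ∀ {W : End'} (hW : IsMin Y W), oneAdd W hW.sq ∈ L := fun hW =>
      subset_closure (show IsMin Y _ by rw [oneAdd_val, add_sub_cancel_left]; exact hW)
    have hm := mem_centralizer_iff.mp (e.ge hA₀.rt.oneAdd_mem).2 _ (hmem hZ.2.1)
    have h' := congrArg (Units.val : _ → End') hm
    rw [Units.val_mul, Units.val_mul, oneAdd_val, oneAdd_val] at h'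
    exact hne (by linear_combination (norm := noncomm_ring) -h')
  have hgo := hc.ih C B hlt le_rfl (fun b hb => hnC (hc.hBY hb)) R hR.sq hgC
    (hR.all.mono hc.hBY hc.hcop hc.hsolv inf_le_left hgC)
  have hbot : opIn p C = ⊥ := eq_bot_of_semi hc.semi ((opIn_le p C).trans inf_le_left)
    (le_normalizer_opIn_of fun x hx => hnC (le_normalizer hx)) (isPGroup_opIn C)
  rw [hbot, mem_bot] at hgo
  have := congrArg Units.val hgo
  rw [oneAdd_val, Units.val_one, add_eq_left] at this
  exact hR0 this

theorem good_aux (hp : 5 ≤ p) : ∀ (n : ℕ) {M : Type u} [AddCommGroup M] [Module (ZMod p) M] [Finite M]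
    (Y B : Subgroup (LinearMap.GeneralLinearGroup (ZMod p) M)),
    B ≤ normalizer (Y : Set (LinearMap.GeneralLinearGroup (ZMod p) M)) →
    (Nat.card B).Coprime (Nat.card Y) → Group.IsSolvable B →
    ∀ (R : Module.End (ZMod p) M) (hR : R * R = 0), oneAdd R hR ∈ Y → InAll p Y B (oneAdd R hR) →
    Nat.card Y + Module.finrank (ZMod p) M ≤ n → oneAdd R hR ∈ opIn p Y := by
  intro n
  induction n using Nat.strong_induction_on with
  | _ n ih =>
  intro M _ _ _ Y B hBY hcop hsolv R hR hgY hall hn
  set g := oneAdd R hR with hg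
  by_cases h0 : R = 0
  · have : g = 1 := Units.ext (by rw [hg, oneAdd_val, h0, add_zero, Units.val_one])
    rw [this]; exact Subgroup.one_mem _
  by_cases hirr : ∀ W : Submodule (ZMod p) M,
      (∀ x ∈ Y ⊔ B, ∀ w ∈ W, (x : Module.End (ZMod p) M) w ∈ W) → W = ⊥ ∨ W = ⊤
  · have hnt : ∃ m : M, m ≠ 0 := by
      by_contra h
      push Not at h
      exact h0 (LinearMap.ext fun m => by rw [h m]; simp)
    have hsemi : Semi Y := (semi_of_irreducible ⟨hnt, hirr⟩).normal le_sup_left fun h hh x hx =>
      (mem_normalizer_iff.mp (sup_le le_normalizer hBY hh) x).mp hx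
    have hc : Ctx Y B := ⟨hp, hBY, hcop, hsolv, hsemi, fun X B' hlt hB' hX R' hR' hgX hallX => by
      refine ih (Nat.card X + Module.finrank (ZMod p) M) ?_ X B' hX
        ((hcop.coprime_dvd_left (card_dvd_of_le hB')).coprime_dvd_right (card_dvd_of_le hlt.le))
        (Coprime.isSolvable_of_le hB' hsolv) R' hR' hgX hallX le_rfl
      have : Nat.card X < Nat.card Y :=
        lt_of_le_of_ne (card_le_of_le hlt.le) fun e => hlt.ne (eq_of_le_of_card_ge hlt.le e.ge)
      omega⟩
    exact absurd (hc.eq_zero_of_irr ⟨hR, hgY, hall⟩) h0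
  · push Not at hirr
    obtain ⟨W, hW, hbot, htop⟩ := hirr
    set H := Y ⊔ B with hH
    have hYH : Y ≤ H := le_sup_left
    have hBH : B ≤ H := le_sup_right
    have hHW : ∀ x ∈ H, (x : Module.End (ZMod p) M) ∈ stabAlg W := hW
    set Y' := Y.subgroupOf H with hY'
    set B' := B.subgroupOf H with hB'
    set g' : H := ⟨g, hYH hgY⟩ with hg'
    have hcY : Nat.card Y' = Nat.card Y := Nat.card_congr (subgroupOfEquivOfLe hYH).toEquiv
    have hcB : Nat.card B' = Nat.card B := Nat.card_congr (subgroupOfEquivOfLe hBH).toEquiv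
    have hcop' : (Nat.card B').Coprime (Nat.card Y') := by rw [hcY, hcB]; exact hcop
    have hsB : Group.IsSolvable B' :=
      Group.isSolvable_of_isSolvable_injective (f := (subgroupOfEquivOfLe hBH).toMonoidHom) (subgroupOfEquivOfLe hBH).injective
    have hBY' : B' ≤ normalizer (Y' : Set H) := le_normalizer_iff.mpr fun b hb x hx => by
      show ((b * x * b⁻¹ : H) : LinearMap.GeneralLinearGroup (ZMod p) M) ∈ Y
      exact Coprime.conj_mem (hBY hb) hx
    have hall' : InAll p Y' B' g' := by
      intro S hS hBS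
      have h1 := sylowOf_map_hom H.subtype hS
      rw [hY', map_subgroupOf_eq_of_le hYH] at h1
      obtain ⟨x, hx, e⟩ := hall _ h1 (fun b hb => Coprime.mem_normalizer_of_map_conj (by
        rw [Subgroup.map_map]
        have hc : (MulAut.conj b).toMonoidHom.comp H.subtype =
            H.subtype.comp (MulAut.conj (⟨b, hBH hb⟩ : H)).toMonoidHom := rfl
        rw [hc, ← Subgroup.map_map, Coprime.map_conj_eq (hBS hb)]))
      exact (show x = g' from Subtype.ext e) ▸ hx
    have step : ∀ {M' : Type u} [AddCommGroup M'] [Module (ZMod p) M'] [Finite M']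
        (φ : stabAlg W →ₐ[ZMod p] Module.End (ZMod p) M'),
        Module.finrank (ZMod p) M' < Module.finrank (ZMod p) M →
        liftGL hHW φ g' ∈ opIn p (Y'.map (liftGL hHW φ)) := by
      intro M' _ _ _ φ hlt
      set f := liftGL hHW φ with hf
      have hRm : R ∈ stabAlg W := by
        have h := (stabAlg W).sub_mem (hHW g (hYH hgY)) (stabAlg W).one_mem
        rwa [hg, oneAdd_val, add_sub_cancel_left] at h
      set R' := φ ⟨R, hRm⟩ with hR'
      have hR'2 : R' * R' = 0 := by
        rw [hR', ← map_mul, show (⟨R, hRm⟩ : stabAlg W) * ⟨R, hRm⟩ = 0 from Subtype.ext hR, map_zero]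
      have e : f g' = oneAdd R' hR'2 := by
        refine Units.ext ?_
        rw [hf, liftGL_val]
        refine Eq.trans ?_ (oneAdd_val R' hR'2).symm
        rw [hR', ← map_one φ, ← map_add]
        exact congrArg φ (Subtype.ext (oneAdd_val R hR))
      rw [e]
      have hdY : Nat.card (Y'.map f) ∣ Nat.card Y := hcY ▸ Subgroup.card_map_dvd _ f
      have hdB : Nat.card (B'.map f) ∣ Nat.card B := hcB ▸ Subgroup.card_map_dvd _ f
      refine ih (Nat.card (Y'.map f) + Module.finrank (ZMod p) M') ?_ (Y'.map f) (B'.map f)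
        (le_normalizer_iff.mpr fun b hb x hx => ?_)
        (Nat.Coprime.coprime_dvd_left hdB (hcop.coprime_dvd_right hdY))
        (Group.isSolvable_of_surjective (f.subgroupMap_surjective B')) R' hR'2
        (e ▸ ⟨g', hgY, rfl⟩) (e ▸ hall'.map f hBY' hcop' hsB) le_rfl
      · have := Nat.le_of_dvd Nat.card_pos hdY
        omega
      · obtain ⟨b, hb, rfl⟩ := hb
        obtain ⟨x, hx, rfl⟩ := hx
        exact ⟨b * x * b⁻¹, Coprime.conj_mem (hBY' hb) hx, by simp⟩
    haveI : Finite (M ⧸ W) := Finite.of_surjective W.mkQ W.mkQ_surjective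
    have hres := step (resAlg W) (Submodule.finrank_lt htop)
    have hquot := step (quotAlg W) (by
      have h1 := W.finrank_quotient_add_finrank
      have h2 : 0 < Module.finrank (ZMod p) W :=
        Nat.pos_of_ne_zero fun e => hbot (Submodule.finrank_eq_zero.mp e)
      omega)
    set f₁ := liftGL hHW (resAlg W) with hf₁
    set f₂ := liftGL hHW (quotAlg W) with hf₂
    set N := Y' ⊓ ((opIn p (Y'.map f₁)).comap f₁ ⊓ (opIn p (Y'.map f₂)).comap f₂) with hN
    have hNn : Y' ≤ normalizer (N : Set H) := le_normalizer_iff.mpr fun y hy x hx => by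
      refine ⟨Y'.mul_mem (Y'.mul_mem hy hx.1) (Y'.inv_mem hy), mem_comap.mpr ?_, mem_comap.mpr ?_⟩
      · rw [map_mul, map_mul, map_inv]
        exact Coprime.conj_mem (le_normalizer_opIn p _ ⟨y, hy, rfl⟩) hx.2.1
      · rw [map_mul, map_mul, map_inv]
        exact Coprime.conj_mem (le_normalizer_opIn p _ ⟨y, hy, rfl⟩) hx.2.2
    have hNp : IsPGroup p N := by
      rintro ⟨x, hx, hx1, hx2⟩
      obtain ⟨a, ha⟩ := isPGroup_opIn (p := p) _ ⟨f₁ x, hx1⟩
      obtain ⟨b, hb⟩ := isPGroup_opIn (p := p) _ ⟨f₂ x, hx2⟩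
      have ha' : f₁ (x ^ p ^ (a + b)) = 1 := by
        have h := congrArg Subtype.val ha
        simp only [SubgroupClass.coe_pow, OneMemClass.coe_one] at h
        rw [pow_add, pow_mul, map_pow, map_pow, h, one_pow]
      have hb' : f₂ (x ^ p ^ (a + b)) = 1 := by
        have h := congrArg Subtype.val hb
        simp only [SubgroupClass.coe_pow, OneMemClass.coe_one] at h
        rw [add_comm, pow_add, pow_mul, map_pow, map_pow, h, one_pow]
      set y : H := x ^ p ^ (a + b) with hy
      set D : Module.End (ZMod p) M := ((y : LinearMap.GeneralLinearGroup (ZMod p) M) : Module.End (ZMod p) M) - 1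
        with hD
      have hval : ((y : LinearMap.GeneralLinearGroup (ZMod p) M) : Module.End (ZMod p) M) = 1 + D := by
        rw [hD]; abel
      have hq : ∀ m : M, D m ∈ W := fun m => by
        rw [← Submodule.Quotient.mk_eq_zero, hD, LinearMap.sub_apply, Submodule.Quotient.mk_sub, sub_eq_zero]
        have h := congrArg Units.val hb'
        rw [hf₂, liftGL_val, Units.val_one] at h
        exact LinearMap.congr_fun h (Submodule.Quotient.mk m)
      have hr : ∀ w ∈ W, D w = 0 := fun w hw => by
        rw [hD, LinearMap.sub_apply, sub_eq_zero]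
        have h := congrArg Units.val ha'
        rw [hf₁, liftGL_val, Units.val_one] at h
        exact congrArg Subtype.val (LinearMap.congr_fun h ⟨w, hw⟩)
      have hD2 : D * D = 0 := LinearMap.ext fun m => hr _ (hq m)
      have hyp : (y : LinearMap.GeneralLinearGroup (ZMod p) M) ^ p = 1 := by
        refine Units.ext ?_
        rw [Units.val_pow_eq_pow_val, hval, Units.val_one]
        have hpow : ∀ k : ℕ, (1 + D) ^ k = 1 + (k : ZMod p) • D := by
          intro k
          induction k with
          | zero => simp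
          | succ k ihk =>
            rw [pow_succ, ihk, add_mul, one_mul, mul_add, mul_one, smul_mul_assoc, hD2, smul_zero, add_zero,
              Nat.cast_succ, add_smul, one_smul]
            abel
        rw [hpow, ZMod.natCast_self, zero_smul, add_zero]
      refine ⟨a + b + 1, Subtype.ext (Subtype.ext ?_)⟩
      rw [SubgroupClass.coe_pow, pow_succ p, pow_mul, ← hy, SubgroupClass.coe_pow]
      exact hyp
    have hgN : g' ∈ N := ⟨hgY, hres, hquot⟩
    have hle : N.map H.subtype ≤ opIn p Y := by
      refine le_opIn_of_normalized ?_ ?_ (hNp.map _)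
      · rintro _ ⟨x, hx, rfl⟩; exact hx.1
      · refine le_normalizer_iff.mpr fun y hy z hz => ?_
        obtain ⟨x, hx, rfl⟩ := hz
        exact ⟨⟨y, hYH hy⟩ * x * (⟨y, hYH hy⟩ : H)⁻¹, Coprime.conj_mem (hNn (hy : (⟨y, hYH hy⟩ : H) ∈ Y')) hx, rfl⟩
    exact hle ⟨g', hgN, rfl⟩

/-- A quadratic element in every invariant Sylow subgroup is in the core. -/
theorem quadratic_mem_opIn (hp : 5 ≤ p)
    (hBY : B ≤ normalizer (Y : Set GL)) (hcop : (Nat.card B).Coprime (Nat.card Y)) (hsolv : Group.IsSolvable B)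
    {R : End'} (hR : R * R = 0) (hgY : oneAdd R hR ∈ Y) (hall : InAll p Y B (oneAdd R hR)) :
    oneAdd R hR ∈ opIn p Y :=
  good_aux hp _ Y B hBY hcop hsolv R hR hgY hall le_rfl

end linear

end Cfsg.Agent.H63.Flavell
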