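import Cfsg.Agent.H63.Flavell.Main
import Cfsg.Agent.H49.KFunctor
import Cfsg.Agent.Coprime.Basic
import Cfsg.Agent.PGroups.Critical

/-!
A `p`-subgroup lying in every invariant Sylow subgroup has normal lower K-infinity subgroup.
-/

set_option autoImplicit false
set_option linter.style.haveILetI false

namespace Cfsg.Agent.H63.Flavell

open Cfsg.Agent.H88 Subgroup
open H70.Wielandt (opIn isPGroup_opIn)
open Cfsg.Agent.H40 (IsSylowOf)
open scoped commutatorElement

universe u

section Factor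

variable {G : Type u} [Group G] [Finite G] {p : ℕ} [Fact p.Prime]

/-- A `p`-subgroup centralizing the chief factors below `A` lies in `T`, inside a normal subgroup `N`
whose `p'`-elements centralizing `T` are central. -/
theorem le_of_centralBelow_rel (T A B N : Subgroup G) [T.Normal] [A.Normal] [N.Normal] (hBN : B ≤ N)
    (hBp : IsPGroup p B) (hT : IsPGroup p T) (hTmax : ∀ M : Subgroup G, M.Normal → IsPGroup p M → M ≤ T)
    (hAT : A ≤ T)
    (hC : ∀ y ∈ N, (orderOf y).Coprime p → y ∈ centralizer (T : Set G) → ∀ x ∈ N, Commute y x)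
    (hA5 : ∀ φ : MulAut ↥T, (orderOf φ).Coprime p → (∀ a : ↥T, (a : G) ∈ A → φ a = a) → φ = 1)
    (h : H49.CentralBelow B A) : B ≤ T := by
  set Y := normalClosure (B : Set G) with hY
  have hYN : Y ≤ N := normalClosure_le_normal hBN
  have hcen : ∀ n : Y, n ^ p ^ (orderOf (n : G)).factorization p ∈ center Y := by
    intro n
    set y : G := (n : G) ^ p ^ (orderOf (n : G)).factorization p with hy
    have hcop : (orderOf y).Coprime p := by
      have h0 : orderOf (n : G) ≠ 0 := (orderOf_pos _).ne'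
      rw [hy, orderOf_pow_of_dvd (pow_ne_zero _ (Fact.out : p.Prime).ne_zero) (Nat.ordProj_dvd _ p)]
      exact (Nat.coprime_ordCompl Fact.out h0).symm
    have hyA : H49.CentralBelow (zpowers y) A := h.normalClosure.zpowers_of_mem (pow_mem n.2 _)
    have hfix := H49.commute_of_centralBelow hcop A inferInstance (hT.to_le hAT) hyA
    have hφ : MulAut.conjNormal (H := T) y = 1 :=
      hA5 _ (hcop.coprime_dvd_left (orderOf_map_dvd _ y)) fun a ha => Subtype.ext (by
        rw [MulAut.conjNormal_apply, hfix _ ha, mul_inv_cancel_right])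
    have hyC : y ∈ centralizer (T : Set G) := mem_centralizer_iff.mpr fun t ht => by
      have h1 := congrArg (fun φ : MulAut ↥T => ((φ ⟨t, ht⟩ : ↥T) : G)) hφ
      simp only [MulAut.conjNormal_apply, MulAut.one_apply] at h1
      exact (mul_inv_eq_iff_eq_mul.mp h1).symm
    refine mem_center_iff.mpr fun m => Subtype.ext ?_
    exact (hC y (pow_mem (hYN n.2) _) hcop hyC m (hYN m.2)).eq.symm
  have hq : IsPGroup p (Y ⧸ center Y) := by
    intro q
    obtain ⟨n, rfl⟩ := QuotientGroup.mk'_surjective _ q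
    exact ⟨_, by rw [← map_pow]; exact (QuotientGroup.eq_one_iff _).mpr (hcen n)⟩
  haveI : Group.IsNilpotent (Y ⧸ center Y) := hq.isNilpotent
  haveI : Group.IsNilpotent Y :=
    Subgroup.isNilpotent_of_ker_le_center (QuotientGroup.mk' _) (QuotientGroup.ker_mk' _).le
  obtain ⟨P, hP⟩ := (hBp.comap_subtype (K := Y)).exists_le_sylow
  haveI : (P : Subgroup Y).Characteristic :=
    P.characteristic_of_normal (Sylow.normal_of_normalizerCondition Group.normalizerCondition_of_isNilpotent P)
  haveI : ((P : Subgroup Y).map Y.subtype).Normal := ConjAct.normal_of_characteristic_of_normal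
  intro b hb
  refine hTmax ((P : Subgroup Y).map Y.subtype) inferInstance (P.isPGroup'.map _) ?_
  exact ⟨⟨b, subset_normalClosure hb⟩, hP hb, rfl⟩

/-- If the lower K-infinity subgroup of `S` is not normal, an element of `S` acts quadratically and
non-trivially on a chief factor. -/
theorem kInf_factor (S T A N : Subgroup G) [T.Normal] [A.Normal] [N.Normal] (hTS : T ≤ S) (hSN : S ≤ N)
    (hT : IsPGroup p T) (hTmax : ∀ M : Subgroup G, M.Normal → IsPGroup p M → M ≤ T) (hAT : A ≤ T)
    (hTA : ⁅T, A⁆ ≤ H49.zc A) (hA2 : ⁅A, A⁆ ≤ centralizer (A : Set G))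
    (hA5 : ∀ φ : MulAut ↥T, (orderOf φ).Coprime p → (∀ a : ↥T, (a : G) ∈ A → φ a = a) → φ = 1)
    (hC : ∀ y ∈ N, (orderOf y).Coprime p → y ∈ centralizer (T : Set G) → ∀ x ∈ N, Commute y x)
    (hSp : IsPGroup p S) (hK : ¬ (inducedFunctor kInfLower S).Normal) :
    ∃ g ∈ S, ∃ U V : Subgroup G, IsChiefFactor U V ∧ IsPGroup p U ∧
      ⁅⁅U, zpowers g⁆, zpowers g⁆ ≤ V ∧ ¬ ⁅U, zpowers g⁆ ≤ V := by
  classical
  have hsub : Function.Injective S.subtype := S.subtype_injective
  have hAS : A ≤ S := hAT.trans hTS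
  have eA : (A.subgroupOf S).map S.subtype = A := map_subgroupOf_eq_of_le hAS
  have eT : (T.subgroupOf S).map S.subtype = T := map_subgroupOf_eq_of_le hTS
  have eZ : (H49.zc (A.subgroupOf S)).map S.subtype = H49.zc A := by rw [H49.map_zc _ hsub, eA]
  have hTA' : ⁅T.subgroupOf S, A.subgroupOf S⁆ ≤ H49.zc (A.subgroupOf S) := by
    rw [← map_le_map_iff_of_injective hsub, map_commutator, eA, eT, eZ]; exact hTA
  have hA' : A.subgroupOf S ∈ classTwoSubgroups ↥S := by
    rw [← H49.classTwo_map S.subtype hsub, eA]; exact hA2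
  rcases H49.k_dichotomy (T.subgroupOf S) (A.subgroupOf S) hTA' hA' with h | ⟨g, hgT, h1, h2⟩ | h
  · obtain ⟨e1, -⟩ := H49.inducedFunctor_kInf_eq hTS h
    rw [e1] at hK
    exact absurd (H49.inducedFunctor_kInf_normal T).1 hK
  · have hg1 : ⁅⁅A, zpowers (g : G)⁆, zpowers (g : G)⁆ ≤ H49.zc A := by
      have := map_mono (f := S.subtype) h1
      rwa [map_commutator, map_commutator, MonoidHom.map_zpowers, eA, eZ] at this
    have hg2 : ⁅⁅H49.zc A, zpowers (g : G)⁆, zpowers (g : G)⁆ = ⊥ := by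
      have := congrArg (Subgroup.map S.subtype) h2
      rwa [map_commutator, map_commutator, MonoidHom.map_zpowers, eZ, Subgroup.map_bot] at this
    have hnc : ¬ H49.CentralBelow (zpowers (g : G)) A := fun h =>
      hgT (le_of_centralBelow_rel T A _ N (zpowers_le.mpr (hSN g.2)) (hSp.to_le (zpowers_le.mpr g.2)) hT hTmax hAT
        hC hA5 h (mem_zpowers _))
    simp only [H49.CentralBelow, not_forall] at hnc
    obtain ⟨U, V, hc, hU, hm⟩ := hnc
    exact ⟨g, g.2, U, V, hc, hT.to_le (hU.trans hAT), H49.quad_factor_of hg1 hg2 hc hU, hm⟩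
  · obtain ⟨B, hBT, hB2, hAB, -, hX⟩ := h
    set B' := B.map S.subtype with hB'
    have hBS : B' ≤ S := map_subtype_le B
    have hB2' : B' ∈ classTwoSubgroups G := (H49.classTwo_map S.subtype hsub B).mpr hB2
    have hAB' : ⁅A, B'⁆ ≤ B' := by
      rw [← eA, hB', ← map_commutator]
      exact map_mono (le_normalizer_iff_commutator_le_right.mp hAB)
    have hBB : ⁅⁅B', B'⁆, B'⁆ = ⊥ := commutator_eq_bot_iff_le_centralizer.mpr hB2'
    have hX' : ∀ X : Subgroup G, X.Normal → X ≤ A → ⁅B', ⁅X, X⁆⁆ = ⊥ → ⁅⁅X, B'⁆, B'⁆ = ⊥ := by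
      intro X hXn hXA hXX
      haveI := hXn
      rw [← map_subgroupOf_eq_of_le (hXA.trans hAS), hB', ← map_commutator, ← map_commutator] at hXX
      have := hX (X.subgroupOf S) inferInstance (fun x hx => hXA hx)
        ((map_eq_bot_iff_of_injective _ hsub).mp hXX)
      rw [← map_subgroupOf_eq_of_le (hXA.trans hAS), hB', ← map_commutator, ← map_commutator, this,
        Subgroup.map_bot]
    have hnc : ¬ H49.CentralBelow B' A := fun h => hBT fun b hb =>
      le_of_centralBelow_rel T A B' N (hBS.trans hSN) (hSp.to_le hBS) hT hTmax hAT hC hA5 h (mem_map_of_mem S.subtype hb)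
    obtain ⟨g, hg, U, V, hc, hU, hq, hm⟩ := H49.exists_quadratic_factor A B' (hT.to_le hAT)
      (commutator_eq_bot_iff_le_centralizer.mpr hA2) hAB' hBB hX' hnc
    exact ⟨g, hBS hg, U, V, hc, hT.to_le (hU.trans hAT), hq, hm⟩

end Factor

section Rep

variable {G : Type u} [Group G] (p : ℕ)

/-- An elementary abelian section of a group. -/
structure Elem where
  /-- the top -/
  U : Subgroup G
  /-- the bottom -/
  V : Subgroup G
  normalU : U.Normal
  normalV : V.Normal
  comm : ⁅U, U⁆ ≤ V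
  pow_mem : ∀ u ∈ U, u ^ p ∈ V

variable {p} (L : Elem (G := G) p)

instance Elem.instNormalU : L.U.Normal := L.normalU

instance Elem.instNormalV : L.V.Normal := L.normalV

instance Elem.instCommGroupQuot : CommGroup (L.U ⧸ L.V.subgroupOf L.U) where
  toGroup := inferInstance
  mul_comm := by
    intro a b
    induction a using QuotientGroup.induction_on with
    | H a =>
      induction b using QuotientGroup.induction_on with
      | H b =>
        rw [← QuotientGroup.mk_mul, ← QuotientGroup.mk_mul, QuotientGroup.eq, mem_subgroupOf]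
        have := L.comm (commutator_mem_commutator (inv_mem b.2) (inv_mem a.2))
        simpa [commutatorElement_def, mul_assoc] using this

/-- The module. -/
abbrev Elem.M : Type u := Additive (L.U ⧸ L.V.subgroupOf L.U)

instance Elem.instModuleM : Module (ZMod p) L.M := AddCommGroup.zmodModule (by
  intro x
  obtain ⟨y, hy⟩ := QuotientGroup.mk_surjective (Additive.toMul x)
  apply Additive.toMul.injective
  rw [toMul_nsmul, ← hy, ← QuotientGroup.mk_pow, toMul_zero, QuotientGroup.eq_one_iff]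
  exact L.pow_mem _ y.2)

/-- The projection. -/
def Elem.toV (y : L.U) : L.M := Additive.ofMul (y : L.U ⧸ L.V.subgroupOf L.U)

theorem Elem.toV_surjective : Function.Surjective L.toV := fun v => by
  obtain ⟨y, hy⟩ := QuotientGroup.mk_surjective (Additive.toMul v)
  exact ⟨y, hy⟩

theorem Elem.toV_mul (a b : L.U) : L.toV (a * b) = L.toV a + L.toV b := rfl

theorem Elem.toV_inv (a : L.U) : L.toV a⁻¹ = -L.toV a := rfl

theorem Elem.toV_eq_zero_iff {a : L.U} : L.toV a = 0 ↔ (a : G) ∈ L.V :=
  (QuotientGroup.eq_one_iff a).trans mem_subgroupOf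

/-- Conjugation on the section. -/
def Elem.conjQuot (g : G) : L.U ⧸ L.V.subgroupOf L.U →* L.U ⧸ L.V.subgroupOf L.U :=
  QuotientGroup.map _ _ (MulAut.conjNormal g).toMonoidHom fun y hy => by
    simpa [mem_subgroupOf, MulAut.conjNormal_apply] using L.normalV.conj_mem _ hy g

/-- The representation. -/
noncomputable def Elem.ρ : G →* LinearMap.GeneralLinearGroup (ZMod p) L.M :=
  MonoidHom.toHomUnits
    { toFun := fun g => AddMonoidHom.toZModLinearMap p (MonoidHom.toAdditive (L.conjQuot g))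
      map_one' := by
        refine LinearMap.ext fun v => ?_
        obtain ⟨a, rfl⟩ := L.toV_surjective v
        change L.toV (MulAut.conjNormal (1 : G) a) = L.toV a
        rw [map_one, MulAut.one_apply]
      map_mul' := fun g h => by
        refine LinearMap.ext fun v => ?_
        obtain ⟨a, rfl⟩ := L.toV_surjective v
        change L.toV (MulAut.conjNormal (g * h) a) = L.toV (MulAut.conjNormal g (MulAut.conjNormal h a))
        rw [map_mul, MulAut.mul_apply] }

theorem Elem.sub_one_apply (g : G) (a : L.U) :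
    ((L.ρ g : Module.End (ZMod p) L.M) - 1) (L.toV a) =
      L.toV ⟨⁅g, (a : G)⁆, L.U.mul_mem (L.normalU.conj_mem _ a.2 g) (L.U.inv_mem a.2)⟩ := by
  rw [LinearMap.sub_apply, Module.End.one_apply, sub_eq_add_neg, ← L.toV_inv]
  change L.toV (MulAut.conjNormal g a) + L.toV a⁻¹ = _
  rw [← L.toV_mul]
  rfl

end Rep

variable {G : Type u} [Group G] [Finite G] {p : ℕ} [Fact p.Prime]

/-- A `p`-subgroup lying in every invariant Sylow subgroup of a constrained normal subgroup. -/
theorem kInf_normal (hp : 5 ≤ p) (N B T S : Subgroup G) [N.Normal] [T.Normal] (hNB : N ⊔ B = ⊤)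
    (hcop : (Nat.card B).Coprime (Nat.card N)) (hsolv : Group.IsSolvable B) (hTS : T ≤ S) (hSN : S ≤ N)
    (hT : IsPGroup p T) (hTmax : ∀ M : Subgroup G, M.Normal → IsPGroup p M → M ≤ T)
    (hC : ∀ y ∈ N, (orderOf y).Coprime p → y ∈ centralizer (T : Set G) → ∀ x ∈ N, Commute y x)
    (hSp : IsPGroup p S) (hS : ∀ s ∈ S, InAll p N B s) :
    (inducedFunctor kInfLower S).Normal := by
  by_contra hK
  obtain ⟨H, hHc, -, hHT, hHC⟩ := PGroups.exists_critical (p := p) hT
  set A : Subgroup G := H.map T.subtype with hA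
  haveI := hHc
  haveI : A.Normal := ConjAct.normal_of_characteristic_of_normal
  have hAT : A ≤ T := map_subtype_le H
  have eZ : (H49.zc H).map T.subtype = H49.zc A := H49.map_zc T.subtype T.subtype_injective H
  have hTA : ⁅T, A⁆ ≤ H49.zc A := by
    have := map_mono (f := T.subtype) hHT
    rw [map_commutator, ← MonoidHom.range_eq_map, range_subtype, commutator_comm] at this
    exact this.trans eZ.le
  have hA2 : ⁅A, A⁆ ≤ centralizer (A : Set G) := ((commutator_mono hAT le_rfl).trans hTA).trans inf_le_right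
  have hA5 : ∀ φ : MulAut ↥T, (orderOf φ).Coprime p → (∀ a : ↥T, (a : G) ∈ A → φ a = a) → φ = 1 :=
    fun φ hφ hfix => PGroups.mulAut_eq_one_of_fixed hT H hHC φ hφ
      fun x hx => hfix x (mem_map_of_mem T.subtype hx)
  obtain ⟨g, hgS, U, V, hc, hUp, hq, hm⟩ := kInf_factor S T A N hTS hSN hT hTmax hAT hTA hA2 hA5 hC hSp hK
  obtain ⟨hpow, hcomm⟩ := H49.chief_pow_mem hc hUp
  obtain ⟨L, rfl, rfl⟩ : ∃ L : Elem (G := G) p, L.U = U ∧ L.V = V :=
    ⟨⟨U, V, hc.2.1, hc.2.2.1, hcomm, hpow⟩, rfl, rfl⟩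
  haveI : Finite L.M := Finite.of_surjective L.toV L.toV_surjective
  set Y := N.map L.ρ with hY
  set B' := B.map L.ρ with hB'
  set R : Module.End (ZMod p) L.M := (L.ρ g : Module.End (ZMod p) L.M) - 1 with hR
  have hR2 : R * R = 0 := LinearMap.ext fun v => by
    obtain ⟨a, rfl⟩ := L.toV_surjective v
    rw [Module.End.mul_apply, hR, L.sub_one_apply, L.sub_one_apply, LinearMap.zero_apply, L.toV_eq_zero_iff]
    refine hq ?_
    rw [commutator_comm _ (zpowers g), commutator_comm L.U]
    exact commutator_mem_commutator (mem_zpowers g) (commutator_mem_commutator (mem_zpowers g) a.2)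
  have hgR : L.ρ g = oneAdd R hR2 := Units.ext (by rw [oneAdd_val, hR]; abel)
  have hBN : B ≤ normalizer (N : Set G) := by rw [normalizer_eq_top]; exact le_top
  have hgY : oneAdd R hR2 ∈ Y := hgR ▸ mem_map_of_mem L.ρ (hSN hgS)
  have hBY : B' ≤ normalizer (Y : Set _) := le_normalizer_iff.mpr fun b hb y hy => by
    obtain ⟨b, hb, rfl⟩ := hb
    obtain ⟨y, hy, rfl⟩ := hy
    exact ⟨b * y * b⁻¹, Coprime.conj_mem (hBN hb) hy, by simp⟩
  have hcore := quadratic_mem_opIn hp hBY
    (Nat.Coprime.coprime_dvd_left (card_map_dvd _ _) (hcop.coprime_dvd_right (card_map_dvd _ _)))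
    (Group.isSolvable_of_surjective (L.ρ.subgroupMap_surjective B)) hR2 hgY
    (hgR ▸ (hS g hgS).map L.ρ hBN hcop hsolv)
  have hirr : Cfsg.IsIrreducibleFor (Y ⊔ B') := by
    obtain ⟨u, hu, huV⟩ := SetLike.exists_of_lt hc.1
    refine ⟨⟨L.toV ⟨u, hu⟩, fun e => huV (L.toV_eq_zero_iff.mp e)⟩, fun W hW => ?_⟩
    have hW' : ∀ (x : G), ∀ w ∈ W, (L.ρ x : Module.End (ZMod p) L.M) w ∈ W := fun x w hw => by
      refine hW _ ?_ w hw
      rw [hY, hB', ← Subgroup.map_sup, hNB]
      exact mem_map_of_mem L.ρ (mem_top x)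
    let Q : Subgroup ↥L.U :=
      { carrier := {a | L.toV a ∈ W}
        one_mem' := W.zero_mem
        mul_mem' := fun {a b} ha hb => W.add_mem ha hb
        inv_mem' := fun {a} ha => W.neg_mem ha }
    have hQn : (Q.map L.U.subtype).Normal := ⟨by
      rintro _ ⟨a, ha, rfl⟩ x
      exact ⟨MulAut.conjNormal x a, hW' x _ ha, rfl⟩⟩
    have hVQ : L.V ≤ Q.map L.U.subtype := fun v hv => by
      refine ⟨⟨v, hc.1.le hv⟩, ?_, rfl⟩
      show L.toV ⟨v, _⟩ ∈ W
      rw [(L.toV_eq_zero_iff (a := ⟨v, hc.1.le hv⟩)).mpr hv]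
      exact W.zero_mem
    rcases hc.2.2.2 _ hQn hVQ (map_subtype_le Q) with h | h
    · refine Or.inl ((Submodule.eq_bot_iff W).mpr fun w hw => ?_)
      obtain ⟨a, rfl⟩ := L.toV_surjective w
      exact L.toV_eq_zero_iff.mpr (h.le ⟨a, hw, rfl⟩)
    · refine Or.inr (Submodule.eq_top_iff'.mpr fun w => ?_)
      obtain ⟨a, rfl⟩ := L.toV_surjective w
      obtain ⟨a', ha', e⟩ := h.ge a.2
      exact (Subtype.ext e : a' = a) ▸ ha'
  have hsemi : Semi Y := (semi_of_irreducible hirr).normal le_sup_left fun h hh x hx =>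
    (mem_normalizer_iff.mp (sup_le le_normalizer hBY hh) x).mp hx
  have hbot : opIn p Y = ⊥ := eq_bot_of_semi hsemi (H70.Wielandt.opIn_le p Y)
    (H70.Wielandt.le_normalizer_opIn p Y) (isPGroup_opIn Y)
  rw [hbot, mem_bot, ← hgR] at hcore
  refine hm ?_
  have hle : zpowers g ≤ L.ρ.ker := zpowers_le.mpr hcore
  rw [commutator_comm]
  refine commutator_le.mpr fun x hx a ha => ?_
  have h0 : ((L.ρ x : Module.End (ZMod p) L.M) - 1) (L.toV ⟨a, ha⟩) = 0 := by
    rw [MonoidHom.mem_ker.mp (hle hx), Units.val_one, sub_self, LinearMap.zero_apply]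
  rw [L.sub_one_apply, L.toV_eq_zero_iff] at h0
  exact h0

/-- The previous statement inside an ambient group. -/
theorem kInf_normal_in {X : Type u} [Group X] [Finite X] (hp : 5 ≤ p) (N R S : Subgroup X)
    (hRN : R ≤ normalizer (N : Set X)) (hcop : (Nat.card R).Coprime (Nat.card N))
    (hsolv : Group.IsSolvable R) (hRp : (Nat.card R).Coprime p) (hOS : opIn p N ≤ S) (hSN : S ≤ N)
    (hSp : IsPGroup p S)
    (hC : ∀ y ∈ N, (orderOf y).Coprime p → y ∈ centralizer (opIn p N : Set X) → ∀ x ∈ N, Commute y x)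
    (hS : ∀ s ∈ S, InAll p N R s) :
    N ≤ normalizer ((inducedFunctor kInfLower S : Subgroup X) : Set X) := by
  set H := N ⊔ R with hH
  have hNH : N ≤ H := le_sup_left
  have hRH : R ≤ H := le_sup_right
  set N' : Subgroup ↥H := N.subgroupOf H with hN'
  set B : Subgroup ↥H := R.subgroupOf H with hB
  set T : Subgroup ↥H := (opIn p N).subgroupOf H with hT
  have hHN : H ≤ normalizer (N : Set X) := sup_le le_normalizer hRN
  have hHO : H ≤ normalizer (opIn p N : Set X) := le_normalizer_opIn_of hHN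
  haveI : N'.Normal := normal_subgroupOf_of_le_normalizer hHN
  haveI : T.Normal := normal_subgroupOf_of_le_normalizer hHO
  have hNB : N' ⊔ B = ⊤ := by rw [hN', hB, ← subgroupOf_sup hNH hRH, subgroupOf_self]
  have hcN : Nat.card N' = Nat.card N := Nat.card_congr (subgroupOfEquivOfLe hNH).toEquiv
  have hcB : Nat.card B = Nat.card R := Nat.card_congr (subgroupOfEquivOfLe hRH).toEquiv
  have hsolvB : Group.IsSolvable B :=
    Group.isSolvable_of_isSolvable_injective (f := (subgroupOfEquivOfLe hRH).toMonoidHom)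
      (subgroupOfEquivOfLe hRH).injective
  have hON : opIn p N ≤ N := H70.Wielandt.opIn_le p N
  have hconj : ∀ {x : X} (hx : x ∈ H), (MulAut.conj x).toMonoidHom.comp H.subtype =
      H.subtype.comp (MulAut.conj (⟨x, hx⟩ : ↥H)).toMonoidHom := fun _ => rfl
  have hTmax : ∀ M : Subgroup ↥H, M.Normal → IsPGroup p ↥M → M ≤ T := by
    intro M hMn hMp x hx
    have hx' : (x : X) ∈ M.map H.subtype := mem_map_of_mem H.subtype hx
    have hMN : M.map H.subtype ≤ N := by
      rintro _ ⟨y, hy, rfl⟩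
      obtain ⟨k, hk⟩ := hMp ⟨y, hy⟩
      have hk' : y ^ p ^ k = 1 := by simpa using congrArg Subtype.val hk
      have e1 : (⊤ : Subgroup ↥H).map (QuotientGroup.mk' N') = B.map (QuotientGroup.mk' N') := by
        rw [← hNB, Subgroup.map_sup, (Subgroup.map_eq_bot_iff N').mpr (QuotientGroup.ker_mk' N').ge, bot_sup_eq]
      obtain ⟨b, hb, eb⟩ : QuotientGroup.mk' N' y ∈ B.map (QuotientGroup.mk' N') :=
        e1 ▸ mem_map_of_mem _ (mem_top y)
      have h1 : orderOf (QuotientGroup.mk' N' y) ∣ p ^ k :=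
        (orderOf_map_dvd _ y).trans (orderOf_dvd_of_pow_eq_one hk')
      have h2 : orderOf (QuotientGroup.mk' N' y) ∣ Nat.card R := by
        rw [← eb, ← hcB]
        exact (orderOf_map_dvd _ b).trans (B.orderOf_dvd_natCard hb)
      have h3 := orderOf_eq_one_iff.mp (Nat.eq_one_of_dvd_coprimes (hRp.pow_right k).symm h1 h2)
      exact (QuotientGroup.eq_one_iff y).mp h3
    refine H70.Wielandt.le_opIn_of_normalized hMN (fun z hz => ?_) (hMp.map _) hx'
    refine Coprime.mem_normalizer_of_map_conj ?_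
    rw [Subgroup.map_map, hconj (hNH hz), ← Subgroup.map_map, Coprime.map_conj_eq
      (by rw [normalizer_eq_top]; exact mem_top _)]
  have key := kInf_normal hp N' B T (S.subgroupOf H) hNB (by rw [hcB, hcN]; exact hcop) hsolvB
    (fun x hx => hOS hx) (fun x hx => hSN hx)
    ((isPGroup_opIn (p := p) N).comap_of_injective H.subtype H.subtype_injective) hTmax
    (fun y hy hyc hyT x hx => Subtype.ext (hC y hy (by rwa [Subgroup.orderOf_coe])
      (mem_centralizer_iff.mpr fun t ht => congrArg Subtype.val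
        (mem_centralizer_iff.mp hyT ⟨t, hNH (hON ht)⟩ ht)) x hx))
    (hSp.comap_of_injective H.subtype H.subtype_injective)
    (fun s hs U hU hBU => by
      have h1 := sylowOf_map_hom H.subtype hU
      rw [hN', map_subgroupOf_eq_of_le hNH] at h1
      obtain ⟨y, hy, e⟩ := hS s hs (U.map H.subtype) h1 fun a ha => Coprime.mem_normalizer_of_map_conj (by
        rw [Subgroup.map_map, hconj (hRH ha), ← Subgroup.map_map,
          Coprime.map_conj_eq (hBU (show (⟨a, hRH ha⟩ : ↥H) ∈ B from ha))])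
      exact (Subtype.ext e : y = s) ▸ hy)
  exact hNH.trans (H49.kLike_lower.normal_of_subgroupOf (hSN.trans hNH) key)

end Cfsg.Agent.H63.Flavell
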