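import Cfsg.Agent.H42.Eqv.Dual

/-!
A pair of square zero endomorphisms `T`, `F` with `T F T = T` and `F T F = F`: the three
idempotents, the special linear group and the torus it carries, and the weights of the torus.
-/

set_option autoImplicit false
set_option linter.unusedSectionVars false

namespace Cfsg.Agent.H63.Flavell

open Cfsg.Agent.H88 Matrix
open Cfsg.Agent.H42.Eqv (pairVal)

universe u v

variable {k : Type v} [Field k] {M : Type u} [AddCommGroup M] [Module k M]

/-! ### Ranks -/

section rank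

variable [FiniteDimensional k M]

theorem rk_add_le (X Y : Module.End k M) : rk (X + Y) ≤ rk X + rk Y :=
  (Submodule.finrank_mono (LinearMap.range_add_le X Y)).trans
    (Submodule.finrank_add_le_finrank_add_finrank _ _)

theorem rk_mul_left (X Y : Module.End k M) : rk (X * Y) ≤ rk X :=
  rk_le_of_range_le (LinearMap.range_comp_le_range _ _)

theorem rk_mul_right (X Y : Module.End k M) : rk (X * Y) ≤ rk Y := by
  rw [rk, rk, Module.End.mul_eq_comp, LinearMap.range_comp]
  exact Submodule.finrank_map_le _ _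

theorem rk_corner (D e f : Module.End k M) (h : f * D * e = 0) : rk (D * e) + rk (f * D) ≤ rk D := by
  set φ := f.domRestrict (LinearMap.range D) with hφ
  have hr : LinearMap.range φ = LinearMap.range (f * D) := by
    rw [hφ, LinearMap.domRestrict, LinearMap.range_comp, Submodule.range_subtype,
      Module.End.mul_eq_comp, LinearMap.range_comp]
  have hk : rk (D * e) ≤ Module.finrank k (LinearMap.ker φ) := by
    have hle : LinearMap.range (D * e) ≤ (LinearMap.ker φ).map (LinearMap.range D).subtype := by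
      rintro _ ⟨m, rfl⟩
      refine ⟨⟨D (e m), LinearMap.mem_range_self D _⟩, ?_, rfl⟩
      show f (D (e m)) = 0
      exact congrArg (fun X : Module.End k M => X m) h
    exact (Submodule.finrank_mono hle).trans (Submodule.finrank_map_le _ _)
  have := LinearMap.finrank_range_add_finrank_ker φ
  rw [hr] at this
  simp only [rk] at hk ⊢
  omega

end rank

/-! ### Quadratic maps keeping a root space -/

/-- A square zero `R` whose two conjugates of `T` have the kernel and image of `T` commutes with `T`. -/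
theorem commute_of_squeeze {R T : Module.End k M} (hR : R * R = 0)
    (hK : R * T * R ≠ 0 → LinearMap.range T ≤ LinearMap.range (R * T * R))
    (hC : R * T - T * R ≠ 0 → LinearMap.range T ≤ LinearMap.range (R * T - T * R) ∧
      LinearMap.ker (R * T - T * R) ≤ LinearMap.ker T) :
    R * T = T * R := by
  have happ : ∀ {X Y : Module.End k M}, X * Y = 0 → ∀ {Z : Module.End k M},
      LinearMap.range Z ≤ LinearMap.range Y → X * Z = 0 := fun {X Y} h {Z} hle =>
    apply_eq_zero_of_range_le_ker (hle.trans (by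
      rintro _ ⟨m, rfl⟩
      exact congrArg (fun A : Module.End k M => A m) h))
  have k0 : R * T * R = 0 := by
    by_contra h
    have hRT : R * T = 0 := happ (X := R) (Y := R * T * R)
      (by rw [← mul_assoc, ← mul_assoc, hR, zero_mul, zero_mul]) (hK h)
    exact h (by rw [hRT, zero_mul])
  by_contra hne
  obtain ⟨h1, h2⟩ := hC (sub_ne_zero.mpr hne)
  have hRT : R * T = 0 := happ (X := R) (Y := R * T - T * R)
    (by rw [mul_sub, ← mul_assoc, hR, zero_mul, ← mul_assoc, k0, sub_zero]) h1
  have hCR : (R * T - T * R) * R = 0 := by rw [sub_mul, k0, mul_assoc, hR, mul_zero, sub_zero]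
  have hTR : T * R = 0 := apply_eq_zero_of_range_le_ker (le_trans (by
    rintro _ ⟨m, rfl⟩
    exact congrArg (fun A : Module.End k M => A m) hCR) h2)
  exact hne (hRT.trans hTR.symm)

/-! ### The pairs -/

/-- A normalized pair. -/
structure Pr (T F : Module.End k M) : Prop where
  sqT : T * T = 0
  sqF : F * F = 0
  TFT : T * F * T = T
  FTF : F * T * F = F

/-- The idempotent onto the part moved by neither. -/
def mid (T F : Module.End k M) : Module.End k M := 1 - T * F - F * T

theorem mid_comm (T F : Module.End k M) : mid F T = mid T F := by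
  simp only [mid]; abel

theorem split_one (T F : Module.End k M) : T * F + F * T + mid T F = 1 := by
  simp only [mid]; abel

theorem split_left (T F Z : Module.End k M) : Z = T * F * Z + F * T * Z + mid T F * Z := by
  rw [← add_mul, ← add_mul, split_one, one_mul]

theorem split_right (T F Z : Module.End k M) : Z = Z * (T * F) + Z * (F * T) + Z * mid T F := by
  rw [← mul_add, ← mul_add, split_one, mul_one]

namespace Pr

variable {T F : Module.End k M} (d : Pr T F)
include d

theorem symm : Pr F T := ⟨d.sqF, d.sqT, d.FTF, d.TFT⟩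

theorem conj (g : LinearMap.GeneralLinearGroup k M) : Pr (conjE g T) (conjE g F) :=
  ⟨by rw [conjE_mul, d.sqT, conjE_zero], by rw [conjE_mul, d.sqF, conjE_zero],
    by rw [conjE_mul, conjE_mul, d.TFT], by rw [conjE_mul, conjE_mul, d.FTF]⟩

theorem smul {a : k} (ha : a ≠ 0) : Pr (a • T) (a⁻¹ • F) :=
  ⟨smul_sq T d.sqT a, smul_sq F d.sqF a⁻¹,
    by simp only [smul_mul_smul_comm, d.TFT, mul_inv_cancel₀ ha, one_mul],
    by simp only [smul_mul_smul_comm, d.FTF, inv_mul_cancel₀ ha, one_mul]⟩

theorem sum_idem : (T * F + F * T) * (T * F + F * T) = T * F + F * T := by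
  simp only [add_mul, mul_add]
  simp only [← mul_assoc, d.TFT, d.FTF]
  simp [mul_assoc, d.sqT, d.sqF]

theorem ne_zero (h : T ≠ 0) : F ≠ 0 := fun e => h (by rw [← d.TFT, e, mul_zero, zero_mul])

theorem not_nilpotent (h : T ≠ 0) : ¬ IsNilpotent (T * F + F * T) := by
  rintro ⟨n, hn⟩
  have h0 : T * F + F * T = 0 := by
    rcases n with _ | n
    · simpa using congrArg (· * (T * F + F * T)) hn
    · rwa [IsIdempotentElem.pow_succ_eq n d.sum_idem] at hn
  have h1 : T * (T * F + F * T) = T := by
    rw [mul_add, ← mul_assoc, d.sqT, zero_mul, zero_add, ← mul_assoc, d.TFT]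
  rw [h0, mul_zero] at h1
  exact h h1.symm

theorem T_mid : T * mid T F = 0 := by
  rw [mid, mul_sub, mul_sub, mul_one, ← mul_assoc, d.sqT, zero_mul, sub_zero, ← mul_assoc, d.TFT, sub_self]

theorem mid_T : mid T F * T = 0 := by
  rw [mid, sub_mul, sub_mul, one_mul, d.TFT, sub_self, zero_sub, mul_assoc, d.sqT, mul_zero, neg_zero]

theorem F_mid : F * mid T F = 0 := by rw [← mid_comm]; exact d.symm.T_mid

theorem mid_F : mid T F * F = 0 := by rw [← mid_comm]; exact d.symm.mid_T

theorem ep_sq : T * F * (T * F) = T * F := by rw [← mul_assoc, d.TFT]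

theorem em_sq : F * T * (F * T) = F * T := d.symm.ep_sq

theorem ep_em : T * F * (F * T) = 0 := by
  rw [mul_assoc, ← mul_assoc F F, d.sqF, zero_mul, mul_zero]

theorem em_ep : F * T * (T * F) = 0 := d.symm.ep_em

theorem ep_mid : T * F * mid T F = 0 := by rw [mul_assoc, d.F_mid, mul_zero]

theorem mid_ep : mid T F * (T * F) = 0 := by rw [← mul_assoc, d.mid_T, zero_mul]

theorem em_mid : F * T * mid T F = 0 := by rw [mul_assoc, d.T_mid, mul_zero]

theorem mid_em : mid T F * (F * T) = 0 := by rw [← mul_assoc, d.mid_F, zero_mul]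

theorem mid_sq : mid T F * mid T F = mid T F := by
  nth_rewrite 1 [mid]
  rw [sub_mul, sub_mul, one_mul, d.ep_mid, d.em_mid, sub_zero, sub_zero]

end Pr

/-- The value at a matrix. -/
def pVal (T F : Module.End k M) (m : Matrix (Fin 2) (Fin 2) k) : Module.End k M :=
  pairVal T F m + mid T F

theorem Pr.pairVal_mul {T F : Module.End k M} (d : Pr T F) (m n : Matrix (Fin 2) (Fin 2) k) :
    pairVal T F m * pairVal T F n = pairVal T F (m * n) := by
  have a1 : T * F * (T * F) = T * F := d.ep_sq
  have a2 : T * F * T = T := d.TFT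
  have a3 : T * F * F = 0 := by rw [mul_assoc, d.sqF, mul_zero]
  have a4 : T * F * (F * T) = 0 := d.ep_em
  have b1 : T * (T * F) = 0 := by rw [← mul_assoc, d.sqT, zero_mul]
  have b4 : T * (F * T) = T := by rw [← mul_assoc, a2]
  have c1 : F * (T * F) = F := by rw [← mul_assoc, d.FTF]
  have c4 : F * (F * T) = 0 := by rw [← mul_assoc, d.sqF, zero_mul]
  have e1 : F * T * (T * F) = 0 := d.em_ep
  have e2 : F * T * T = 0 := by rw [mul_assoc, d.sqT, mul_zero]
  have e3 : F * T * F = F := d.FTF
  have e4 : F * T * (F * T) = F * T := d.em_sq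
  simp only [pairVal, add_mul, mul_add, smul_mul_smul_comm, a1, a2, a3, a4, b1, d.sqT, b4, c1, c4, d.sqF, e1,
    e2, e3, e4, smul_zero, add_zero, zero_add, Matrix.mul_apply, Fin.sum_univ_two, add_smul]
  abel

theorem Pr.pairVal_mid {T F : Module.End k M} (d : Pr T F) (m : Matrix (Fin 2) (Fin 2) k) :
    pairVal T F m * mid T F = 0 ∧ mid T F * pairVal T F m = 0 := by
  simp only [pairVal, add_mul, mul_add, smul_mul_assoc, mul_smul_comm, d.T_mid, d.mid_T, d.F_mid, d.mid_F,
    d.ep_mid, d.mid_ep, d.em_mid, d.mid_em, smul_zero, add_zero, and_self]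

theorem Pr.pVal_mul {T F : Module.End k M} (d : Pr T F) (m n : Matrix (Fin 2) (Fin 2) k) :
    pVal T F m * pVal T F n = pVal T F (m * n) := by
  rw [pVal, pVal, pVal, add_mul, mul_add, mul_add, d.pairVal_mul, (d.pairVal_mid m).1, (d.pairVal_mid n).2,
    d.mid_sq]
  abel

/-- The homomorphism from the special linear group. -/
noncomputable def Pr.hom {T F : Module.End k M} (d : Pr T F) :
    SpecialLinearGroup (Fin 2) k →* LinearMap.GeneralLinearGroup k M :=
  MonoidHom.toHomUnits
    { toFun := fun γ => pVal T F (γ : Matrix (Fin 2) (Fin 2) k)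
      map_one' := by simp [pVal, pairVal, split_one]
      map_mul' := fun γ δ => by
        show pVal T F ((γ : Matrix (Fin 2) (Fin 2) k) * (δ : Matrix (Fin 2) (Fin 2) k)) = _
        rw [d.pVal_mul] }

theorem Pr.hom_val {T F : Module.End k M} (d : Pr T F) (γ : SpecialLinearGroup (Fin 2) k) :
    ((d.hom γ : LinearMap.GeneralLinearGroup k M) : Module.End k M) =
      pVal T F (γ : Matrix (Fin 2) (Fin 2) k) := rfl

theorem Pr.hom_uu {T F : Module.End k M} (d : Pr T F) (x : k) :
    d.hom (uu x) = oneAdd (x • T) (smul_sq T d.sqT x) := by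
  refine Units.ext ?_
  rw [Pr.hom_val, oneAdd_val]
  simp only [pVal, pairVal, mid, uu_coe, Matrix.cons_val', Matrix.cons_val_zero, Matrix.cons_val_one,
    Matrix.empty_val', Matrix.cons_val_fin_one, Matrix.of_apply, one_smul, zero_smul, add_zero]
  abel

theorem Pr.hom_vv {T F : Module.End k M} (d : Pr T F) (x : k) :
    d.hom (vv x) = oneAdd (x • F) (smul_sq F d.sqF x) := by
  refine Units.ext ?_
  rw [Pr.hom_val, oneAdd_val]
  simp only [pVal, pairVal, mid, vv_coe, Matrix.cons_val', Matrix.cons_val_zero, Matrix.cons_val_one,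
    Matrix.empty_val', Matrix.cons_val_fin_one, Matrix.of_apply, one_smul, zero_smul, add_zero]
  abel

theorem Pr.range_hom_le {T F : Module.End k M} (d : Pr T F) {H : Subgroup (LinearMap.GeneralLinearGroup k M)}
    (hT : ∀ x : k, oneAdd (x • T) (smul_sq T d.sqT x) ∈ H)
    (hF : ∀ x : k, oneAdd (x • F) (smul_sq F d.sqF x) ∈ H) : d.hom.range ≤ H := by
  rw [MonoidHom.range_eq_map, Subgroup.map_le_iff_le_comap]
  exact (eq_top_of_uu_vv (fun x => by rw [Subgroup.mem_comap, d.hom_uu]; exact hT x)
    (fun x => by rw [Subgroup.mem_comap, d.hom_vv]; exact hF x)).ge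

/-- The diagonal elements. -/
def diagSL : kˣ →* SpecialLinearGroup (Fin 2) k where
  toFun a := ⟨!![(a : k), 0; 0, ((a⁻¹ : kˣ) : k)], by simp [Matrix.det_fin_two]⟩
  map_one' := sl2_ext (by simp) (by simp) (by simp) (by simp)
  map_mul' a b := by
    apply Subtype.ext
    change !![((a * b : kˣ) : k), 0; 0, (((a * b)⁻¹ : kˣ) : k)] =
      !![(a : k), 0; 0, ((a⁻¹ : kˣ) : k)] * !![(b : k), 0; 0, ((b⁻¹ : kˣ) : k)]
    ext i j; fin_cases i <;> fin_cases j <;> simp [Matrix.mul_apply, Fin.sum_univ_two, mul_comm]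

/-- The torus. -/
noncomputable def Pr.tor {T F : Module.End k M} (d : Pr T F) : kˣ →* LinearMap.GeneralLinearGroup k M :=
  d.hom.comp diagSL

theorem Pr.tor_val {T F : Module.End k M} (d : Pr T F) (a : kˣ) :
    ((d.tor a : LinearMap.GeneralLinearGroup k M) : Module.End k M) =
      (a : k) • (T * F) + ((a⁻¹ : kˣ) : k) • (F * T) + mid T F := by
  show pVal T F !![(a : k), 0; 0, ((a⁻¹ : kˣ) : k)] = _
  simp [pVal, pairVal]

/-- The Weyl element. -/
noncomputable def Pr.wel {T F : Module.End k M} (d : Pr T F) : LinearMap.GeneralLinearGroup k M :=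
  d.hom ⟨!![0, 1; -1, 0], by simp [Matrix.det_fin_two]⟩

theorem Pr.wel_val {T F : Module.End k M} (d : Pr T F) :
    ((d.wel : LinearMap.GeneralLinearGroup k M) : Module.End k M) = T - F + mid T F := by
  show pVal T F !![0, 1; -1, 0] = _
  simp [pVal, pairVal, sub_eq_add_neg]

theorem Pr.wel_T {T F : Module.End k M} (d : Pr T F) : conjE d.wel T = -F := by
  have h : (d.wel : Module.End k M) * T = -F * (d.wel : Module.End k M) := by
    rw [d.wel_val, add_mul, sub_mul, d.sqT, d.mid_T, neg_mul, mul_add, mul_sub, d.sqF, d.F_mid]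
    abel
  rw [conjE, h, mul_assoc, Units.mul_inv, mul_one]

theorem Pr.wel_F {T F : Module.End k M} (d : Pr T F) : conjE d.wel F = -T := by
  have h : (d.wel : Module.End k M) * F = -T * (d.wel : Module.End k M) := by
    rw [d.wel_val, add_mul, sub_mul, d.sqF, d.mid_F, neg_mul, mul_add, mul_sub, d.sqT, d.T_mid]
    abel
  rw [conjE, h, mul_assoc, Units.mul_inv, mul_one]

theorem conjE_eq_iff {g : LinearMap.GeneralLinearGroup k M} {A B : Module.End k M} :
    conjE g A = B ↔ (g : Module.End k M) * A = B * (g : Module.End k M) := by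
  constructor
  · intro h; rw [← h, conjE, mul_assoc, Units.inv_mul, mul_one]
  · intro h; rw [conjE, h, mul_assoc, Units.mul_inv, mul_one]

/-- The three eigenvalue equations of the torus. -/
theorem Pr.tor_eig {T F : Module.End k M} (d : Pr T F) (a : kˣ) :
    (T * F * (d.tor a : Module.End k M) = (a : k) • (T * F) ∧
      F * T * (d.tor a : Module.End k M) = ((a⁻¹ : kˣ) : k) • (F * T) ∧
      mid T F * (d.tor a : Module.End k M) = mid T F) ∧
    ((d.tor a : Module.End k M) * (T * F) = (a : k) • (T * F) ∧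
      (d.tor a : Module.End k M) * (F * T) = ((a⁻¹ : kˣ) : k) • (F * T) ∧
      (d.tor a : Module.End k M) * mid T F = mid T F) := by
  simp only [d.tor_val, mul_add, add_mul, mul_smul_comm, smul_mul_assoc, d.ep_sq, d.ep_em, d.ep_mid,
    d.em_ep, d.em_sq, d.em_mid, d.mid_ep, d.mid_em, d.mid_sq, smul_zero, add_zero, zero_add, and_self]

theorem Pr.tor_T {T F : Module.End k M} (d : Pr T F) (a : kˣ) : conjE (d.tor a) T = ((a : k) * a) • T := by
  rw [conjE_eq_iff]
  have e1 : (d.tor a : Module.End k M) * T = (a : k) • T := by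
    have h := congrArg (· * T) (d.tor_eig a).2.1
    simpa only [mul_assoc (d.tor a : Module.End k M), d.TFT, smul_mul_assoc] using h
  have e2 : T * (d.tor a : Module.End k M) = ((a⁻¹ : kˣ) : k) • T := by
    have h := congrArg (T * ·) (d.tor_eig a).1.2.1
    simpa only [← mul_assoc, d.TFT, mul_smul_comm] using h
  rw [e1, smul_mul_assoc, e2]
  rw [smul_smul]
  congr 1
  rw [mul_assoc, Units.mul_inv, mul_one]

/-- Weight zero. -/
def Grd (T F Z : Module.End k M) : Prop := Commute Z (T * F) ∧ Commute Z (F * T)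

/-- Weight one. -/
def W1 (T F Z : Module.End k M) : Prop := Z = T * F * Z * mid T F + mid T F * Z * (F * T)

theorem Grd.mid {T F Z : Module.End k M} (h : Grd T F Z) : Commute Z (Flavell.mid T F) :=
  ((Commute.one_right Z).sub_right h.1).sub_right h.2

theorem Grd.symm {T F Z : Module.End k M} (h : Grd T F Z) : Grd F T Z := ⟨h.2, h.1⟩

theorem Grd.tor {T F Z : Module.End k M} (h : Grd T F Z) (d : Pr T F) (a : kˣ) :
    conjE (d.tor a) Z = Z := by
  rw [conjE_eq_iff, d.tor_val]
  exact (((h.1.smul_right _).add_right (h.2.smul_right _)).add_right h.mid).eq.symm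

theorem block_zero {τ : LinearMap.GeneralLinearGroup k M} {Z e f : Module.End k M} {l m c : k}
    (he : e * (τ : Module.End k M) = l • e) (hf : (τ : Module.End k M) * f = m • f)
    (hZ : conjE τ Z = c • Z) (hne : l ≠ c * m) : e * Z * f = 0 := by
  have h : l • (e * Z * f) = (c * m) • (e * Z * f) := by
    have h' := congrArg (fun X => e * X * f) (conjE_eq_iff.mp hZ)
    simp only [smul_mul_assoc, mul_smul_comm] at h'
    rw [← mul_assoc, he, mul_assoc e, mul_assoc Z, hf] at h'
    rw [mul_smul, smul_mul_assoc, smul_mul_assoc] at *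
    simpa [mul_assoc] using h'
  by_contra h0
  exact hne (smul_left_injective k h0 h)

variable {T F Z : Module.End k M}

/-- A fixed point of the torus has weight zero. -/
theorem Pr.grd_of_fixed (d : Pr T F) (a : kˣ) (h : conjE (d.tor a) Z = Z)
    (h1 : (a : k) ≠ 1) (h2 : (a : k) * a ≠ 1) : Grd T F Z := by
  obtain ⟨⟨l1, l2, l0⟩, ⟨r1, r2, r0⟩⟩ := d.tor_eig a
  have l0' : mid T F * (d.tor a : Module.End k M) = (1 : k) • mid T F := by rw [one_smul, l0]
  have r0' : (d.tor a : Module.End k M) * mid T F = (1 : k) • mid T F := by rw [one_smul, r0]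
  have hz : conjE (d.tor a) Z = (1 : k) • Z := by rw [one_smul, h]
  have hia : ((a⁻¹ : kˣ) : k) * a = 1 := Units.inv_mul a
  have n1 : ((a⁻¹ : kˣ) : k) ≠ 1 := fun e => h1 (by rwa [e, one_mul] at hia)
  have n2 : (a : k) ≠ ((a⁻¹ : kˣ) : k) := fun e => h2 (by nth_rewrite 1 [e]; exact hia)
  have z1 := block_zero l1 r2 hz (by rw [one_mul]; exact n2)
  have z2 := block_zero l2 r1 hz (by rw [one_mul]; exact Ne.symm n2)
  have z3 := block_zero l1 r0' hz (by rw [mul_one]; exact h1)
  have z4 := block_zero l0' r1 hz (by rw [one_mul]; exact Ne.symm h1)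
  have z5 := block_zero l2 r0' hz (by rw [mul_one]; exact n1)
  have z6 := block_zero l0' r2 hz (by rw [one_mul]; exact Ne.symm n1)
  constructor
  · show Z * (T * F) = T * F * Z
    rw [split_left T F (Z * (T * F)), ← mul_assoc (T * F) Z (T * F), ← mul_assoc (F * T) Z (T * F),
      ← mul_assoc (mid T F) Z (T * F), z2, z4, add_zero, add_zero]
    conv_rhs => rw [split_right T F (T * F * Z), z1, z3, add_zero, add_zero]
  · show Z * (F * T) = F * T * Z
    rw [split_left T F (Z * (F * T)), ← mul_assoc (T * F) Z (F * T), ← mul_assoc (F * T) Z (F * T),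
      ← mul_assoc (mid T F) Z (F * T), z1, z6, zero_add, add_zero]
    conv_rhs => rw [split_right T F (F * T * Z), z2, z5, zero_add, add_zero]

/-- An eigenvector for `a⁻¹` has weight minus one. -/
theorem Pr.w1_of_eig (d : Pr T F) (a : kˣ) (h : conjE (d.tor a) Z = ((a⁻¹ : kˣ) : k) • Z)
    (hm : conjE (d.tor (-1)) Z = (-1 : k) • Z) (h2 : (2 : k) ≠ 0) (h4 : (a : k) * a ≠ 1) :
    W1 F T Z := by
  obtain ⟨⟨l1, l2, l0⟩, ⟨r1, r2, r0⟩⟩ := d.tor_eig a
  obtain ⟨⟨m1, m2, m0⟩, ⟨n1, n2, n0⟩⟩ := d.tor_eig (-1)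
  have l0' : mid T F * (d.tor a : Module.End k M) = (1 : k) • mid T F := by rw [one_smul, l0]
  have r0' : (d.tor a : Module.End k M) * mid T F = (1 : k) • mid T F := by rw [one_smul, r0]
  have m0' : mid T F * (d.tor (-1) : Module.End k M) = (1 : k) • mid T F := by rw [one_smul, m0]
  have n0' : (d.tor (-1) : Module.End k M) * mid T F = (1 : k) • mid T F := by rw [one_smul, n0]
  have hone : (-1 : k) ≠ 1 := fun e => h2 (by linear_combination -e)
  have hia : ((a⁻¹ : kˣ) : k) * a = 1 := Units.inv_mul a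
  have za := block_zero m1 n1 hm (by simpa using hone)
  have zb := block_zero m1 n2 hm (by simpa using hone)
  have zc := block_zero m2 n1 hm (by simpa using hone)
  have zd := block_zero m2 n2 hm (by simpa using hone)
  have ze := block_zero m0' n0' hm (by simpa using Ne.symm hone)
  have zf := block_zero l1 r0' h (by
    rw [mul_one]; exact fun e => h4 (by nth_rewrite 1 [e]; exact hia))
  have zg := block_zero l0' r2 h (fun e => h4 (by linear_combination ((a : k) * a) * e + ((a : k) * ((a⁻¹ : kˣ) : k) + 1) * hia))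
  show Z = F * T * Z * mid F T + mid F T * Z * (T * F)
  rw [mid_comm]
  conv_lhs => rw [split_left T F Z, split_right T F (T * F * Z), split_right T F (F * T * Z),
    split_right T F (mid T F * Z)]
  rw [za, zb, zc, zd, ze, zf, zg]
  abel

/-- An element of weight one is scaled by the torus. -/
theorem W1.tor (h : W1 T F Z) (d : Pr T F) (a : kˣ) : conjE (d.tor a) Z = (a : k) • Z := by
  obtain ⟨⟨l1, l2, l0⟩, ⟨r1, r2, r0⟩⟩ := d.tor_eig a
  rw [conjE_eq_iff, smul_mul_assoc]
  have e : ((a⁻¹ : kˣ) : k) • (a : k) = (1 : k) := by simp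
  conv_lhs => rw [h, mul_add, ← mul_assoc _ (T * F * Z), ← mul_assoc _ (T * F) Z, r1,
    ← mul_assoc _ (mid T F * Z), ← mul_assoc _ (mid T F) Z, r0]
  conv_rhs => rw [h, add_mul, mul_assoc (T * F * Z), l0, mul_assoc (mid T F * Z), l2, mul_smul_comm,
    smul_add, smul_smul, Units.mul_inv, one_smul]
  rw [smul_mul_assoc, smul_mul_assoc]

/-- Rewriting rules for words in the two maps and the middle idempotent. -/
theorem Pr.rules (d : Pr T F) :
    (∀ X, T * (T * X) = 0) ∧ (∀ X, F * (F * X) = 0) ∧ (∀ X, T * (F * (T * X)) = T * X) ∧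
      (∀ X, F * (T * (F * X)) = F * X) ∧ (∀ X, T * (mid T F * X) = 0) ∧ (∀ X, mid T F * (T * X) = 0) ∧
      (∀ X, F * (mid T F * X) = 0) ∧ (∀ X, mid T F * (F * X) = 0) ∧
      (∀ X, mid T F * (mid T F * X) = mid T F * X) ∧
      T * T = 0 ∧ F * F = 0 ∧ T * (F * T) = T ∧ F * (T * F) = F ∧ T * mid T F = 0 ∧ mid T F * T = 0 ∧
      F * mid T F = 0 ∧ mid T F * F = 0 ∧ mid T F * mid T F = mid T F :=
  ⟨fun X => by rw [← mul_assoc, d.sqT, zero_mul], fun X => by rw [← mul_assoc, d.sqF, zero_mul],
    fun X => by rw [← mul_assoc, ← mul_assoc, d.TFT], fun X => by rw [← mul_assoc, ← mul_assoc, d.FTF],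
    fun X => by rw [← mul_assoc, d.T_mid, zero_mul], fun X => by rw [← mul_assoc, d.mid_T, zero_mul],
    fun X => by rw [← mul_assoc, d.F_mid, zero_mul], fun X => by rw [← mul_assoc, d.mid_F, zero_mul],
    fun X => by rw [← mul_assoc, d.mid_sq],
    d.sqT, d.sqF, by rw [← mul_assoc, d.TFT], by rw [← mul_assoc, d.FTF], d.T_mid, d.mid_T, d.F_mid, d.mid_F,
    d.mid_sq⟩

/-- The weight one part of any map. -/
theorem Pr.w1_part (d : Pr T F) (D : Module.End k M) :
    W1 T F (T * F * D * Flavell.mid T F + Flavell.mid T F * D * (F * T)) := by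
  unfold W1
  simp only [mul_assoc, mul_add, add_mul, d.rules, mul_zero, add_zero, zero_add]

/-- The torus on the weight two part. -/
theorem Pr.tor_top (d : Pr T F) (D : Module.End k M) (a : kˣ) :
    conjE (d.tor a) (T * F * D * (F * T)) = ((a : k) * a) • (T * F * D * (F * T)) := by
  obtain ⟨⟨-, l2, -⟩, ⟨r1, -, -⟩⟩ := d.tor_eig a
  rw [conjE_eq_iff, ← mul_assoc _ (T * F * D) (F * T), ← mul_assoc _ (T * F) D, r1, smul_mul_assoc,
    smul_mul_assoc, smul_mul_assoc, mul_assoc (T * F * D) (F * T), l2, mul_smul_comm, smul_smul]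
  congr 1
  rw [mul_assoc, Units.mul_inv, mul_one]

end Cfsg.Agent.H63.Flavell
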