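import Cfsg.Agent.H63.Flavell.Wedge

/-!
Generation of a component by two opposite radicals, and the uniqueness of the fixed root space.
-/

set_option autoImplicit false
set_option linter.unusedSectionVars false

namespace Cfsg.Agent.H63.Flavell

open Cfsg.Agent.H88 Matrix
open Cfsg.Agent.H42.Eqv (rt_of_mem rt_of_smul two_ne three_ne card_ne_three rootSpace_conj_norm
  linked_conj_norm isMin_conj_norm)

universe u

variable {p : ℕ} [Fact p.Prime] {M : Type u} [AddCommGroup M] [Module (ZMod p) M] [Finite M]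
  {Y : Subgroup (LinearMap.GeneralLinearGroup (ZMod p) M)}

local notation "GL" => LinearMap.GeneralLinearGroup (ZMod p) M
local notation "End'" => Module.End (ZMod p) M

variable (hp : 5 ≤ p) (hG : NoUnip Y)

theorem val_conj_commute {g : GL} {A : End'} : conjE g A = A ↔ Commute (g : End') A :=
  conjE_eq_iff.trans Iff.rfl

theorem rootSpace_eq {T T' : End'} (hT : IsMin Y T) (h : T' ∈ rootSpace Y T hT.sq) (h0 : T' ≠ 0) :
    rootSpace Y T' h.1.sq = rootSpace Y T hT.sq := rootSpace_eq_of_mem hT h h0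

theorem conj_member {g : GL} (hg : g ∈ Subgroup.normalizer (Y : Set GL)) {T T₁ X : End'} (hT : IsMin Y T)
    (hT₁ : IsMin Y T₁) (h : conjE g T ∈ rootSpace Y T₁ hT₁.sq) (hX : X ∈ rootSpace Y T hT.sq) :
    conjE g X ∈ rootSpace Y T₁ hT₁.sq := by
  have hn : conjE g T ≠ 0 := fun e => hT.2.1 ((conjE_eq_zero_iff g T).mp e)
  have h' := rootSpace_conj_norm (hA' := (isMin_conj_norm hg hT).sq) hg hX
  rwa [rootSpace_eq hT₁ h hn] at h'

/-- A map keeping both root spaces of a pair has weight zero. -/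
theorem grd_of_stab {T F : End'} {g : GL} (hT : IsMin Y T) (hF : IsMin Y F) (d : Pr T F)
    (h1 : conjE g T ∈ rootSpace Y T hT.sq) (h2 : conjE g F ∈ rootSpace Y F hF.sq) : Grd T F (g : End') := by
  have key : ∀ {T F : End'}, IsMin Y T → IsMin Y F → ∀ (d : Pr T F) {T' F' : End'},
      LinearMap.range T' = LinearMap.range T → LinearMap.ker F' = LinearMap.ker F → T' * F' * T' = T' →
      T' * F' = T * F := by
    intro T F hT hF d T' F' hr hk h'
    have a1 : F' = F' * (T * F) := by
      refine sub_eq_zero.mp ?_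
      rw [show F' - F' * (T * F) = F' * (1 - T * F) by rw [mul_sub, mul_one]]
      refine apply_eq_zero_of_range_le_ker ?_
      rintro _ ⟨m, rfl⟩
      rw [hk, LinearMap.mem_ker, ← Module.End.mul_apply, mul_sub, mul_one, ← mul_assoc, d.FTF, sub_self,
        LinearMap.zero_apply]
    have a2 : T' * F' * T = T := LinearMap.ext fun m => by
      obtain ⟨x, hx⟩ : T m ∈ LinearMap.range T' := hr ▸ LinearMap.mem_range_self T m
      rw [Module.End.mul_apply, ← hx, ← Module.End.mul_apply, h']
    conv_lhs => rw [a1, ← mul_assoc, ← mul_assoc, a2]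
  have n1 : conjE g T ≠ 0 := fun e => hT.2.1 ((conjE_eq_zero_iff g T).mp e)
  have n2 : conjE g F ≠ 0 := fun e => hF.2.1 ((conjE_eq_zero_iff g F).mp e)
  constructor
  · refine val_conj_commute.mp ?_
    rw [← conjE_mul]
    exact key hT hF d (hT.range_eq h1 n1) (hF.ker_eq h2 n2) (d.conj g).TFT
  · refine val_conj_commute.mp ?_
    rw [← conjE_mul]
    exact key hF hT d.symm (hF.range_eq h2 n2) (hT.ker_eq h1 n1) (d.conj g).FTF

theorem stab_of_grd {T F : End'} {g : GL} (hg : g ∈ Subgroup.normalizer (Y : Set GL)) (hT : IsMin Y T)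
    (d : Pr T F) (h : Grd T F (g : End')) : conjE g T ∈ rootSpace Y T hT.sq :=
  ⟨H42.Eqv.rt_conj_norm hg hT.rt, (h.conj_range_ker d).2, (h.conj_range_ker d).1⟩

include hp

theorem wgrp_conj_mem {T T' : End'} {g w : GL} (hT' : IsMin Y T') {L : Subgroup GL}
    (hg : g ∈ Subgroup.normalizer (L : Set GL)) (hT : conjE g T ∈ rootSpace Y T' hT'.sq) (hT0 : T ≠ 0)
    (hw : w ∈ wgrp L T) : g * w * g⁻¹ ∈ wgrp L T' := by
  have hn : conjE g T ≠ 0 := fun e => hT0 ((conjE_eq_zero_iff g T).mp e)
  exact wgrp_conj hg (hT'.range_eq hT hn).symm (hT'.ker_eq hT hn).symm hw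

include hG

theorem tor_wgrp {T F : End'} (hT : IsMin Y T) (hF : IsMin Y F) (d : Pr T F) (a : (ZMod p)ˣ) {w : GL}
    (hw : w ∈ wgrp (grp Y T) T) : d.tor a * w * (d.tor a)⁻¹ ∈ wgrp (grp Y T) T :=
  wgrp_conj_mem hp hT (Subgroup.le_normalizer (tor_mem_grp hp hG hT hF d a))
    (by rw [d.tor_T]; exact Submodule.smul_mem _ _ (self_mem_rootSpace hT.rt)) hT.2.1 hw

/-- The stabiliser of a root space is the radical times the weight zero part. -/
theorem exists_factor {T F : End'} {h : GL} (hh : h ∈ Subgroup.normalizer (Y : Set GL)) (hT : IsMin Y T)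
    (hF : IsMin Y F) (d : Pr T F) (hs : conjE h T ∈ rootSpace Y T hT.sq) :
    ∃ w ∈ wgrp (grp Y T) T, Grd T F ((w⁻¹ * h : GL) : End') := by
  have hn : conjE h T ≠ 0 := fun e => hT.2.1 ((conjE_eq_zero_iff h T).mp e)
  have hF' := isMin_conj_norm hh hF
  have hopp : Opp Y (conjE h T) (conjE h F) := opp_of_pr (isMin_conj_norm hh hT) hF' (d.conj h)
  have hTm : T ∈ rootSpace Y (conjE h T) hopp.1.sq := by
    rw [rootSpace_eq hT hs hn]; exact self_mem_rootSpace hT.rt
  have hopp' := opp_members hp hopp hTm hT.2.1 (self_mem_rootSpace hopp.2.1.rt) hopp.2.1.2.1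
  obtain ⟨F₁, hF₁, hF₁m, d₁⟩ := exists_pr hp hopp'
  obtain ⟨w, hw, e⟩ := exists_trans hp hG hT hF hF₁m d d₁
  refine ⟨w, hw, grd_of_stab hT hF d ?_ ?_⟩
  · rw [← conjE_conjE]
    refine conj_member (Subgroup.le_normalizer (Y.inv_mem (grp_le_Y T hw.1))) hT hT ?_ hs
    rw [wgrp_fix ((wgrp (grp Y T) T).inv_mem hw)]
    exact self_mem_rootSpace hT.rt
  · rw [← conjE_conjE]
    refine conj_member (Subgroup.le_normalizer (Y.inv_mem (grp_le_Y T hw.1))) hF₁m hF ?_ ?_
    · rw [← e, conjE_conjE, inv_mul_cancel, conjE_one]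
      exact self_mem_rootSpace hF.rt
    · rw [rootSpace_eq hopp'.2.1 hF₁ hF₁m.2.1]
      exact self_mem_rootSpace hopp'.2.1.rt

/-- Every root space of the component is conjugate to the given one inside two radicals. -/
theorem exists_conj_mem {T F : End'} (hT : IsMin Y T) (hF : IsMin Y F) (d : Pr T F) :
    ∀ C, Linked Y T C → ∀ hC : IsMin Y C,
      ∃ h ∈ wgrp (grp Y T) T ⊔ wgrp (grp Y T) F, conjE h T ∈ rootSpace Y C hC.sq := by
  intro C hl
  set H := wgrp (grp Y T) T ⊔ wgrp (grp Y T) F with hH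
  have hHY : H ≤ Y := sup_le ((wgrp_le _ _).trans (grp_le_Y T)) ((wgrp_le _ _).trans (grp_le_Y T))
  have hwel : d.wel ∈ H := by
    refine d.range_hom_le (fun x => ?_) (fun x => ?_) ⟨_, rfl⟩
    · exact Subgroup.mem_sup_left (oneAdd_mem_wgrp hp hG hT
        (Submodule.smul_mem _ x (self_mem_rootSpace hT.rt)))
    · have h := oneAdd_mem_wgrp hp hG hF (Submodule.smul_mem _ x (self_mem_rootSpace hF.rt))
      rw [← H42.Eqv.grp_eq_of_linked (Relation.ReflTransGen.single (opp_of_pr hT hF d))] at h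
      exact Subgroup.mem_sup_right h
  induction hl with
  | refl => intro _; exact ⟨1, H.one_mem, by rw [conjE_one]; exact self_mem_rootSpace hT.rt⟩
  | @tail C D hC hCD ih =>
    intro hD
    obtain ⟨h, hh, hm⟩ := ih hCD.1
    have hhY := Subgroup.le_normalizer (hHY hh)
    have hhi := Subgroup.le_normalizer (Y.inv_mem (hHY hh))
    have hn : conjE h T ≠ 0 := fun e => hT.2.1 ((conjE_eq_zero_iff h T).mp e)
    have hop := opp_members hp hCD hm hn (self_mem_rootSpace hCD.2.1.rt) hCD.2.1.2.1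
    have hop' : Opp Y T (conjE h⁻¹ D) := by
      have := H42.Eqv.opp_conj_norm hhi hop
      rwa [conjE_conjE, inv_mul_cancel, conjE_one] at this
    obtain ⟨F₁, hF₁, hF₁m, d₁⟩ := exists_pr hp hop'
    obtain ⟨w, hw, e⟩ := exists_trans hp hG hT hF hF₁m d d₁
    refine ⟨h * w * d.wel, H.mul_mem (H.mul_mem hh (Subgroup.mem_sup_left hw)) hwel, ?_⟩
    rw [← conjE_conjE, ← conjE_conjE, d.wel_T, conjE_neg, e, conjE_neg]
    refine Submodule.neg_mem _ (conj_member hhY hop'.2.1 hD ?_ hF₁)
    rw [conjE_conjE, mul_inv_cancel, conjE_one]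
    exact self_mem_rootSpace hD.rt

theorem grp_le_radicals {T F : End'} (hT : IsMin Y T) (hF : IsMin Y F) (d : Pr T F) :
    grp Y T ≤ wgrp (grp Y T) T ⊔ wgrp (grp Y T) F := by
  refine (Subgroup.closure_le _).2 fun x hx => ?_
  set H := wgrp (grp Y T) T ⊔ wgrp (grp Y T) F with hH
  have hHY : H ≤ Y := sup_le ((wgrp_le _ _).trans (grp_le_Y T)) ((wgrp_le _ _).trans (grp_le_Y T))
  obtain ⟨h, hh, hm⟩ := exists_conj_mem hp hG hT hF d _ hx.2 hx.1
  have hn : conjE h T ≠ 0 := fun e => hT.2.1 ((conjE_eq_zero_iff h T).mp e)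
  have hX : conjE h⁻¹ ((x : End') - 1) ∈ rootSpace Y T hT.sq := by
    refine conj_member (Subgroup.le_normalizer (Y.inv_mem (hHY hh))) (isMin_conj_norm
      (Subgroup.le_normalizer (hHY hh)) hT) hT ?_ ?_
    · rw [conjE_conjE, inv_mul_cancel, conjE_one]; exact self_mem_rootSpace hT.rt
    · rw [rootSpace_eq hx.1 hm hn]; exact self_mem_rootSpace hx.1.rt
  have hw := oneAdd_mem_wgrp hp hG hT hX
  have e : x = h * oneAdd _ hX.1.1 * h⁻¹ := by
    refine Units.ext ?_
    rw [Units.val_mul, Units.val_mul, oneAdd_val, conjE_one_add, conjE_conjE, mul_inv_cancel, conjE_one]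
    abel
  rw [e]
  exact H.mul_mem (H.mul_mem hh (Subgroup.mem_sup_left hw)) (H.inv_mem hh)

theorem linked_of_mem_grp {T D : End'} (hT : IsMin Y T) (hD : IsMin Y D) (h : oneAdd D hD.sq ∈ grp Y T) :
    Linked Y T D := by
  by_contra hl
  obtain ⟨Z, hZ, hne⟩ := exists_not_commute (two_ne hp) (card_ne_three hp) hG hD
  have hc := commutator_grp (two_ne hp) (card_ne_three hp) hG (A := T) (B := D) hl
  have hmem := oneAdd_mem_grp hp hG hD (Relation.ReflTransGen.single hZ) (self_mem_rootSpace hZ.2.1.rt)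
  have := Subgroup.mem_centralizer_iff.mp (Subgroup.commutator_eq_bot_iff_le_centralizer.mp hc h) _ hmem
  have h' := congrArg (Units.val : _ → End') this
  rw [Units.val_mul, Units.val_mul, oneAdd_val, oneAdd_val] at h'
  exact hne (by linear_combination (norm := noncomm_ring) -h')

/-- No element of the component moves nothing in the radicals without being central. -/
theorem not_central {T D : End'} (hT : IsMin Y T) (hD : IsMin Y D) (h : oneAdd D hD.sq ∈ grp Y T) :
    ∃ x ∈ grp Y T, ¬ Commute (x : End') D := by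
  have hl := linked_of_mem_grp hp hG hT hD h
  obtain ⟨Z, hZ, hne⟩ := exists_not_commute (two_ne hp) (card_ne_three hp) hG hD
  refine ⟨oneAdd Z hZ.2.1.sq, oneAdd_mem_grp hp hG hT (hl.tail hZ) (self_mem_rootSpace hZ.2.1.rt), fun hc => hne ?_⟩
  have h' : (1 + Z) * D = D * (1 + Z) := hc.eq
  linear_combination (norm := noncomm_ring) -h'

/-- The unipotent case of the uniqueness of the fixed root space. -/
theorem fixed_unique_inW {T F D : End'} (hT : IsMin Y T) (hF : IsMin Y F) (d : Pr T F) (hD : IsMin Y D)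
    (hl : Linked Y T D) (hin : InW T D)
    (hfix : ∀ w ∈ wgrp (grp Y T) T, conjE w D ∈ rootSpace Y D hD.sq) :
    D ∈ rootSpace Y T hT.sq := by
  have h2 := two_ne (p := p) hp
  by_cases hmove : ∃ w ∈ wgrp (grp Y T) T, conjE w D ≠ D
  · obtain ⟨w, hw, hne⟩ := hmove
    set Δ := conjE w D - D with hΔ
    have hΔm : Δ ∈ rootSpace Y D hD.sq := Submodule.sub_mem _ (hfix w hw) (self_mem_rootSpace hD.rt)
    have hΔ0 : Δ ≠ 0 := sub_ne_zero.mpr hne
    set Z := (w : End') - 1 with hZ
    have e : Δ = (Z * D - D * Z) * ((w⁻¹ : GL) : End') := by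
      calc Δ = (w : End') * D * ((w⁻¹ : GL) : End') - D * ((w : End') * ((w⁻¹ : GL) : End')) := by
            rw [Units.mul_inv, mul_one, hΔ]; rfl
        _ = _ := by rw [hZ]; noncomm_ring
    have s1 := hw.2.mul_small hin
    have s2 := hin.mul_small hw.2
    have hwi := ((wgrp (grp Y T) T).inv_mem hw).2
    have hk : ∀ m, T m = 0 → T (((w⁻¹ : GL) : End') m) = 0 := fun m hm => by
      have := hwi.apply_mem m
      rw [LinearMap.sub_apply, Module.End.one_apply, map_sub, hm, sub_zero] at this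
      exact this
    have hΔT : Δ ∈ rootSpace Y T hT.sq := by
      refine ⟨hΔm.1, fun m hm => ?_, ?_⟩
      · rw [LinearMap.mem_ker, e, Module.End.mul_apply, LinearMap.sub_apply]
        rw [LinearMap.mem_ker.mp (s1.1 (hk m hm)), LinearMap.mem_ker.mp (s2.1 (hk m hm)), sub_zero]
      · rintro _ ⟨m, rfl⟩
        rw [e, Module.End.mul_apply, LinearMap.sub_apply]
        exact Submodule.sub_mem _ (s1.2 ⟨_, rfl⟩) (s2.2 ⟨_, rfl⟩)
    rw [← rootSpace_eq hT hΔT hΔ0, rootSpace_eq hD hΔm hΔ0]
    exact self_mem_rootSpace hD.rt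
  push Not at hmove
  have hcomm : ∀ w ∈ wgrp (grp Y T) T, Commute (w : End') D := fun w hw => val_conj_commute.mp (hmove w hw)
  obtain ⟨b1, b2, b3⟩ := hin.blocks d
  set D1 := T * F * D * mid T F + mid T F * D * (F * T) with hD1
  set D2 := T * F * D * (F * T) with hD2
  have hw1 : W1 T F D1 := d.w1_part D
  have hsum : D = D1 + D2 := by
    conv_lhs => rw [split_left T F D, b2, add_zero, split_right T F (T * F * D),
      mul_assoc (T * F) D (T * F), b1, mul_zero, zero_add, split_right T F (mid T F * D),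
      mul_assoc (mid T F) D (T * F), b1, mul_zero, zero_add, b3, add_zero]
    rw [hD1, hD2]; abel
  set t := d.tor (-1) with ht
  have ht1 : conjE t D1 = -D1 := by
    rw [ht, hw1.tor d (-1)]; simp
  have ht2 : conjE t D2 = D2 := by
    rw [ht, hD2, d.tor_top]; simp
  have hD' : conjE t D = D2 - D1 := by rw [hsum, conjE_add, ht1, ht2]; abel
  have hcomm1 : ∀ w ∈ wgrp (grp Y T) T, Commute (w : End') D1 := by
    intro w hw
    have h1 := hcomm w hw
    have h1' := hcomm _ (tor_wgrp hp hG hT hF d (-1) hw)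
    have hts : t * t = 1 := by rw [ht, ← map_mul, neg_mul_neg, one_mul, map_one]
    have h3 : Commute (w : End') (D2 - D1) := by
      rw [← hD', ← val_conj_commute, conjE_conjE]
      have e : w * t = t * (t * w * t⁻¹) := by
        rw [← mul_assoc, ← mul_assoc, hts, one_mul, inv_eq_of_mul_eq_one_left hts]
      rw [e, ← conjE_conjE, val_conj_commute.mpr h1']
    have h4 := h1.sub_right h3
    rw [show D - (D2 - D1) = (2 : ZMod p) • D1 by rw [hsum, two_smul]; abel] at h4
    have h5 := h4.smul_right (2 : ZMod p)⁻¹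
    rwa [inv_smul_smul₀ h2] at h5
  have hem_mid : F * T * D = 0 := b2
  have hprod : D1 * D2 = 0 ∧ D2 * D1 = 0 ∧ D2 * D2 = 0 := by
    refine ⟨?_, ?_, ?_⟩ <;> simp only [hD1, hD2, mul_assoc, mul_add, add_mul, d.rules, mul_zero, add_zero]
  obtain ⟨h12, h21, h22⟩ := hprod
  have hsq1 : D1 * D1 = 0 := by
    have := hD.sq
    rw [show D * D = (D1 + D2) * (D1 + D2) by rw [← hsum]] at this
    linear_combination (norm := noncomm_ring) this - h12 - h21 - h22
  have hlY := grp_le_Y (Y := Y) T
  have htL := tor_mem_grp hp hG hT hF d (-1)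
  have hDL : oneAdd D hD.sq ∈ grp Y T := oneAdd_mem_grp hp hG hT hl (self_mem_rootSpace hD.rt)
  set y := oneAdd D hD.sq * (t * oneAdd D hD.sq * t⁻¹)⁻¹ with hy
  have hyv : (y : End') = 1 + (2 : ZMod p) • D1 := by
    have hsqD' : (D2 - D1) * (D2 - D1) = 0 := by rw [← hD', conjE_mul, hD.sq, conjE_zero]
    have e : t * oneAdd D hD.sq * t⁻¹ = oneAdd (D2 - D1) hsqD' :=
      Units.ext (by rw [Units.val_mul, Units.val_mul, oneAdd_val, oneAdd_val, conjE_one_add, hD'])
    have hz : (D1 + D2) * (D2 - D1) = 0 := by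
      rw [add_mul, mul_sub, mul_sub, h12, h21, h22, hsq1]; simp
    rw [hy, e, Units.val_mul, oneAdd_val, oneAdd_inv_val, hsum,
      show (1 + (D1 + D2)) * (1 - (D2 - D1)) = 1 + (2 : ℕ) • D1 - (D1 + D2) * (D2 - D1) by noncomm_ring,
      hz, sub_zero, ← Nat.cast_smul_eq_nsmul (ZMod p), Nat.cast_ofNat]
  have hyL : y ∈ grp Y T :=
    (grp Y T).mul_mem hDL ((grp Y T).inv_mem ((grp Y T).mul_mem ((grp Y T).mul_mem htL hDL) ((grp Y T).inv_mem htL)))
  have hRt1 : Rt Y D1 := rt_of_smul h2 hsq1 (hlY hyL) hyv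
  by_cases h10 : D1 = 0
  · refine ⟨hD.rt, fun m hm => ?_, ?_⟩
    · rw [LinearMap.mem_ker, hsum, h10, zero_add, hD2, Module.End.mul_apply, Module.End.mul_apply F T,
        LinearMap.mem_ker.mp hm, map_zero, map_zero]
    · rw [hsum, h10, zero_add, hD2, mul_assoc T F, mul_assoc T]
      exact LinearMap.range_comp_le_range _ _
  exfalso
  have hrk : rk D1 ≤ rk D := by
    have hc : (F * T + mid T F) * D * mid T F = 0 := by rw [add_mul, add_mul, b2, zero_mul, b3, add_zero]
    refine le_trans ?_ (rk_corner D (mid T F) (F * T + mid T F) hc)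
    rw [hD1]
    refine (rk_add_le _ _).trans (Nat.add_le_add ?_ ?_)
    · rw [mul_assoc]; exact rk_mul_right _ _
    · rw [add_mul, b2, zero_add]; exact rk_mul_left _ _
  have hm1 := hD.of_rk_le hRt1 h10 hrk
  have h1L : oneAdd D1 hm1.sq ∈ grp Y T := by
    have : oneAdd D1 hm1.sq = y ^ ((2 : ZMod p)⁻¹).val := by
      refine Units.ext ?_
      have key : ∀ n : ℕ, ((y ^ n : GL) : End') = 1 + ((n : ZMod p) * 2) • D1 := by
        intro n
        induction n with
        | zero => simp
        | succ n ih =>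
          rw [pow_succ, Units.val_mul, ih, hyv, add_mul, one_mul, mul_add, mul_one, smul_mul_smul_comm, hsq1,
            smul_zero, add_zero, Nat.cast_succ, add_mul, one_mul, add_smul]
          abel
      rw [oneAdd_val, key, ZMod.natCast_zmod_val, inv_mul_cancel₀ h2, one_smul]
    rw [this]
    exact (grp Y T).pow_mem hyL _
  have hl1 := linked_of_mem_grp hp hG hT hm1 h1L
  obtain ⟨B, hB, hnB⟩ := exists_opposite h2 hG hm1
  obtain ⟨S, -, hS, dS⟩ := exists_pr hp (⟨hm1, hB, hnB⟩ : Opp Y D1 B)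
  have hopp := opp_of_pr hm1 hS dS
  by_cases hTST : T * S * T = 0
  · have hnil := nilpotent_of_TZT hT.sq hS.sq hTST
    have hSTS : S * T * S = 0 := classTwo h2 hS hT.rt (by rwa [add_comm])
    have hwm : Rt Y (T * S - S * T) := hT.rt.commutator hS.rt hTST hSTS
    set w := oneAdd (T * S - S * T) hwm.sq with hwd
    have hwW : w ∈ wgrp (grp Y T) T := by
      refine ⟨?_, ?_⟩
      · have e : w = oneAdd T hT.sq * oneAdd S hS.sq * (oneAdd T hT.sq)⁻¹ * (oneAdd S hS.sq)⁻¹ :=
          Units.ext (by rw [hwd, commutator_val (oneAdd_val T hT.sq) (oneAdd_val S hS.sq) hT.sq hS.sq hTST hSTS,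
            oneAdd_val])
        rw [e]
        have a := oneAdd_mem_grp hp hG hT Relation.ReflTransGen.refl (self_mem_rootSpace hT.rt)
        have b := oneAdd_mem_grp hp hG hT (hl1.tail hopp) (self_mem_rootSpace hS.rt)
        exact (grp Y T).mul_mem ((grp Y T).mul_mem ((grp Y T).mul_mem a b) ((grp Y T).inv_mem a))
          ((grp Y T).inv_mem b)
      · rw [hwd, oneAdd_val, add_sub_cancel_left]
        refine ⟨?_, ?_, fun m hm => ?_⟩
        · rw [sub_mul, hTST, mul_assoc, hT.sq, mul_zero, sub_zero]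
        · rw [mul_sub, ← mul_assoc, ← mul_assoc, hT.sq, zero_mul, hTST, sub_zero]
        · rw [LinearMap.sub_apply, Module.End.mul_apply, Module.End.mul_apply S T, hm, map_zero, sub_zero]
          exact LinearMap.mem_range_self T _
    have a1 : T * D1 = 0 := by
      rw [hD1]; simp only [mul_add, ← mul_assoc, d.sqT, zero_mul, d.T_mid, add_zero]
    have a2 : D1 * T = 0 := by
      rw [hD1, add_mul, mul_assoc (T * F * D) (mid T F), d.mid_T, mul_zero, zero_add,
        mul_assoc (mid T F * D) (F * T), mul_assoc F T T, d.sqT, mul_zero, mul_zero]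
    have hcw := hcomm1 w hwW
    rw [hwd, oneAdd_val] at hcw
    have h6 : (T * S - S * T) * D1 = D1 * (T * S - S * T) := by
      have := hcw.eq
      linear_combination (norm := noncomm_ring) this
    rw [sub_mul, mul_assoc S T D1, a1, mul_zero, sub_zero, mul_sub, ← mul_assoc D1 T S, a2, zero_mul,
      zero_sub] at h6
    have hz : D1 * (S * T) = 0 := by
      have h7 := congrArg (D1 * S * ·) h6
      have e1 : D1 * S * (T * S * D1) = 0 := by
        rw [mul_assoc D1 S, ← mul_assoc S (T * S) D1, ← mul_assoc S T S, hSTS, zero_mul, mul_zero]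
      rw [e1, mul_neg, ← mul_assoc (D1 * S) D1, dS.TFT, eq_comm, neg_eq_zero] at h7
      exact h7
    rw [hz, neg_zero] at h6
    have z1 : D1 * S * (T * F) = 0 := by rw [mul_assoc, ← mul_assoc S T F, ← mul_assoc, hz, zero_mul]
    have z2 : F * T * S * D1 = 0 := by rw [mul_assoc F T S, mul_assoc F, h6, mul_zero]
    have hwl : T * F * D1 = T * F * D * mid T F := by
      simp only [hD1, mul_assoc, mul_add, d.rules, mul_zero, add_zero]
    have hwr : D1 * (F * T) = mid T F * D * (F * T) := by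
      simp only [hD1, mul_assoc, add_mul, d.rules, mul_zero, zero_add]
    have hs : D1 = T * F * D1 * mid T F + D1 * (F * T) := by
      simp only [hD1, mul_assoc, mul_add, add_mul, d.rules, mul_zero, add_zero, zero_add]
    have hx : T * F * D1 = 0 := by
      have k3 : T * F * (D1 * (F * T)) = 0 := by
        simp only [hwr, mul_assoc, d.rules, mul_zero]
      calc T * F * D1 = T * F * (D1 * S * D1) := by rw [dS.TFT]
        _ = T * F * (D1 * S * (T * F)) * D1 * mid T F + T * F * ((D1 * S * D1) * (F * T)) := by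
          conv_lhs => arg 2; arg 2; rw [hs]
          simp only [mul_assoc, mul_add]
        _ = 0 := by rw [z1, dS.TFT, k3]; simp
    have hy' : D1 * (F * T) = 0 := by
      have hs' : D1 = D1 * (F * T) := by
        conv_lhs => rw [hs, hx, zero_mul, zero_add]
      calc D1 * (F * T) = D1 * S * D1 * (F * T) := by rw [dS.TFT]
        _ = D1 * (F * T) * S * D1 * (F * T) := by rw [← hs']
        _ = D1 * (F * T * S * D1) * (F * T) := by simp only [mul_assoc]
        _ = 0 := by rw [z2, mul_zero, zero_mul]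
    apply h10
    rw [hs, hx, zero_mul, zero_add, hy']
  · obtain ⟨S', hS', hS'm, dS'⟩ := exists_pr hp (opp_of_ne hp hT hS hTST)
    obtain ⟨w, hw, e⟩ := exists_trans hp hG hT hF hS'm d dS'
    have hDFD : D1 * F * D1 = 0 := by
      refine classTwo h2 hm1 hF.rt ?_
      rw [add_comm]
      refine nilpotent_of_TZT hF.sq hm1.sq ?_
      rw [hD1]
      simp only [mul_add, add_mul, mul_assoc, d.mid_F, mul_zero, ← mul_assoc F (mid T F), d.F_mid, zero_mul,
        add_zero]
    refine (opp_members hp hopp (self_mem_rootSpace hm1.rt) h10 hS' hS'm.2.1).2.2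
      (nilpotent_of_TZT hm1.sq hS'm.sq ?_)
    rw [← e]
    have hc : conjE w D1 = D1 := val_conj_commute.mpr (hcomm1 w hw)
    rw [← hc, conjE_mul, conjE_mul, hDFD, conjE_zero]

/-- The radical fixes no other root space of the component. -/
theorem fixed_unique {T F D : End'} (hT : IsMin Y T) (hF : IsMin Y F) (d : Pr T F) (hD : IsMin Y D)
    (hl : Linked Y T D) (hfix : ∀ w ∈ wgrp (grp Y T) T, conjE w D ∈ rootSpace Y D hD.sq) :
    D ∈ rootSpace Y T hT.sq := by
  have h2 := two_ne (p := p) hp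
  have hTD : T * D = D * T := by
    have hw := oneAdd_mem_wgrp hp hG hT (self_mem_rootSpace hT.rt)
    have := hfix _ hw
    rw [conjE_oneAdd] at this
    exact rootSpace_commute_of_normalize h2 hT hD (self_mem_rootSpace hT.rt) hT.2.1 this
  have hDL : oneAdd D hD.sq ∈ grp Y T := oneAdd_mem_grp hp hG hT hl (self_mem_rootSpace hD.rt)
  set u := oneAdd D hD.sq with hu
  have huY := grp_le_Y T hDL
  have huT : conjE u T = T := by
    rw [val_conj_commute, hu, oneAdd_val]
    exact (Commute.one_left T).add_left hTD.symm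
  have dF : Pr T (conjE u F) := by have := d.conj u; rwa [huT] at this
  obtain ⟨w, hw, ew⟩ := exists_trans hp hG hT hF (hF.conj huY) d dF
  set h := w⁻¹ * u with hh
  have hhL : h ∈ grp Y T := (grp Y T).mul_mem ((grp Y T).inv_mem hw.1) hDL
  have hhT : conjE h T = T := by
    rw [hh, ← conjE_conjE, huT, wgrp_fix ((wgrp (grp Y T) T).inv_mem hw)]
  have hhF : conjE h F = F := by
    rw [hh, ← conjE_conjE, ← ew, conjE_conjE, inv_mul_cancel, conjE_one]
  have hgr : Grd T F (h : End') :=
    ⟨(val_conj_commute.mp hhT).mul_right (val_conj_commute.mp hhF),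
      (val_conj_commute.mp hhF).mul_right (val_conj_commute.mp hhT)⟩
  set H0 := (h : End') - 1 with hH0
  set Z := (w : End') - 1 with hZ
  have hdec : D = Z + H0 + Z * H0 := by
    have e : (w : End') * (h : End') = 1 + D := by
      rw [← Units.val_mul, hh, mul_inv_cancel_left, hu, oneAdd_val]
    calc D = (w : End') * (h : End') - 1 := by rw [e]; abel
      _ = _ := by rw [hZ, hH0]; noncomm_ring
  obtain ⟨b1, b2, b3⟩ := hw.2.blocks d
  have hg1 : Commute H0 (T * F) := hgr.1.sub_left (Commute.one_left _)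
  have hg2 : Commute H0 (F * T) := hgr.2.sub_left (Commute.one_left _)
  have hg0 : Commute H0 (mid T F) := hgr.mid.sub_left (Commute.one_left _)
  have c1 : D * (T * F) = H0 * (T * F) := by
    rw [hdec, add_mul, add_mul, b1, zero_add, mul_assoc Z, hg1.eq, ← mul_assoc, b1, zero_mul, add_zero]
  have c2 : F * T * D = F * T * H0 := by
    rw [hdec, mul_add, mul_add, b2, zero_add, ← mul_assoc, b2, zero_mul, add_zero]
  have c3 : mid T F * D * mid T F = mid T F * H0 * mid T F := by
    rw [hdec, mul_add, mul_add, add_mul, add_mul, b3, zero_add, ← mul_assoc (mid T F) Z H0,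
      mul_assoc (mid T F * Z) H0, hg0.eq, ← mul_assoc (mid T F * Z), b3, zero_mul, add_zero]
  have k1 : F * T * D * mid T F = 0 := by
    rw [c2, mul_assoc, hg0.eq, ← mul_assoc, d.em_mid, zero_mul]
  have k2 : mid T F * D * (T * F) = 0 := by
    rw [mul_assoc, c1, hg1.eq, ← mul_assoc, d.mid_ep, zero_mul]
  have k3 : F * T * D * (T * F) = 0 := by
    rw [c2, mul_assoc, hg1.eq, ← mul_assoc, d.em_ep, zero_mul]
  have hH2 : H0 * H0 = 0 := by
    have e1 : H0 * H0 * (T * F) = 0 := by
      have : H0 * H0 * (T * F) = D * D * (T * F) := by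
        rw [mul_assoc, mul_assoc D D, c1, hg1.eq, ← mul_assoc D, c1]
        rw [mul_assoc H0 (T * F) H0]
      rw [this, hD.sq, zero_mul]
    have e2 : F * T * (H0 * H0) = 0 := by
      have : F * T * (H0 * H0) = F * T * (D * D) := by
        rw [← mul_assoc, ← mul_assoc (F * T) D D, c2, ← hg2.eq, mul_assoc H0 (F * T) D, c2]
        rw [← mul_assoc H0 (F * T)]
      rw [this, hD.sq, mul_zero]
    have e3 : mid T F * (H0 * H0) * mid T F = 0 := by
      have h : mid T F * D * (D * mid T F) = mid T F * D * (T * F) * (D * mid T F) +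
          mid T F * D * (F * T * D * mid T F) + mid T F * D * mid T F * (mid T F * D * mid T F) := by
        conv_lhs => rw [split_left T F (D * mid T F), mul_add, mul_add]
        simp only [mul_assoc, d.rules]
      rw [k2, k1, zero_mul, mul_zero, zero_add, zero_add, c3, ← mul_assoc, mul_assoc (mid T F) D D, hD.sq,
        mul_zero, zero_mul] at h
      rw [h]
      conv_rhs => rw [mul_assoc (mid T F) H0 (mid T F), hg0.eq, ← mul_assoc (mid T F) (mid T F), d.mid_sq]
      simp only [mul_assoc]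
      rw [← hg0.eq]
    have e2' : H0 * H0 * (F * T) = 0 := by rw [(hg2.mul_left hg2).eq, e2]
    have e3' : H0 * H0 * mid T F = 0 := by
      rw [(hg0.mul_left hg0).eq, ← d.mid_sq, mul_assoc, ← (hg0.mul_left hg0).eq, ← mul_assoc, e3]
    rw [split_right T F (H0 * H0), e1, e2', e3', add_zero, add_zero]
  have hRt0 : Rt Y H0 := rt_of_mem hH2 (grp_le_Y T hhL) (by rw [hH0]; abel)
  by_cases h00 : H0 = 0
  · have hDw : D = Z := by rw [hdec, h00, mul_zero, add_zero, add_zero]
    exact fixed_unique_inW hp hG hT hF d hD hl (hDw ▸ hw.2) hfix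
  by_cases hmove : ∃ w ∈ wgrp (grp Y T) T, conjE w D ≠ D
  · obtain ⟨x, hx, hne⟩ := hmove
    set Δ := conjE x D - D with hΔ
    have hΔm : Δ ∈ rootSpace Y D hD.sq := Submodule.sub_mem _ (hfix x hx) (self_mem_rootSpace hD.rt)
    have hΔ0 : Δ ≠ 0 := sub_ne_zero.mpr hne
    set X := (x : End') - 1 with hX
    have e : Δ = (X * D - D * X) * ((x⁻¹ : GL) : End') := by
      calc Δ = (x : End') * D * ((x⁻¹ : GL) : End') - D * ((x : End') * ((x⁻¹ : GL) : End')) := by
            rw [Units.mul_inv, mul_one, hΔ]; rfl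
        _ = _ := by rw [hX]; noncomm_ring
    have hxT : Commute (x : End') T := val_conj_commute.mp (wgrp_fix hx)
    have hxi : Commute ((x⁻¹ : GL) : End') T := hxT.units_inv_left
    have hΔW : InW T Δ := by
      refine ⟨?_, ?_, fun m hm => ?_⟩
      · rw [e, mul_assoc, hxi.eq, ← mul_assoc, sub_mul, mul_assoc X D T, ← hTD, ← mul_assoc X T D, hx.2.mulT,
          zero_mul, mul_assoc D X T, hx.2.mulT, mul_zero, sub_zero, zero_mul]
      · rw [e, ← mul_assoc, mul_sub, ← mul_assoc T X D, hx.2.Tmul, zero_mul, ← mul_assoc T D X, hTD,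
          mul_assoc D T X, hx.2.Tmul, mul_zero, sub_zero, zero_mul]
      · rw [e, Module.End.mul_apply, LinearMap.sub_apply]
        have hm' : T (((x⁻¹ : GL) : End') m) = 0 := by
          rw [← Module.End.mul_apply, ← hxi.eq, Module.End.mul_apply, hm, map_zero]
        refine Submodule.sub_mem _ (hx.2.ker_le _ ?_) ?_
        · rw [← Module.End.mul_apply, hTD, Module.End.mul_apply, hm', map_zero]
        · obtain ⟨z, hz⟩ := hx.2.ker_le _ hm'
          refine ⟨D z, ?_⟩
          rw [Module.End.mul_apply, ← hz, ← Module.End.mul_apply, hTD, Module.End.mul_apply]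
    have hΔmin := hD.of_mem_rootSpace hΔm hΔ0
    have hΔl : Linked Y T Δ :=
      hl.trans (linked_of_mem h2 (card_ne_three hp) hG hD hΔm hΔ0)
    have hin' := fixed_unique_inW hp hG hT hF d hΔmin hΔl hΔW fun v hv => by
      rw [rootSpace_eq hD hΔm hΔ0]
      exact conj_member (Subgroup.le_normalizer (grp_le_Y T hv.1)) hD hD (hfix v hv) hΔm
    rw [← rootSpace_eq hT hin' hΔ0, rootSpace_eq hD hΔm hΔ0]
    exact self_mem_rootSpace hD.rt
  push Not at hmove
  exfalso
  -- the radical centralizes the weight zero part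
  have hkey : ∀ v ∈ wgrp (grp Y T) T, Commute (v : End') H0 := by
    intro v hv
    have hall : ∀ a : (ZMod p)ˣ, Commute (v : End') (conjE (d.tor a) D) := by
      intro a
      rw [← val_conj_commute, conjE_conjE, show v * d.tor a = d.tor a * ((d.tor a)⁻¹ * v * d.tor a) by group,
        ← conjE_conjE, hmove]
      have := tor_wgrp hp hG hT hF d a⁻¹ hv
      rwa [map_inv, inv_inv] at this
    set Dp := D + conjE (d.tor (-1)) D with hDp
    set B := T * F * D * mid T F + mid T F * D * (F * T) with hB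
    set C := T * F * D * (F * T) with hC
    have hsplit : D = H0 + B + C := by
      have f1 : T * F * D * (T * F) = H0 * (T * F) := by
        rw [mul_assoc, c1, hg1.eq, ← mul_assoc, d.ep_sq]
      have f2 : F * T * D * (F * T) = H0 * (F * T) := by
        rw [c2, ← hg2.eq, mul_assoc, d.em_sq]
      have f3 : mid T F * D * mid T F = H0 * mid T F := by rw [c3, ← hg0.eq, mul_assoc, d.mid_sq]
      conv_lhs => rw [split_left T F D, split_right T F (T * F * D), split_right T F (F * T * D),
        split_right T F (mid T F * D), f1, f2, f3, k1, k2, k3]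
      conv_rhs => rw [split_right T F H0]
      rw [hB, hC]; abel
    have hB1 : W1 T F B := d.w1_part D
    have hC2 : ∀ a : (ZMod p)ˣ, conjE (d.tor a) C = ((a : ZMod p) * a) • C := d.tor_top D
    have hH : Grd T F H0 := ⟨hg1, hg2⟩
    have hval : ∀ a : (ZMod p)ˣ, conjE (d.tor a) D = H0 + (a : ZMod p) • B + ((a : ZMod p) * a) • C := by
      intro a
      rw [hsplit, conjE_add, conjE_add, hH.tor d, hB1.tor d, hC2]
    set a := Units.mk0 (2 : ZMod p) h2 with ha
    have q1 := (hall 1).add_right (hall (-1))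
    have q2 := (hall a).add_right (hall (-a))
    have q := (q1.smul_right (4 : ZMod p)).sub_right q2
    rw [hval, hval, hval, hval] at q
    have e6 : (6 : ZMod p) • H0 = (4 : ZMod p) • (H0 + ((1 : (ZMod p)ˣ) : ZMod p) • B +
        (((1 : (ZMod p)ˣ) : ZMod p) * (1 : (ZMod p)ˣ)) • C +
        (H0 + ((-1 : (ZMod p)ˣ) : ZMod p) • B + (((-1 : (ZMod p)ˣ) : ZMod p) * (-1 : (ZMod p)ˣ)) • C)) -
        (H0 + (a : ZMod p) • B + ((a : ZMod p) * a) • C +
        (H0 + ((-a : (ZMod p)ˣ) : ZMod p) • B + (((-a : (ZMod p)ˣ) : ZMod p) * (-a : (ZMod p)ˣ)) • C)) := by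
      simp only [ha, Units.val_neg, Units.val_one, Units.val_mk0]
      module
    rw [← e6] at q
    have h6 : (6 : ZMod p) ≠ 0 := by
      rw [show (6 : ZMod p) = 2 * 3 by norm_num]
      exact mul_ne_zero h2 (three_ne hp)
    have := q.smul_right (6 : ZMod p)⁻¹
    rwa [inv_smul_smul₀ h6] at this
  have hrk : rk H0 ≤ rk D := by
    have hc1 : (F * T + mid T F) * D * (T * F) = 0 := by rw [add_mul, add_mul, k3, k2, add_zero]
    have hc2 : F * T * ((F * T + mid T F) * D) * mid T F = 0 := by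
      rw [← mul_assoc, mul_add, d.em_sq, d.em_mid, add_zero, k1]
    have r1 := rk_corner D (T * F) (F * T + mid T F) hc1
    have r2 := rk_corner ((F * T + mid T F) * D) (mid T F) (F * T) hc2
    have e1 : (F * T + mid T F) * D * mid T F = H0 * mid T F := by
      rw [add_mul, add_mul, k1, zero_add, c3, mul_assoc, hg0.eq, ← mul_assoc, d.mid_sq, ← hg0.eq]
    have e2 : F * T * ((F * T + mid T F) * D) = H0 * (F * T) := by
      rw [← mul_assoc, mul_add, d.em_sq, d.em_mid, add_zero, c2, hg2.eq]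
    rw [c1] at r1
    rw [e1, e2] at r2
    have r3 : rk H0 ≤ rk (H0 * (T * F)) + rk (H0 * mid T F) + rk (H0 * (F * T)) := by
      conv_lhs => rw [split_right T F H0, add_right_comm]
      exact (rk_add_le _ _).trans (Nat.add_le_add_right (rk_add_le _ _) _)
    omega
  have hm0 := hD.of_rk_le hRt0 h00 hrk
  have h0L : oneAdd H0 hm0.sq ∈ grp Y T := by
    rw [show oneAdd H0 hm0.sq = h from Units.ext (by rw [oneAdd_val, hH0]; abel)]
    exact hhL
  obtain ⟨x, hx, hnc⟩ := not_central hp hG hT hm0 h0L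
  apply hnc
  let Cz : Subgroup GL := ⊤ ⊓ Subgroup.centralizer {oneAdd H0 hm0.sq}
  have hC : ∀ {v : GL}, Commute (v : End') H0 → v ∈ Cz := fun {v} hv =>
    ⟨trivial, Subgroup.mem_centralizer_singleton_iff.mpr (Units.ext
      (((Commute.one_right _).add_right hv).eq))⟩
  have hFW : wgrp (grp Y T) F ≤ Cz := by
    intro v hv
    have hwl := wel_mem_grp hp hG hT hF d
    have h1 : d.wel⁻¹ * v * d.wel⁻¹⁻¹ ∈ wgrp (grp Y T) T := by
      refine wgrp_conj_mem hp hT (Subgroup.le_normalizer ((grp Y T).inv_mem hwl)) ?_ hF.2.1 hv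
      have e : conjE d.wel⁻¹ (conjE d.wel T) = T := by rw [conjE_conjE, inv_mul_cancel, conjE_one]
      rw [d.wel_T, conjE_neg, neg_eq_iff_eq_neg] at e
      rw [e]
      exact Submodule.neg_mem _ (self_mem_rootSpace hT.rt)
    have hcw : d.wel ∈ Cz := hC (by
      have hcT := (val_conj_commute.mp hhT).sub_left (Commute.one_left T)
      have hcF := (val_conj_commute.mp hhF).sub_left (Commute.one_left F)
      rw [d.wel_val]
      exact ((hcT.sub_right hcF).add_right hg0).symm)
    have := Cz.mul_mem (Cz.mul_mem hcw (hC (hkey _ h1))) (Cz.inv_mem hcw)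
    rwa [inv_inv, show d.wel * (d.wel⁻¹ * v * d.wel) * d.wel⁻¹ = v by group] at this
  have hxC : x ∈ Cz := (sup_le (fun v hv => hC (hkey v hv)) hFW) (grp_le_radicals hp hG hT hF d hx)
  have h' := congrArg (Units.val : _ → End') (Subgroup.mem_centralizer_singleton_iff.mp hxC.2)
  rw [Units.val_mul, Units.val_mul, oneAdd_val, mul_add, add_mul, mul_one, one_mul] at h'
  exact add_left_cancel h'

end Cfsg.Agent.H63.Flavell
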