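import Cfsg.Agent.H63.Flavell.Pair
import Cfsg.Agent.H42.Eqv.Components

/-!
The unipotent radical attached to a root: it acts transitively on the opposite root spaces and
fixes no further root space of its component.
-/

set_option autoImplicit false
set_option linter.unusedSectionVars false

namespace Cfsg.Agent.H63.Flavell

open Cfsg.Agent.H88 Matrix
open Cfsg.Agent.H42.Eqv (rt_of_mem rt_of_smul two_ne three_ne card_ne_three mem_X_of_coords)

universe u v

section general

variable {k : Type v} [Field k] {M : Type u} [AddCommGroup M] [Module k M]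

theorem conjE_sub (g : LinearMap.GeneralLinearGroup k M) (A B : Module.End k M) :
    conjE g (A - B) = conjE g A - conjE g B := by simp [conjE, mul_sub, sub_mul]

theorem conjE_neg (g : LinearMap.GeneralLinearGroup k M) (A : Module.End k M) :
    conjE g (-A) = -conjE g A := by simp [conjE]

/-- Identity on the image, image inside the kernel, kernel sent into the image. -/
structure InW (T Z : Module.End k M) : Prop where
  mulT : Z * T = 0
  Tmul : T * Z = 0
  ker_le : ∀ m, T m = 0 → Z m ∈ LinearMap.range T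

namespace InW

variable {T Z Z' : Module.End k M}

theorem zero : InW T (0 : Module.End k M) := ⟨zero_mul _, mul_zero _, fun _ _ => Submodule.zero_mem _⟩

theorem neg (h : InW T Z) : InW T (-Z) :=
  ⟨by rw [neg_mul, h.mulT, neg_zero], by rw [mul_neg, h.Tmul, neg_zero],
    fun m hm => (LinearMap.range T).neg_mem (h.ker_le m hm)⟩

theorem add (h : InW T Z) (h' : InW T Z') : InW T (Z + Z') :=
  ⟨by rw [add_mul, h.mulT, h'.mulT, add_zero], by rw [mul_add, h.Tmul, h'.Tmul, add_zero],
    fun m hm => (LinearMap.range T).add_mem (h.ker_le m hm) (h'.ker_le m hm)⟩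

theorem smul (h : InW T Z) (a : k) : InW T (a • Z) :=
  ⟨by rw [smul_mul_assoc, h.mulT, smul_zero], by rw [mul_smul_comm, h.Tmul, smul_zero],
    fun m hm => (LinearMap.range T).smul_mem a (h.ker_le m hm)⟩

theorem apply_range (h : InW T Z) {m : M} (hm : m ∈ LinearMap.range T) : Z m = 0 := by
  obtain ⟨x, rfl⟩ := hm
  exact congrArg (fun X : Module.End k M => X x) h.mulT

theorem apply_mem (h : InW T Z) (m : M) : T (Z m) = 0 :=
  congrArg (fun X : Module.End k M => X m) h.Tmul

theorem mul (h : InW T Z) (h' : InW T Z') : InW T (Z * Z') :=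
  ⟨by rw [mul_assoc, h'.mulT, mul_zero], by rw [← mul_assoc, h.Tmul, zero_mul],
    fun m hm => by
      rw [Module.End.mul_apply, h.apply_range (h'.ker_le m hm)]
      exact Submodule.zero_mem _⟩

/-- A product of two kills the kernel and lands in the image. -/
theorem mul_small (h : InW T Z) (h' : InW T Z') :
    LinearMap.ker T ≤ LinearMap.ker (Z * Z') ∧ LinearMap.range (Z * Z') ≤ LinearMap.range T :=
  ⟨fun m hm => h.apply_range (h'.ker_le m hm), by
    rintro _ ⟨m, rfl⟩; exact h.ker_le _ (h'.apply_mem m)⟩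

theorem cube (h : InW T Z) : Z * Z * Z = 0 :=
  LinearMap.ext fun m => h.apply_range (h.ker_le _ (h.apply_mem m))

theorem conj (h : InW T Z) (g : LinearMap.GeneralLinearGroup k M) : InW (conjE g T) (conjE g Z) := by
  refine ⟨by rw [conjE_mul, h.mulT, conjE_zero], by rw [conjE_mul, h.Tmul, conjE_zero], fun m hm => ?_⟩
  rw [← LinearMap.mem_ker, ker_conjE] at hm
  obtain ⟨x, hx, rfl⟩ := hm
  rw [range_conjE]
  refine ⟨Z x, h.ker_le x hx, ?_⟩
  show _ = (g : Module.End k M) (Z (((g⁻¹ : LinearMap.GeneralLinearGroup k M) : Module.End k M)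
    ((g : Module.End k M) x)))
  rw [← Module.End.mul_apply ((g⁻¹ : LinearMap.GeneralLinearGroup k M) : Module.End k M), Units.inv_mul,
    Module.End.one_apply]

theorem congr {T' : Module.End k M} (h : InW T Z) (hr : LinearMap.range T' = LinearMap.range T)
    (hk : LinearMap.ker T' = LinearMap.ker T) : InW T' Z := by
  refine ⟨LinearMap.ext fun m => h.apply_range (hr ▸ LinearMap.mem_range_self T' m),
    LinearMap.ext fun m => ?_, fun m hm => hr ▸ h.ker_le m ?_⟩
  · have : Z m ∈ LinearMap.ker T' := by rw [hk]; exact h.apply_mem m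
    exact this
  · have : m ∈ LinearMap.ker T := by rw [← hk]; exact hm
    exact this

theorem blocks {F : Module.End k M} (h : InW T Z) (d : Pr T F) :
    Z * (T * F) = 0 ∧ F * T * Z = 0 ∧ mid T F * Z * mid T F = 0 := by
  refine ⟨by rw [← mul_assoc, h.mulT, zero_mul], by rw [mul_assoc, h.Tmul, mul_zero], ?_⟩
  refine LinearMap.ext fun m => ?_
  obtain ⟨x, hx⟩ := h.ker_le (mid T F m) (congrArg (fun X : Module.End k M => X m) d.T_mid)
  show mid T F (Z (mid T F m)) = 0
  rw [← hx]
  exact congrArg (fun X : Module.End k M => X x) d.mid_T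

end InW

theorem inW_of_small {T Z : Module.End k M} (hT : T * T = 0) (hk : LinearMap.ker T ≤ LinearMap.ker Z)
    (hr : LinearMap.range Z ≤ LinearMap.range T) : InW T Z :=
  ⟨LinearMap.ext fun m => hk (congrArg (fun X : Module.End k M => X m) hT),
    LinearMap.ext fun m => by
      obtain ⟨x, hx⟩ := hr ⟨m, rfl⟩
      show T (Z m) = 0
      rw [← hx]
      exact congrArg (fun X : Module.End k M => X x) hT,
    fun m hm => by rw [LinearMap.mem_ker.mp (hk hm)]; exact Submodule.zero_mem _⟩

/-- The subgroup of `L` of the elements `1 + Z`. -/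
def wgrp (L : Subgroup (LinearMap.GeneralLinearGroup k M)) (T : Module.End k M) :
    Subgroup (LinearMap.GeneralLinearGroup k M) where
  carrier := {g | g ∈ L ∧ InW T ((g : Module.End k M) - 1)}
  one_mem' := ⟨L.one_mem, by rw [Units.val_one, sub_self]; exact InW.zero⟩
  mul_mem' := by
    rintro g h ⟨hg, hg'⟩ ⟨hh, hh'⟩
    refine ⟨L.mul_mem hg hh, ?_⟩
    rw [Units.val_mul, show (g : Module.End k M) * h - 1 =
      ((g : Module.End k M) - 1) + ((h : Module.End k M) - 1) + ((g : Module.End k M) - 1) * ((h : Module.End k M) - 1)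
      by noncomm_ring]
    exact (hg'.add hh').add (hg'.mul hh')
  inv_mem' := by
    rintro g ⟨hg, hg'⟩
    refine ⟨L.inv_mem hg, ?_⟩
    set Z := (g : Module.End k M) - 1 with hZ
    have e : ((g⁻¹ : LinearMap.GeneralLinearGroup k M) : Module.End k M) = 1 + (-Z + Z * Z) := by
      refine Units.inv_eq_of_mul_eq_one_right ?_
      rw [show (g : Module.End k M) = 1 + Z by rw [hZ]; abel,
        show (1 + Z) * (1 + (-Z + Z * Z)) = 1 + Z * Z * Z by noncomm_ring, hg'.cube, add_zero]
    rw [e, add_sub_cancel_left]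
    exact hg'.neg.add (hg'.mul hg')

theorem mem_wgrp {L : Subgroup (LinearMap.GeneralLinearGroup k M)} {T : Module.End k M}
    {g : LinearMap.GeneralLinearGroup k M} :
    g ∈ wgrp L T ↔ g ∈ L ∧ InW T ((g : Module.End k M) - 1) := Iff.rfl

theorem wgrp_le (L : Subgroup (LinearMap.GeneralLinearGroup k M)) (T : Module.End k M) : wgrp L T ≤ L :=
  fun _ h => h.1

/-- The radical centralizes the root. -/
theorem wgrp_fix {L : Subgroup (LinearMap.GeneralLinearGroup k M)} {T : Module.End k M}
    {g : LinearMap.GeneralLinearGroup k M} (hg : g ∈ wgrp L T) : conjE g T = T := by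
  rw [conjE_eq_iff]
  obtain ⟨-, h⟩ := hg
  have h1 := h.mulT
  have h2 := h.Tmul
  rw [sub_mul, one_mul, sub_eq_zero] at h1
  rw [mul_sub, mul_one, sub_eq_zero] at h2
  rw [h1, h2]

theorem wgrp_conj {L : Subgroup (LinearMap.GeneralLinearGroup k M)} {T T' : Module.End k M}
    {g w : LinearMap.GeneralLinearGroup k M}
    (hg : g ∈ Subgroup.normalizer (L : Set (LinearMap.GeneralLinearGroup k M)))
    (hr : LinearMap.range T' = LinearMap.range (conjE g T)) (hk : LinearMap.ker T' = LinearMap.ker (conjE g T))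
    (hw : w ∈ wgrp L T) : g * w * g⁻¹ ∈ wgrp L T' := by
  refine ⟨(Subgroup.mem_normalizer_iff.mp hg w).mp hw.1, ?_⟩
  rw [H42.Eqv.conjE_sub_one]
  exact (hw.2.conj g).congr hr hk

theorem Grd.inv {T F : Module.End k M} {g : LinearMap.GeneralLinearGroup k M}
    (h : Grd T F (g : Module.End k M)) :
    Grd T F ((g⁻¹ : LinearMap.GeneralLinearGroup k M) : Module.End k M) :=
  ⟨h.1.units_inv_left, h.2.units_inv_left⟩

theorem Grd.conj_range_ker {T F : Module.End k M} {g : LinearMap.GeneralLinearGroup k M}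
    (h : Grd T F (g : Module.End k M)) (d : Pr T F) :
    LinearMap.range (conjE g T) ≤ LinearMap.range T ∧ LinearMap.ker T ≤ LinearMap.ker (conjE g T) := by
  set gi := ((g⁻¹ : LinearMap.GeneralLinearGroup k M) : Module.End k M)
  have e1 : conjE g T = T * (F * conjE g T) := by
    calc conjE g T = (g : Module.End k M) * (T * F * T) * gi := by rw [d.TFT]; rfl
      _ = (g : Module.End k M) * (T * F) * (T * gi) := by simp only [mul_assoc]
      _ = T * F * (g : Module.End k M) * (T * gi) := by rw [h.1.eq]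
      _ = _ := by simp only [conjE, mul_assoc]; rfl
  have e2 : conjE g T = conjE g T * F * T := by
    calc conjE g T = (g : Module.End k M) * (T * F * T) * gi := by rw [d.TFT]; rfl
      _ = (g : Module.End k M) * T * (F * T * gi) := by simp only [mul_assoc]
      _ = (g : Module.End k M) * T * (gi * (F * T)) := by rw [← h.inv.2.eq]
      _ = _ := by simp only [conjE, mul_assoc]; rfl
  exact ⟨by rw [e1]; exact LinearMap.range_comp_le_range _ _, fun m hm => by
    rw [LinearMap.mem_ker, e2, Module.End.mul_apply, LinearMap.mem_ker.mp hm, map_zero]⟩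

end general

section prime

variable {p : ℕ} [Fact p.Prime] {M : Type u} [AddCommGroup M] [Module (ZMod p) M] [Finite M]
  {Y : Subgroup (LinearMap.GeneralLinearGroup (ZMod p) M)}

local notation "GL" => LinearMap.GeneralLinearGroup (ZMod p) M
local notation "End'" => Module.End (ZMod p) M

theorem wgrp_pow (hp : 5 ≤ p) {L : Subgroup GL} {T : End'} {g : GL} (hg : g ∈ wgrp L T) : g ^ p = 1 := by
  refine Units.ext ?_
  rcases subsingleton_or_nontrivial M with h | h
  · exact Subsingleton.elim _ _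
  have : CharP End' p :=
    charP_of_injective_algebraMap (algebraMap (ZMod p) End').injective p
  rw [Units.val_pow_eq_pow_val, Units.val_one, show (g : End') = 1 + ((g : End') - 1) by abel,
    add_pow_char_of_commute p (Commute.one_left _), one_pow,
    pow_eq_zero_of_le (by omega : 3 ≤ p) (by rw [pow_succ, pow_two]; exact hg.2.cube), add_zero]

theorem wgrp_isPGroup (hp : 5 ≤ p) (L : Subgroup GL) (T : End') : IsPGroup p (wgrp L T) :=
  fun g => ⟨1, Subtype.ext (by rw [pow_one, SubgroupClass.coe_pow]; exact wgrp_pow hp g.2)⟩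

variable (hp : 5 ≤ p) (hG : NoUnip Y)

theorem sub_one_inj {g : GL} (h : (g : End') - 1 = 0) : g = 1 := Units.ext (by simpa [sub_eq_zero] using h)

theorem opp_of_pr {T F : End'} (hT : IsMin Y T) (hF : IsMin Y F) (d : Pr T F) : Opp Y T F :=
  ⟨hT, hF, d.not_nilpotent hT.2.1⟩

theorem nilpotent_of_TZT {T Z : End'} (hT : T * T = 0) (hZ : Z * Z = 0) (h : T * Z * T = 0) :
    IsNilpotent (T * Z + Z * T) := isNilpotent_of_mul_mul T Z hT hZ h

include hp

theorem opp_of_ne {T Z : End'} (hT : IsMin Y T) (hZ : IsMin Y Z) (h : T * Z * T ≠ 0) : Opp Y T Z :=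
  ⟨hT, hZ, fun hn => h (classTwo (two_ne hp) hT hZ.rt hn)⟩

theorem opp_members {T Z T' Z' : End'} (h : Opp Y T Z) (hT' : T' ∈ rootSpace Y T h.1.sq) (hT0 : T' ≠ 0)
    (hZ' : Z' ∈ rootSpace Y Z h.2.1.sq) (hZ0 : Z' ≠ 0) : Opp Y T' Z' :=
  ⟨h.1.of_mem_rootSpace hT' hT0, h.2.1.of_mem_rootSpace hZ' hZ0,
    not_nilpotent_all (two_ne hp) (card_ne_three hp) h.1 h.2.1 (self_mem_rootSpace h.1.rt)
      (self_mem_rootSpace h.2.1.rt) h.2.2 hT' hT0 hZ' hZ0⟩

theorem exists_pr {T Z : End'} (h : Opp Y T Z) :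
    ∃ F, F ∈ rootSpace Y Z h.2.1.sq ∧ IsMin Y F ∧ Pr T F := by
  obtain ⟨c⟩ := exists_coords h.1.sq h.2.1.sq h.2.2
  obtain ⟨-, eT, -⟩ := pair_structure (two_ne hp) (card_ne_three hp) h.1 h.2.1 c
  set F := Z * c.ev c.xi with hF
  have hcT := c.commA c.xi
  have hcZ := c.commB c.xi
  have hsq : F * F = 0 := by
    rw [hF, mul_assoc, ← mul_assoc (c.ev c.xi) Z, ← hcZ.eq, mul_assoc Z (c.ev c.xi), ← mul_assoc Z Z,
      h.2.1.sq, zero_mul]
  have hTFT : T * F * T = T := by
    rw [hF, mul_assoc T, mul_assoc Z, ← hcT.eq, ← mul_assoc Z, ← mul_assoc T, ← mul_assoc T, ← c.A_C,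
      mul_assoc, c.C_mul_D, eT]
  have hFTF : F * T * F = F := by
    have e : F * T * F = Z * T * Z * (c.ev c.xi * c.ev c.xi) := by
      simp only [hF, mul_assoc]
      rw [← mul_assoc (c.ev c.xi) T, ← hcT.eq, mul_assoc T, ← mul_assoc (c.ev c.xi) Z, ← hcZ.eq, mul_assoc Z]
    rw [e, ← c.B_C, mul_assoc Z, ← mul_assoc (T * Z + Z * T), c.C_mul_D, c.P_mul]
  have hF0 : F ≠ 0 := fun e => h.1.2.1 (by rw [← hTFT, e, mul_zero, zero_mul])
  have hFm : F ∈ rootSpace Y Z h.2.1.sq := by
    refine ⟨rt_of_mem hsq (mem_X_of_coords hp h c _) (c.ψ_vv c.xi), fun m hm => ?_,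
      LinearMap.range_comp_le_range _ _⟩
    rw [LinearMap.mem_ker, hF, hcZ.eq, Module.End.mul_apply, LinearMap.mem_ker.mp hm, map_zero]
  exact ⟨F, hFm, h.2.1.of_mem_rootSpace hFm hF0, h.1.sq, hsq, hTFT, hFTF⟩

theorem pr_unique {T Z F F' : End'} (h : Opp Y T Z) (hF : F ∈ rootSpace Y Z h.2.1.sq)
    (hF' : F' ∈ rootSpace Y Z h.2.1.sq) (d : Pr T F) (d' : Pr T F') : F = F' := by
  by_contra hne
  have hm := Submodule.sub_mem _ hF hF'
  have h0 : T * (F - F') * T = 0 := by rw [mul_sub, sub_mul, d.TFT, d'.TFT, sub_self]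
  exact (opp_members hp h (self_mem_rootSpace h.1.rt) h.1.2.1 hm (sub_ne_zero.mpr hne)).2.2
    (nilpotent_of_TZT h.1.sq hm.1.sq h0)

include hG

theorem oneAdd_mem_grp {T C : End'} (hT : IsMin Y T) (hl : Linked Y T C) {X : End'}
    (hX : X ∈ rootSpace Y C (hl.isMin hT).sq) : oneAdd X hX.1.1 ∈ grp Y T :=
  rootGroup_le_grp (two_ne hp) (card_ne_three hp) hG hT hl (oneAdd_mem_rootGroup hX)

theorem oneAdd_mem_wgrp {T X : End'} (hT : IsMin Y T) (hX : X ∈ rootSpace Y T hT.sq) :
    oneAdd X hX.1.1 ∈ wgrp (grp Y T) T := by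
  refine ⟨oneAdd_mem_grp hp hG hT Relation.ReflTransGen.refl hX, ?_⟩
  rw [oneAdd_val, add_sub_cancel_left]
  exact inW_of_small hT.sq hX.2.1 hX.2.2

theorem hom_mem_grp {T F : End'} (hT : IsMin Y T) (hF : IsMin Y F) (d : Pr T F) : d.hom.range ≤ grp Y T :=
  d.range_hom_le
    (fun x => oneAdd_mem_grp hp hG hT Relation.ReflTransGen.refl
      (Submodule.smul_mem _ x (self_mem_rootSpace hT.rt)))
    (fun x => oneAdd_mem_grp hp hG hT (Relation.ReflTransGen.single (opp_of_pr hT hF d))
      (Submodule.smul_mem _ x (self_mem_rootSpace hF.rt)))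

theorem tor_mem_grp {T F : End'} (hT : IsMin Y T) (hF : IsMin Y F) (d : Pr T F) (a : (ZMod p)ˣ) :
    d.tor a ∈ grp Y T := hom_mem_grp hp hG hT hF d ⟨_, rfl⟩

theorem wel_mem_grp {T F : End'} (hT : IsMin Y T) (hF : IsMin Y F) (d : Pr T F) : d.wel ∈ grp Y T :=
  hom_mem_grp hp hG hT hF d ⟨_, rfl⟩

omit hp hG in
theorem grp_le_Y (T : End') : grp Y T ≤ Y := H42.Eqv.grp_le T

/-- The radical is transitive on the normalized partners. -/
theorem exists_trans {T F F' : End'} (hT : IsMin Y T) (hF : IsMin Y F) (hF' : IsMin Y F')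
    (d : Pr T F) (d' : Pr T F') : ∃ w ∈ wgrp (grp Y T) T, conjE w F = F' := by
  have hTP : ∀ {F : End'}, Pr T F → T * (T * F + F * T) = T ∧ (T * F + F * T) * T = T := by
    intro F d
    constructor
    · rw [mul_add, ← mul_assoc, d.sqT, zero_mul, zero_add, ← mul_assoc, d.TFT]
    · rw [add_mul, d.TFT, mul_assoc F T T, d.sqT, mul_zero, add_zero]
  have hval : ∀ {F : End'} (d : Pr T F), ((d.tor (-1) : GL) : End') = 1 - 2 • (T * F + F * T) := by
    intro F d
    rw [d.tor_val, inv_neg, inv_one, Units.val_neg, Units.val_one, mid]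
    simp only [neg_smul, one_smul]
    abel
  set t := d.tor (-1) with ht
  set t' := d'.tor (-1) with ht'
  have hsq : t * t = 1 := by rw [ht, ← map_mul, neg_mul_neg, one_mul, map_one]
  have hsq' : t' * t' = 1 := by rw [ht', ← map_mul, neg_mul_neg, one_mul, map_one]
  set P := T * F + F * T with hP
  set P' := T * F' + F' * T with hP'
  have hv : ((t : GL) : End') = 1 - 2 • P := hval d
  have hv' : ((t' : GL) : End') = 1 - 2 • P' := hval d'
  have hw : t * t' ∈ wgrp (grp Y T) T := by
    refine ⟨(grp Y T).mul_mem (tor_mem_grp hp hG hT hF d _) (tor_mem_grp hp hG hT hF' d' _), ?_⟩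
    rw [Units.val_mul, hv, hv', show (1 - 2 • P) * (1 - 2 • P') - 1 =
      4 • (P * P') - 2 • P - 2 • P' by noncomm_ring]
    have hK : ∀ {F : End'}, ∀ m, T m = 0 → (T * F + F * T) m ∈ LinearMap.range T := fun {F} m hm => by
      rw [LinearMap.add_apply, Module.End.mul_apply, Module.End.mul_apply F T, hm, map_zero, add_zero]
      exact LinearMap.mem_range_self T _
    refine ⟨?_, ?_, fun m hm => ?_⟩
    · simp only [sub_mul, smul_mul_assoc, mul_assoc, (hTP d').2, (hTP d).2, ← hP, ← hP']
      rw [(hTP d').2, (hTP d).2]; abel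
    · simp only [mul_sub, mul_smul_comm, ← mul_assoc]
      rw [(hTP d).1, (hTP d').1]; abel
    · simp only [LinearMap.sub_apply, LinearMap.smul_apply, Module.End.mul_apply]
      refine Submodule.sub_mem _ (Submodule.sub_mem _ (Submodule.smul_of_tower_mem _ _ ?_)
        (Submodule.smul_of_tower_mem _ _ (hK m hm))) (Submodule.smul_of_tower_mem _ _ (hK m hm))
      obtain ⟨x, hx⟩ := hK (F := F') m hm
      show P (P' m) ∈ _
      rw [show P' m = T x from hx.symm, ← Module.End.mul_apply, (hTP d).2]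
      exact LinearMap.mem_range_self T _
  set w := t * t' with hwd
  set n := (p + 1) / 2 with hn
  have hodd : 2 * n = p + 1 := by
    have := (Fact.out : p.Prime).odd_of_ne_two (by omega)
    obtain ⟨j, hj⟩ := this
    omega
  have hexp : w ^ p = 1 := wgrp_pow hp hw
  have ht1 : t⁻¹ = t := inv_eq_of_mul_eq_one_left hsq
  have ht1' : t'⁻¹ = t' := inv_eq_of_mul_eq_one_left hsq'
  have hkey : (w ^ n)⁻¹ * t * w ^ n = t' := by
    have e1 : t * w * t⁻¹ = w⁻¹ := by
      rw [hwd, _root_.mul_inv_rev, ht1', ← mul_assoc t t, hsq, one_mul, ht1]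
    have e2 : t * w ^ n * t⁻¹ = (w ^ n)⁻¹ := by rw [← conj_pow, e1, inv_pow]
    rw [mul_assoc, show t * w ^ n = (w ^ n)⁻¹ * t by rw [← e2, inv_mul_cancel_right], ← mul_assoc,
      ← _root_.mul_inv_rev, ← pow_add, ← two_mul, hodd, pow_succ, hexp, one_mul, hwd, _root_.mul_inv_rev,
      ht1', ht1, mul_assoc, hsq, mul_one]
  set c := (w ^ n)⁻¹ with hc
  have hcW : c ∈ wgrp (grp Y T) T := (wgrp (grp Y T) T).inv_mem ((wgrp (grp Y T) T).pow_mem hw n)
  set F1 := conjE c F with hF1
  have d1 : Pr T F1 := by have := d.conj c; rwa [wgrp_fix hcW] at this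
  have hP1 : T * F1 + F1 * T = P' := by
    have e : conjE c P = T * F1 + F1 * T := by
      rw [hP, conjE_add, ← conjE_mul, ← conjE_mul, wgrp_fix hcW]
    have e' : conjE c ((t : GL) : End') = ((t' : GL) : End') := by
      rw [conjE, ← Units.val_mul, ← Units.val_mul, ← hkey]
      rw [hc, inv_inv]
    rw [hv, hv', conjE_sub, two_smul, conjE_add, e, two_smul] at e'
    rw [show conjE c (1 : End') = 1 by simp [conjE]] at e'
    have e'' := sub_right_injective e'
    rw [← two_smul (ZMod p), ← two_smul (ZMod p) P'] at e''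
    exact smul_right_injective End' (two_ne hp) e''
  have hF1m : IsMin Y F1 := hF.conj (grp_le_Y T hcW.1)
  set S := T * F' - T * F1 with hS
  have hSk : LinearMap.ker T ≤ LinearMap.ker S := fun m hm => by
    have h1 : ∀ {G : End'}, (T * G) m = (T * G + G * T) m := fun {G} => by
      rw [LinearMap.add_apply, Module.End.mul_apply G T, LinearMap.mem_ker.mp hm, map_zero, add_zero]
    rw [LinearMap.mem_ker, hS, LinearMap.sub_apply, h1, h1, hP1, ← hP', sub_self]
  have hSr : LinearMap.range S ≤ LinearMap.range T := by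
    rw [hS, ← mul_sub]; exact LinearMap.range_comp_le_range _ _
  have hST : S * T = 0 := LinearMap.ext fun m => hSk (congrArg (fun X : End' => X m) hT.sq)
  have hTS : T * S = 0 := by rw [hS, ← mul_sub, ← mul_assoc, hT.sq, zero_mul]
  have hS2 : S * S = 0 := LinearMap.ext fun m => by
    obtain ⟨x, hx⟩ := hSr ⟨m, rfl⟩
    show S (S m) = 0
    rw [← hx]
    exact congrArg (fun X : End' => X x) hST
  have hSR : Rt Y S := by
    have a2 : ∀ {F : End'} (d : Pr T F) (hF : IsMin Y F),
        d.tor (Units.mk0 2 (two_ne hp)) ∈ Y := fun d hF =>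
      grp_le_Y T (tor_mem_grp hp hG hT hF d _)
    have g1 := a2 d' hF'
    have g2 := Y.inv_mem (a2 d1 hF1m)
    refine rt_of_smul (c := (2 : ZMod p) * 2 - 1) ?_ hS2 (Y.mul_mem g1 g2) ?_
    · rw [show (2 : ZMod p) * 2 - 1 = 3 by ring]; exact three_ne hp
    · set π := T * F1 with hπ
      set π' := T * F' with hπ'
      have p1 : π' * π = π := by rw [hπ, hπ', ← mul_assoc, d'.TFT]
      have p2 : π * π' = π' := by rw [hπ, hπ', ← mul_assoc, d1.TFT]
      rw [Units.val_mul, ← map_inv, d'.tor_val, d1.tor_val, ← hπ, ← hπ']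
      have q1 : F1 * T = P' - π := by rw [← hP1, hπ]; abel
      have q2 : F' * T = P' - π' := by rw [hP', hπ']; abel
      have q3 : mid T F1 = 1 - P' := by rw [mid, q1, hπ]; abel
      have q4 : mid T F' = 1 - P' := by rw [mid, q2, hπ']; abel
      have s1 : π' * π' = π' := d'.ep_sq
      have s2 : π * π = π := d1.ep_sq
      have s3 : P' * P' = P' := d'.sum_idem
      have s4 : π' * P' = π' := by
        have h0 : π' * (F' * T) = 0 := d'.ep_em
        rw [hP', mul_add, s1, h0, add_zero]
      have s5 : P' * π = π := by rw [hπ, ← mul_assoc, (hTP d').2]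
      simp only [q1, q2, q3, q4, inv_inv, Units.val_inv_eq_inv_val, Units.val_mk0]
      simp only [smul_sub, add_mul, mul_add, mul_sub, sub_mul, smul_mul_assoc, mul_smul_comm, smul_smul,
        one_mul, mul_one, p1, s3, s4, s5, mul_inv_cancel₀ (two_ne hp), inv_mul_cancel₀ (two_ne hp), one_smul]
      have h2 := two_ne (p := p) hp
      match_scalars <;> field_simp <;> ring
  have hSm : S ∈ rootSpace Y T hT.sq := ⟨hSR, hSk, hSr⟩
  have hmS := Submodule.neg_mem _ hSm
  set e := oneAdd (-S) hmS.1.1 with he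
  have heW : e ∈ wgrp (grp Y T) T := oneAdd_mem_wgrp hp hG hT hmS
  refine ⟨e * c, (wgrp (grp Y T) T).mul_mem heW hcW, ?_⟩
  rw [← conjE_conjE, ← hF1]
  set F2 := conjE e F1 with hF2
  have d2 : Pr T F2 := by have := d1.conj e; rwa [wgrp_fix heW] at this
  have hev : F2 = (1 + -S) * F1 * (1 - -S) := conjE_oneAdd _ _ _
  have e1 : T * F2 = T * F' := by
    rw [hev, sub_neg_eq_add, ← mul_assoc, ← mul_assoc, mul_add T, mul_one, mul_neg, hTS, neg_zero, add_zero,
      mul_add, mul_one]
    have : T * F1 * S = S := LinearMap.ext fun m => by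
      obtain ⟨x, hx⟩ := hSr ⟨m, rfl⟩
      rw [Module.End.mul_apply, ← hx, ← Module.End.mul_apply, d1.TFT]
    rw [this, hS]; abel
  have e2 : F2 * T = F' * T := by
    rw [hev, sub_neg_eq_add, mul_assoc, add_mul (1 : End') S T, one_mul, hST, add_zero, mul_assoc,
      add_mul (1 : End'), one_mul, neg_mul]
    have q1 : F1 * T = P' - T * F1 := by rw [← hP1]; abel
    have : S * (F1 * T) = S := by
      refine (sub_eq_zero.mp ?_).symm
      rw [show S - S * (F1 * T) = S * (1 - F1 * T) by rw [mul_sub, mul_one]]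
      refine apply_eq_zero_of_range_le_ker (le_trans ?_ hSk)
      rintro _ ⟨m, rfl⟩
      show T ((1 - F1 * T) m) = 0
      rw [← Module.End.mul_apply, mul_sub, mul_one, ← mul_assoc, d1.TFT, sub_self, LinearMap.zero_apply]
    rw [this, q1, hP', hS]; abel
  calc F2 = F2 * T * F2 := d2.FTF.symm
    _ = F' * T * F2 := by rw [e2]
    _ = F' * (T * F') := by rw [mul_assoc, e1]
    _ = F' := by rw [← mul_assoc, d'.FTF]

end prime

end Cfsg.Agent.H63.Flavell
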